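import Mathlib
import Cfsg.Prelude.Def_CaseTheorems
import Cfsg.Agent.Lib.Helper73.CyclicIndexTwo

/-!
# Reductions for groups whose Sylow `2`-intersections have rank one
-/

set_option autoImplicit false

namespace Cfsg.Agent.Lib.Helper73

open QuaternionGroup

/-- the rank bound passes to any group which embeds -/
theorem pRankLE_of_injective {H K : Type*} [Group H] [Group K] (f : H →* K)
    (hf : Function.Injective f) (p k : ℕ) (h : Cfsg.PRankLE p k K) : Cfsg.PRankLE p k H := by
  intro A hA hexp
  have h1 := h (A.map f) inferInstance (by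
    rintro _ ⟨x, hx, rfl⟩
    rw [← map_pow, hexp x hx, map_one])
  rwa [Subgroup.card_map_of_injective hf] at h1

/-- a `2`-group of rank one has a single subgroup of order two -/
theorem unique_involution_of_pRank {Q : Type*} [Group Q] [Finite Q] (h2 : IsPGroup 2 Q)
    (hr : Cfsg.PRankLE 2 1 Q) :
    ∀ H K : Subgroup Q, Nat.card H = 2 → Nat.card K = 2 → H = K := by
  have : Fact (Nat.Prime 2) := ⟨Nat.prime_two⟩
  intro H K hH hK
  have hnt : (⊤ : Subgroup Q) ≠ ⊥ := by
    intro h
    have : H = ⊥ := by rw [eq_bot_iff, ← h]; exact le_top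
    rw [this, Subgroup.card_bot] at hH; omega
  obtain ⟨z, -, hz2, hzc⟩ := exists_central_involution h2 ⊤ hnt
  have hzz : z ^ 2 = 1 := by rw [← hz2]; exact pow_orderOf_eq_one z
  have key : ∀ u : Q, u ^ 2 = 1 → u = 1 ∨ u = z := by
    intro u hu
    have hcomm : IsMulCommutative (Subgroup.closure ({z, u} : Set Q)) := by
      rw [← Subgroup.le_centralizer_iff_isMulCommutative, Subgroup.closure_le]
      rintro x (rfl | hx)
      · rw [SetLike.mem_coe, Subgroup.mem_centralizer_iff]
        intro h _
        exact hzc h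
      · rw [Set.mem_singleton_iff] at hx
        subst hx
        rw [SetLike.mem_coe, Subgroup.mem_centralizer_iff]
        intro h hh
        have hle : Subgroup.closure ({z, x} : Set Q) ≤ Subgroup.centralizer {x} := by
          rw [Subgroup.closure_le]
          rintro y (rfl | hy)
          · rw [SetLike.mem_coe, Subgroup.mem_centralizer_iff]
            intro h hh
            rw [Set.mem_singleton_iff] at hh
            rw [hh]; exact hzc x
          · rw [Set.mem_singleton_iff] at hy
            subst hy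
            rw [SetLike.mem_coe, Subgroup.mem_centralizer_iff]
            intro h hh
            rw [Set.mem_singleton_iff] at hh
            rw [hh]
        have h3 := hle hh
        rw [Subgroup.mem_centralizer_iff] at h3
        exact (h3 x rfl).symm
    have hexp : ∀ x ∈ Subgroup.closure ({z, u} : Set Q), x ^ 2 = 1 := by
      intro x hx
      induction hx using Subgroup.closure_induction with
      | mem x hx =>
        rcases hx with rfl | hx
        · exact hzz
        · rw [Set.mem_singleton_iff] at hx; rw [hx]; exact hu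
      | one => simp
      | mul x y hx hy hx2 hy2 =>
        have hc : x * y = y * x :=
          congrArg Subtype.val (hcomm.is_comm.comm
            (⟨x, hx⟩ : Subgroup.closure ({z, u} : Set Q)) ⟨y, hy⟩)
        rw [(show Commute x y from hc).mul_pow, hx2, hy2, one_mul]
      | inv x hx hx2 => rw [inv_pow, hx2, inv_one]
    have hcard := hr _ hcomm hexp
    have hzle : Subgroup.zpowers z ≤ Subgroup.closure ({z, u} : Set Q) :=
      Subgroup.zpowers_le.mpr (Subgroup.subset_closure (by simp))
    have hzcard : Nat.card (Subgroup.zpowers z) = 2 := by rw [Nat.card_zpowers, hz2]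
    have heq : Subgroup.zpowers z = Subgroup.closure ({z, u} : Set Q) :=
      Subgroup.eq_of_le_of_card_ge hzle (by rw [hzcard]; simpa using hcard)
    have hu' : u ∈ Subgroup.zpowers z := by
      rw [heq]; exact Subgroup.subset_closure (by simp)
    obtain ⟨k, rfl⟩ := Subgroup.mem_zpowers_iff.mp hu'
    exact zpow_eq_one_or_self_of_sq hzz k
  have hsub : ∀ H : Subgroup Q, Nat.card H = 2 → H = Subgroup.zpowers z := by
    intro H hH
    symm
    apply Subgroup.eq_of_le_of_card_ge
    · rw [Subgroup.zpowers_le]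
      obtain ⟨h, hh⟩ := exists_prime_orderOf_dvd_card' (G := H) 2 (by rw [hH])
      have h1 : (h : Q) ^ 2 = 1 := by
        rw [← Subgroup.coe_pow, ← hh, pow_orderOf_eq_one]; rfl
      rcases key _ h1 with h2 | h2
      · exfalso
        have : h = 1 := Subtype.ext h2
        rw [this, orderOf_one] at hh; omega
      · rw [← h2]; exact h.2
    · rw [hH, Nat.card_zpowers, hz2]
  rw [hsub H hH, hsub K hK]

/-- a finite group is a `2`-group as soon as a self-centralizing normal `2`-subgroup has a
`2`-group of automorphisms -/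
theorem isPGroup_two_of_mulAut {X : Type*} [Group X] (Q : Subgroup X) [Q.Normal]
    (hQ2 : IsPGroup 2 Q) (hC : Subgroup.centralizer (Q : Set X) ≤ Q)
    (hA : IsPGroup 2 (MulAut Q)) : IsPGroup 2 X := by
  intro g
  obtain ⟨k, hk⟩ := hA (MulAut.conjNormal g)
  have hmem : g ^ 2 ^ k ∈ Q := by
    apply hC
    rw [Subgroup.mem_centralizer_iff]
    intro h hh
    have h1 : (MulAut.conjNormal (g ^ 2 ^ k) : MulAut Q) = 1 := by rw [map_pow, hk]
    have h2 : (((MulAut.conjNormal (g ^ 2 ^ k) : MulAut Q) ⟨h, hh⟩ : Q) : X) = h := by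
      rw [h1]; rfl
    rw [MulAut.conjNormal_apply] at h2
    calc h * g ^ 2 ^ k = (g ^ 2 ^ k * h * (g ^ 2 ^ k)⁻¹) * g ^ 2 ^ k := by rw [h2]
      _ = g ^ 2 ^ k * h := by group
  obtain ⟨l, hl⟩ := hQ2 ⟨g ^ 2 ^ k, hmem⟩
  refine ⟨k + l, ?_⟩
  have h3 := congrArg Subtype.val hl
  simp only [Subgroup.coe_pow, Subgroup.coe_one] at h3
  rw [pow_add, pow_mul]; exact h3

/-- the automorphism group of a generalized quaternion group of order at least `16` is a
`2`-group -/
theorem quat_mulAut_isPGroup (n : ℕ) (hn : 2 ≤ n) :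
    IsPGroup 2 (MulAut (QuaternionGroup (2 ^ n))) := by
  have hm4 : 4 ≤ 2 ^ n := by
    calc 4 = 2 ^ 2 := rfl
      _ ≤ 2 ^ n := Nat.pow_le_pow_right (by norm_num) hn
  have L1 : ∀ σ : MulAut (QuaternionGroup (2 ^ n)), ∃ u, σ (a 1) = a u := by
    intro σ
    have ho : orderOf (σ (a 1)) = 2 * 2 ^ n := by rw [MulEquiv.orderOf_eq, orderOf_a_one]
    cases h : σ (a 1) with
    | a u => exact ⟨u, rfl⟩
    | xa u => rw [h, orderOf_xa] at ho; omega
  have hpow : ∀ (u : ZMod (2 * 2 ^ n)) (r : ℕ),
      (a u : QuaternionGroup (2 ^ n)) ^ r = a (u * (r : ZMod (2 * 2 ^ n))) := by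
    intro u r
    induction r with
    | zero => rw [pow_zero, Nat.cast_zero, mul_zero, a_zero]
    | succ r ih => rw [pow_succ, ih, a_mul_a]; congr 1; push_cast; ring
  have L2 : ∀ (σ : MulAut (QuaternionGroup (2 ^ n))) (u : ZMod (2 * 2 ^ n)),
      σ (a 1) = a u → ∀ k, σ (a k) = a (u * k) := by
    intro σ u hu k
    have hk : (a k : QuaternionGroup (2 ^ n)) = a 1 ^ k.val := by
      rw [a_one_pow, ZMod.natCast_zmod_val]
    rw [hk, map_pow, hu, hpow, ZMod.natCast_zmod_val]
  have L3 : ∀ σ : MulAut (QuaternionGroup (2 ^ n)), ∃ v, σ (xa 0) = xa v := by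
    intro σ
    cases h : σ (xa 0) with
    | xa v => exact ⟨v, rfl⟩
    | a w =>
      exfalso
      obtain ⟨u', hu'⟩ := L1 σ⁻¹
      have h1 := L2 σ⁻¹ u' hu' w
      rw [← h, MulAut.inv_apply_self] at h1
      cases h1
  have L5 : ∀ τ : MulAut (QuaternionGroup (2 ^ n)), τ (a 1) = a 1 → τ ^ (2 * 2 ^ n) = 1 := by
    intro τ hτ
    have ha : ∀ k, τ (a k) = a k := fun k => by rw [L2 τ 1 hτ k, one_mul]
    obtain ⟨w, hw⟩ := L3 τ
    have hxa : ∀ k, τ (xa k) = xa (w + k) := by
      intro k
      have : (xa k : QuaternionGroup (2 ^ n)) = xa 0 * a k := by rw [xa_mul_a, zero_add]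
      rw [this, map_mul, hw, ha, xa_mul_a]
    have hr : ∀ r : ℕ, (∀ k, (τ ^ r) (a k) = a k) ∧ ∀ k, (τ ^ r) (xa k) = xa ((r : ZMod (2 * 2 ^ n)) * w + k) := by
      intro r
      induction r with
      | zero => exact ⟨fun k => by simp, fun k => by simp⟩
      | succ r ih =>
        refine ⟨fun k => ?_, fun k => ?_⟩
        · rw [pow_succ', MulAut.mul_apply, ih.1, ha]
        · rw [pow_succ', MulAut.mul_apply, ih.2, hxa]; congr 1; push_cast; ring
    ext x
    cases x with
    | a k => rw [(hr _).1]; rfl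
    | xa k => rw [(hr _).2, ZMod.natCast_self, zero_mul, zero_add]; rfl
  intro σ
  obtain ⟨u, hu⟩ := L1 σ
  have L6 : ∀ r : ℕ, (σ ^ r) (a 1) = a (u ^ r) := by
    intro r
    induction r with
    | zero => simp
    | succ r ih => rw [pow_succ', MulAut.mul_apply, ih, L2 σ u hu, pow_succ']
  obtain ⟨u', hu'⟩ := L1 σ⁻¹
  have huu : u * u' = 1 := by
    have h1 := L2 σ u hu u'
    rw [← hu', MulAut.apply_inv_self] at h1
    exact (QuaternionGroup.a.inj h1).symm
  have hupow : u ^ 2 ^ n = 1 := by
    have hcardU : Fintype.card (ZMod (2 * 2 ^ n))ˣ = 2 ^ n := by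
      rw [ZMod.card_units_eq_totient, ← pow_succ', Nat.totient_prime_pow_succ Nat.prime_two]
      simp
    have h1 := pow_card_eq_one (x := Units.mkOfMulEqOne u u' huu)
    rw [hcardU] at h1
    have h2 := congrArg Units.val h1
    simpa using h2
  have h3 : (σ ^ 2 ^ n) (a 1) = a 1 := by rw [L6, hupow]
  refine ⟨n + (n + 1), ?_⟩
  rw [pow_add, pow_succ' 2 n, pow_mul]
  exact L5 _ h3

end Cfsg.Agent.Lib.Helper73
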