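import Mathlib

set_option autoImplicit false

namespace Cfsg.Agent.Lib.Helper73

universe u

theorem commute_of_coprime_orderOf_aux (G : Type u) [Group G] [Group.IsNilpotent G] :
    Finite G → ∀ x y : G, Nat.Coprime (orderOf x) (orderOf y) → x * y = y * x := by
  refine Group.nilpotent_center_quotient_ind
    (P := fun G _ _ => Finite G → ∀ x y : G, Nat.Coprime (orderOf x) (orderOf y) → x * y = y * x)
    G ?_ ?_
  · intro G _ _ _ x y _
    rw [Subsingleton.elim x y]
  · intro G _ _ ih hfin x y hxy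
    have hq : Finite (G ⧸ Subgroup.center G) := inferInstance
    have h1 := ih hq (QuotientGroup.mk' _ x) (QuotientGroup.mk' _ y)
      (Nat.Coprime.coprime_dvd_left (orderOf_map_dvd _ x)
        (Nat.Coprime.coprime_dvd_right (orderOf_map_dvd _ y) hxy))
    obtain ⟨c, hcdef⟩ : ∃ c : G, c = x * y * x⁻¹ * y⁻¹ := ⟨_, rfl⟩
    have hc : c ∈ Subgroup.center G := by
      rw [← QuotientGroup.eq_one_iff, hcdef]
      have h2 : ((x * y * x⁻¹ * y⁻¹ : G) : G ⧸ Subgroup.center G)
          = QuotientGroup.mk' _ x * QuotientGroup.mk' _ y * (QuotientGroup.mk' _ x)⁻¹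
            * (QuotientGroup.mk' _ y)⁻¹ := rfl
      rw [h2, h1]
      group
    have hcc : ∀ g, g * c = c * g := Subgroup.mem_center_iff.mp hc
    have e1 : x * y * x⁻¹ = c * y := by rw [hcdef]; group
    have e2 : ∀ k : ℕ, x * y ^ k * x⁻¹ = c ^ k * y ^ k := by
      intro k
      have h3 : x * y ^ k * x⁻¹ = (x * y * x⁻¹) ^ k := (conj_pow (a := x) (b := y) (i := k)).symm
      have h4 : Commute c y := (hcc y).symm
      rw [h3, e1, h4.mul_pow]
    have h3 : c ^ orderOf y = 1 := by
      have := e2 (orderOf y)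
      rw [pow_orderOf_eq_one, mul_one, mul_inv_cancel, mul_one] at this
      exact this.symm
    have e3 : y * x * y⁻¹ = c⁻¹ * x := by rw [hcdef]; group
    have e4 : ∀ k : ℕ, y * x ^ k * y⁻¹ = (c⁻¹) ^ k * x ^ k := by
      intro k
      have h5 : y * x ^ k * y⁻¹ = (y * x * y⁻¹) ^ k := (conj_pow (a := y) (b := x) (i := k)).symm
      have h7 : Commute c x := (hcc x).symm
      have h6 : Commute c⁻¹ x := h7.inv_left
      rw [h5, e3, h6.mul_pow]
    have h4 : c ^ orderOf x = 1 := by
      have := e4 (orderOf x)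
      rw [pow_orderOf_eq_one, mul_one, mul_inv_cancel, mul_one, inv_pow] at this
      exact inv_eq_one.mp this.symm
    have h5 : orderOf c ∣ Nat.gcd (orderOf x) (orderOf y) :=
      Nat.dvd_gcd (orderOf_dvd_of_pow_eq_one h4) (orderOf_dvd_of_pow_eq_one h3)
    have h6 : Nat.gcd (orderOf x) (orderOf y) = 1 := hxy
    rw [h6, Nat.dvd_one, orderOf_eq_one_iff] at h5
    calc x * y = (x * y * x⁻¹ * y⁻¹) * (y * x) := by group
      _ = y * x := by rw [← hcdef, h5, one_mul]

/-- In a finite nilpotent group, elements of coprime orders commute. -/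
theorem commute_of_coprime_orderOf {G : Type u} [Group G] [Group.IsNilpotent G] [Finite G]
    (x y : G) (h : Nat.Coprime (orderOf x) (orderOf y)) : x * y = y * x :=
  commute_of_coprime_orderOf_aux G inferInstance x y h

/-- A finite nilpotent group all of whose Sylow subgroups are abelian is abelian. -/
theorem exists_sylow_not_comm {G : Type u} [Group G] [Finite G] [Group.IsNilpotent G]
    (hna : ¬ IsMulCommutative G) :
    ∃ (p : ℕ) (_ : Fact p.Prime) (P : Sylow p G), ¬ IsMulCommutative ↥(P : Subgroup G) := by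
  by_contra hcon
  push Not at hcon
  apply hna
  have hnil : Group.IsNilpotent G := inferInstance
  obtain ⟨e⟩ := ((Group.isNilpotent_of_finite_tfae (G := G)).out 0 4).mp hnil
  refine ⟨⟨fun x y => ?_⟩⟩
  obtain ⟨u, rfl⟩ := e.surjective x
  obtain ⟨v, rfl⟩ := e.surjective y
  rw [← map_mul, ← map_mul]
  congr 1
  funext p P
  have hp : Fact (p : ℕ).Prime := ⟨Nat.prime_of_mem_primeFactors p.2⟩
  have := hcon p hp P
  exact mul_comm' (u p P) (v p P)

/-- Chinese remainder for a pair of elements of coprime orders. -/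
theorem exists_pow_prod_eq {Q Z : Type*} [Group Q] [Group Z] (g : Q) (z : Z)
    (hcop : Nat.Coprime (orderOf g) (orderOf z)) (e t : ℕ) :
    ∃ s : ℕ, ((g, z) : Q × Z) ^ s = (g ^ e, z ^ t) := by
  obtain ⟨s, hs1, hs2⟩ := Nat.chineseRemainder hcop e t
  refine ⟨s, ?_⟩
  rw [Prod.pow_mk]
  exact Prod.ext (pow_eq_pow_iff_modEq.mpr hs1) (pow_eq_pow_iff_modEq.mpr hs2)

end Cfsg.Agent.Lib.Helper73
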