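import Mathlib
import Cfsg.Agent.Lib.Helper73.NilpotentCoprime

/-!
# Central elements of prime order in finite nilpotent groups

* `exists_center_orderOf_eq_prime`: a finite nilpotent group of order divisible by the prime `r`
  has a central element of order `r`.
* `eq_top_of_forall_sylow_le`: a subgroup containing a Sylow subgroup for every prime is `⊤`.
-/

set_option autoImplicit false

universe u

namespace Cfsg.Agent.Lib.Helper73

/-- A subgroup of a finite group containing a Sylow `s`-subgroup for every prime `s` is the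
whole group. -/
theorem eq_top_of_forall_sylow_le {G : Type u} [Group G] [Finite G] (C : Subgroup G)
    (h : ∀ (s : ℕ) [Fact s.Prime], ∃ S : Sylow s G, (S : Subgroup G) ≤ C) : C = ⊤ := by
  rw [← Subgroup.index_eq_one, Nat.eq_one_iff_not_exists_prime_dvd]
  intro s hs hdvd
  haveI : Fact s.Prime := ⟨hs⟩
  obtain ⟨S, hS⟩ := h s
  exact S.not_dvd_index (hdvd.trans (Subgroup.index_dvd_of_le hS))

/-- A finite nilpotent group whose order is divisible by the prime `r` has a central element of
order `r`. -/
theorem exists_center_orderOf_eq_prime {N : Type u} [Group N] [Finite N] [Group.IsNilpotent N]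
    (r : ℕ) [Fact r.Prime] (hr : r ∣ Nat.card N) :
    ∃ z : N, z ∈ Subgroup.center N ∧ orderOf z = r := by
  have hrp : r.Prime := Fact.out
  obtain ⟨P⟩ : Nonempty (Sylow r N) := inferInstance
  have hPne : (P : Subgroup N) ≠ ⊥ := P.ne_bot_of_dvd_card hr
  have hPnt : Nontrivial ↥(P : Subgroup N) := (Subgroup.nontrivial_iff_ne_bot _).mpr hPne
  have hPG : IsPGroup r ↥(P : Subgroup N) := P.isPGroup'
  have hZnt : Nontrivial (Subgroup.center ↥(P : Subgroup N)) := hPG.center_nontrivial
  have hZdvd : r ∣ Nat.card (Subgroup.center ↥(P : Subgroup N)) := by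
    obtain ⟨k, hk⟩ := (hPG.to_subgroup (Subgroup.center ↥(P : Subgroup N))).exists_card_eq
    rcases Nat.eq_zero_or_pos k with h0 | hpos
    · rw [h0, pow_zero] at hk
      have := Finite.one_lt_card (α := Subgroup.center ↥(P : Subgroup N))
      omega
    · rw [hk]
      exact dvd_pow_self r (by omega)
  obtain ⟨z, hz⟩ := exists_prime_orderOf_dvd_card' r hZdvd
  have hzo : orderOf ((z : ↥(P : Subgroup N)) : N) = r := by
    rw [Subgroup.orderOf_coe, Subgroup.orderOf_coe, hz]
  refine ⟨((z : ↥(P : Subgroup N)) : N), ?_, hzo⟩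
  -- the centralizer of `z` contains a Sylow subgroup for every prime
  have hC : Subgroup.centralizer ({((z : ↥(P : Subgroup N)) : N)} : Set N) = ⊤ := by
    apply eq_top_of_forall_sylow_le
    intro s _
    by_cases hsr : s = r
    · subst hsr
      refine ⟨P, ?_⟩
      intro x hx
      rw [Subgroup.mem_centralizer_singleton_iff]
      have h1 := Subgroup.mem_center_iff.mp z.2 ⟨x, hx⟩
      have h2 := congrArg (Subtype.val : ↥(P : Subgroup N) → N) h1
      simpa using h2
    · obtain ⟨S⟩ : Nonempty (Sylow s N) := inferInstance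
      refine ⟨S, ?_⟩
      intro x hx
      rw [Subgroup.mem_centralizer_singleton_iff]
      apply commute_of_coprime_orderOf
      obtain ⟨k, hk⟩ := (IsPGroup.iff_orderOf.mp S.isPGroup') ⟨x, hx⟩
      rw [Subgroup.orderOf_mk] at hk
      rw [hk, hzo]
      apply Nat.Coprime.pow_left
      exact (Nat.coprime_primes (Fact.out : s.Prime) hrp).mpr hsr
  rw [Subgroup.mem_center_iff]
  intro g
  have hg : g ∈ Subgroup.centralizer ({((z : ↥(P : Subgroup N)) : N)} : Set N) := by
    rw [hC]; trivial
  exact Subgroup.mem_centralizer_singleton_iff.mp hg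

end Cfsg.Agent.Lib.Helper73
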