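import Mathlib
import Cfsg.Agent.Lib.Helper73.D8Cent

/-!
# Involution centralizer dihedral of order eight: structure without a perfectness hypothesis
-/

set_option autoImplicit false

namespace Cfsg.Agent.Lib.Helper73

open DihedralGroup

theorem d8g_structure {G : Type*} [Group G] [Finite G] (t : G)
    (ht : orderOf t = 2) (e : Subgroup.centralizer ({t} : Set G) ≃* DihedralGroup 4) :
    ∃ f : DihedralGroup 4 →* G, Function.Injective f ∧ f (r 2) = t ∧
      (∀ x : G, x * t = t * x → ∃ d, f d = x) ∧ (∀ d, f d * t = t * f d) ∧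
      Nat.card {y : G // y * t * y⁻¹ = t} = 8 ∧
      Nat.card {y : G // y * f (r 1) * y⁻¹ = f (r 1)} = 4 ∧
      (∃ m : ℕ, Odd m ∧ Nat.card G = 8 * m) ∧
      (∃ P : Sylow 2 G, (P : Subgroup G) = Subgroup.centralizer ({t} : Set G)) ∧
      ((∀ M : Subgroup G, M.Normal → M.index ≠ 2) → ∀ u : G, orderOf u = 2 → IsConj u t) ∧
      ((∀ i : ZMod 4, IsConj t (f (sr i))) →
        Nat.card {g : G // orderOf (g * t * g⁻¹ * t) = 2} = 32 ∧
        Nat.card {g : G // orderOf (g * t * g⁻¹ * f (r 1)) = 2} = 32) := by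
  classical
  haveI : Fact (Nat.Prime 2) := ⟨Nat.prime_two⟩
  obtain ⟨D, hD⟩ : ∃ D : Subgroup G, D = Subgroup.centralizer ({t} : Set G) := ⟨_, rfl⟩
  subst hD
  set D : Subgroup G := Subgroup.centralizer ({t} : Set G) with hD
  have ht2 : t * t = 1 := by rw [← pow_two, ← ht, pow_orderOf_eq_one]
  have ht1 : t ≠ 1 := by intro h; rw [h, orderOf_one] at ht; omega
  have htinv : t⁻¹ = t := inv_eq_of_mul_eq_one_left ht2
  have hmemD : ∀ x : G, x ∈ D ↔ x * t = t * x := by
    intro x; rw [hD, Subgroup.mem_centralizer_singleton_iff]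
  have htD : t ∈ D := (hmemD t).mpr rfl
  -- the embedding of the dihedral group
  obtain ⟨f, hf⟩ : ∃ f : DihedralGroup 4 →* G, f = D.subtype.comp e.symm.toMonoidHom := ⟨_, rfl⟩
  have hfinj : Function.Injective f := by
    rw [hf]; exact Subtype.val_injective.comp e.symm.injective
  have hfD : ∀ d, f d ∈ D := by intro d; rw [hf]; exact (e.symm d).2
  have hfe : ∀ (x : G) (hx : x ∈ D), f (e ⟨x, hx⟩) = x := by
    intro x hx; rw [hf]; simp
  have hft : f (r 2) = t := by
    have hc : ∀ y : DihedralGroup 4, e ⟨t, htD⟩ * y = y * e ⟨t, htD⟩ := by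
      intro y
      apply hfinj
      rw [map_mul, map_mul, hfe]
      exact ((hmemD _).mp (hfD y)).symm
    rcases d8f_center _ hc with h | h
    · exfalso
      have := hfe t htD
      rw [h, map_one] at this
      exact ht1 this.symm
    · rw [← h]; exact hfe t htD
  obtain ⟨σ, hσ⟩ : ∃ σ : G, σ = f (r 1) := ⟨_, rfl⟩
  have hσσ : σ * σ = t := by rw [hσ, ← map_mul, d8f_r1_sq, hft]
  have hσinv : σ⁻¹ = f (r 3) := by rw [hσ, ← map_inv, d8f_r1_inv]
  have hσD : σ ∈ D := by rw [hσ]; exact hfD _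
  have hσ4 : orderOf σ = 4 := by
    have h1 : ¬ σ ^ 2 ^ 1 = 1 := by
      rw [pow_one, pow_two, hσσ]; exact ht1
    have h2 : σ ^ 2 ^ (1 + 1) = 1 := by
      have : σ ^ 2 ^ (1 + 1) = (σ * σ) * (σ * σ) := by
        rw [show 2 ^ (1 + 1) = 4 from rfl]; simp only [pow_succ, pow_zero, one_mul, mul_assoc]
      rw [this, hσσ, ht2]
    have := orderOf_eq_prime_pow h1 h2
    simpa using this
  -- centralizer counts
  have hDcard : Nat.card D = 8 := by rw [Nat.card_congr e.toEquiv, DihedralGroup.nat_card]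
  have hcardt : Nat.card {y : G // y * t * y⁻¹ = t} = 8 := by
    rw [← hDcard]
    refine Nat.card_congr (Equiv.subtypeEquivRight (fun y => ?_))
    rw [hmemD, mul_inv_eq_iff_eq_mul]
  have hcommσ : ∀ y : G, y * σ * y⁻¹ = σ → y ∈ D := by
    intro y hy
    rw [hmemD]
    have h1 : y * σ = σ * y := mul_inv_eq_iff_eq_mul.mp hy
    rw [← hσσ, ← mul_assoc, h1, mul_assoc, h1, mul_assoc]
  have hcardσ : Nat.card {y : G // y * σ * y⁻¹ = σ} = 4 := by
    rw [← d8f_card_cent]
    symm
    refine Nat.card_congr (Equiv.ofBijective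
      (fun d : {d : DihedralGroup 4 // d * r 1 = r 1 * d} =>
        (⟨f d.1, by
          rw [hσ, ← map_mul, d.2, map_mul]; group⟩ : {y : G // y * σ * y⁻¹ = σ})) ⟨?_, ?_⟩)
    · intro d₁ d₂ h
      exact Subtype.ext (hfinj (congrArg Subtype.val h))
    · rintro ⟨y, hy⟩
      have hyD := hcommσ y hy
      refine ⟨⟨e ⟨y, hyD⟩, ?_⟩, Subtype.ext (hfe y hyD)⟩
      apply hfinj
      rw [map_mul, map_mul, hfe, ← hσ]
      exact mul_inv_eq_iff_eq_mul.mp hy
  -- the centralizer is a Sylow subgroup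
  have hDp : IsPGroup 2 D := IsPGroup.of_card (n := 3) (by rw [hDcard]; norm_num)
  obtain ⟨P, hDP⟩ := hDp.exists_le_sylow
  have hPD : (P : Subgroup G) ≤ D := by
    haveI : Nontrivial ↥(P : Subgroup G) :=
      ⟨⟨⟨t, hDP htD⟩, 1, fun h => ht1 (congrArg Subtype.val h)⟩⟩
    haveI := IsPGroup.center_nontrivial (P.isPGroup')
    obtain ⟨z, hz1⟩ := exists_ne (1 : Subgroup.center ↥(P : Subgroup G))
    have hzc : ∀ x ∈ (P : Subgroup G), x * ((z : ↥(P : Subgroup G)) : G) =
        ((z : ↥(P : Subgroup G)) : G) * x := by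
      intro x hx
      have := Subgroup.mem_center_iff.mp z.2 ⟨x, hx⟩
      exact congrArg Subtype.val this
    obtain ⟨z₀, hz₀⟩ : ∃ z₀ : G, z₀ = ((z : ↥(P : Subgroup G)) : G) := ⟨_, rfl⟩
    rw [← hz₀] at hzc
    have hz₀D : z₀ ∈ D := (hmemD z₀).mpr (hzc t (hDP htD)).symm
    have hc : ∀ y : DihedralGroup 4, e ⟨z₀, hz₀D⟩ * y = y * e ⟨z₀, hz₀D⟩ := by
      intro y
      apply hfinj
      rw [map_mul, map_mul, hfe]
      exact (hzc _ (hDP (hfD y))).symm
    have hz₀t : z₀ = t := by
      rcases d8f_center _ hc with h | h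
      · exfalso
        have h2 := hfe z₀ hz₀D
        rw [h, map_one] at h2
        apply hz1
        apply Subtype.ext
        apply Subtype.ext
        rw [← hz₀, ← h2]; rfl
      · rw [← hfe z₀ hz₀D, h, hft]
    intro x hx
    rw [hmemD, ← hz₀t]
    exact hzc x hx
  have hPeq : (P : Subgroup G) = D := le_antisymm hPD hDP
  have hPcard : Nat.card ↥(P : Subgroup G) = 8 := by rw [hPeq]; exact hDcard
  -- the order of G
  have hord : ∃ m : ℕ, Odd m ∧ Nat.card G = 8 * m := by
    have h1 := P.card_eq_multiplicity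
    rw [hPcard] at h1
    have h3 : (Nat.card G).factorization 2 = 3 := by
      have : (2 : ℕ) ^ 3 = 2 ^ (Nat.card G).factorization 2 := by rw [← h1]; norm_num
      exact (Nat.pow_right_injective (le_refl 2) this).symm
    have h4 := Nat.ordProj_mul_ordCompl_eq_self (Nat.card G) 2
    have h5 := Nat.not_dvd_ordCompl Nat.prime_two (Nat.card_pos (α := G)).ne'
    rw [h3] at h4 h5
    refine ⟨Nat.card G / 2 ^ 3, ?_, ?_⟩
    · rw [Nat.odd_iff]; omega
    · rw [← h4]; norm_num
  -- fusion of involutions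
  have hQP : Subgroup.zpowers σ ≤ (P : Subgroup G) := by
    rw [hPeq, Subgroup.zpowers_le]; exact hσD
  have hQi : (Subgroup.zpowers σ).relIndex (P : Subgroup G) = 2 := by
    have h1 := Subgroup.relIndex_mul_relIndex ⊥ (Subgroup.zpowers σ) (P : Subgroup G) bot_le hQP
    rw [Subgroup.relIndex_bot_left, Subgroup.relIndex_bot_left, hPcard, Nat.card_zpowers, hσ4] at h1
    omega
  have hfus : (∀ M : Subgroup G, M.Normal → M.index ≠ 2) → ∀ u : G, orderOf u = 2 → IsConj u t := by
    intro hno u hu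
    by_contra hnc
    obtain ⟨M, hMn, hMi, -⟩ := Cfsg.Agent.Lib.Helper53.thompson_transfer P (Subgroup.zpowers σ)
      hQP hQi u hu (by
        intro g hg
        apply hnc
        obtain ⟨y, hy⟩ : ∃ y : G, y = g * u * g⁻¹ := ⟨_, rfl⟩
        rw [← hy] at hg
        have hyo : orderOf y = 2 := by rw [hy, Cfsg.Agent.Lib.Helper53.orderOf_conj_eq]; exact hu
        have hy2 : y * y = 1 := by rw [← pow_two, ← hyo, pow_orderOf_eq_one]
        have hy1 : y ≠ 1 := by intro h; rw [h, orderOf_one] at hyo; omega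
        have hyσ : y * σ = σ * y := by
          obtain ⟨k, hk⟩ := Subgroup.mem_zpowers_iff.mp hg
          rw [← hk]
          exact ((Commute.refl σ).zpow_left k).eq
        have hyD : y ∈ D := hcommσ y (by rw [hyσ]; group)
        have hd := d8f_cent_invol (e ⟨y, hyD⟩) (by
            apply hfinj
            rw [map_mul, map_mul, hfe, ← hσ, hyσ])
          (by apply hfinj; rw [map_mul, hfe, hy2, map_one])
          (by
            intro h
            have h2 := hfe y hyD
            rw [h, map_one] at h2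
            exact hy1 h2.symm)
        have hyt : y = t := by rw [← hfe y hyD, hd, hft]
        exact isConj_iff.mpr ⟨g, by rw [← hy, hyt]⟩)
    exact hno M hMn hMi
  -- the reflections
  have hsr : ∀ i : ZMod 4, orderOf (f (sr i)) = 2 := by
    intro i
    rw [orderOf_injective f hfinj, DihedralGroup.orderOf_sr]
  have hL1 : ∀ x : G, orderOf x = 2 → (orderOf (x * t) = 2 ↔ ∃ i : ZMod 4, x = f (sr i)) := by
    intro x hxo
    have hx2 : x * x = 1 := by rw [← pow_two, ← hxo, pow_orderOf_eq_one]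
    have hx1 : x ≠ 1 := by intro h; rw [h, orderOf_one] at hxo; omega
    have hxinv : x⁻¹ = x := inv_eq_of_mul_eq_one_left hx2
    constructor
    · intro ho
      have h2 : (x * t) * (x * t) = 1 := by rw [← pow_two, ← ho, pow_orderOf_eq_one]
      have hxt : x * t = t * x := by
        have h3 : x * t = (x * t)⁻¹ := (inv_eq_of_mul_eq_one_left h2).symm
        rw [mul_inv_rev, htinv, hxinv] at h3
        exact h3
      have hxD : x ∈ D := (hmemD x).mpr hxt
      rcases d8f_invol (e ⟨x, hxD⟩) (by apply hfinj; rw [map_mul, hfe, hx2, map_one])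
        (by
          intro h
          have h2 := hfe x hxD
          rw [h, map_one] at h2
          exact hx1 h2.symm) with h | ⟨i, hi⟩
      · exfalso
        have hxt' : x = t := by rw [← hfe x hxD, h, hft]
        rw [hxt', ht2, orderOf_one] at ho
        omega
      · exact ⟨i, by rw [← hi, hfe]⟩
    · rintro ⟨i, rfl⟩
      rw [← hft, ← map_mul, d8f_sr_r2]
      exact hsr _
  have hL2 : ∀ x : G, orderOf x = 2 → (orderOf (x * σ) = 2 ↔ ∃ i : ZMod 4, x = f (sr i)) := by
    intro x hxo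
    have hx2 : x * x = 1 := by rw [← pow_two, ← hxo, pow_orderOf_eq_one]
    have hx1 : x ≠ 1 := by intro h; rw [h, orderOf_one] at hxo; omega
    have hxinv : x⁻¹ = x := inv_eq_of_mul_eq_one_left hx2
    constructor
    · intro ho
      have h2 : (x * σ) * (x * σ) = 1 := by rw [← pow_two, ← ho, pow_orderOf_eq_one]
      have hxσ : x * σ * x⁻¹ = σ⁻¹ := by
        rw [hxinv]
        have : x * σ * x = (x * σ) * (x * σ) * σ⁻¹ := by group
        rw [this, h2, one_mul]
      have hxt : x * t = t * x := by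
        have h3 : x * t * x⁻¹ = t := by
          have : x * t * x⁻¹ = (x * σ * x⁻¹) * (x * σ * x⁻¹) := by rw [← hσσ]; group
          rw [this, hxσ, ← mul_inv_rev, hσσ, htinv]
        exact mul_inv_eq_iff_eq_mul.mp h3
      have hxD : x ∈ D := (hmemD x).mpr hxt
      obtain ⟨i, hi⟩ := d8f_inverts (e ⟨x, hxD⟩) (by
        apply hfinj
        rw [map_mul, map_mul, map_inv, hfe, ← hσ, hxσ, hσinv])
      exact ⟨i, by rw [← hi, hfe]⟩
    · rintro ⟨i, rfl⟩
      rw [hσ, ← map_mul, d8f_sr_r1]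
      exact hsr _
  -- counting
  have hcount : (∀ i : ZMod 4, IsConj t (f (sr i))) →
      Nat.card {g : G // ∃ i : ZMod 4, g * t * g⁻¹ = f (sr i)} = 32 := by
    intro hfr
    have h1 : Nat.card (Σ i : ZMod 4, {g : G // g * t * g⁻¹ = f (sr i)}) = 32 := by
      rw [Nat.card_sigma]
      have : ∀ i : ZMod 4, Nat.card {g : G // g * t * g⁻¹ = f (sr i)} = 8 := by
        intro i
        rw [d8c_fibre_card t _ (hfr i), hcardt]
      rw [Finset.sum_congr rfl (fun i _ => this i)]
      simp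
    rw [← h1]
    symm
    refine Nat.card_congr (Equiv.ofBijective
      (fun p : (Σ i : ZMod 4, {g : G // g * t * g⁻¹ = f (sr i)}) =>
        (⟨p.2.1, p.1, p.2.2⟩ : {g : G // ∃ i : ZMod 4, g * t * g⁻¹ = f (sr i)})) ⟨?_, ?_⟩)
    · rintro ⟨i, g, hg⟩ ⟨i', g', hg'⟩ h
      have hgg : g = g' := congrArg Subtype.val h
      subst hgg
      have hii : i = i' := by
        have := hfinj (hg.symm.trans hg')
        injection this
      subst hii
      rfl
    · rintro ⟨g, i, hg⟩
      exact ⟨⟨i, g, hg⟩, rfl⟩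
  have hconjo : ∀ g : G, orderOf (g * t * g⁻¹) = 2 := by
    intro g; rw [Cfsg.Agent.Lib.Helper53.orderOf_conj_eq]; exact ht
  subst hσ
  refine ⟨f, hfinj, hft, ?_, ?_, hcardt, hcardσ, hord, ⟨P, hPeq⟩, hfus, ?_⟩
  · intro x hx
    exact ⟨e ⟨x, (hmemD x).mpr hx⟩, hfe x _⟩
  · intro d
    exact (hmemD _).mp (hfD d)
  · intro hfr
    refine ⟨?_, ?_⟩
    · rw [← hcount hfr]
      exact Nat.card_congr (Equiv.subtypeEquivRight (fun g => hL1 _ (hconjo g)))
    · rw [← hcount hfr]
      exact Nat.card_congr (Equiv.subtypeEquivRight (fun g => hL2 _ (hconjo g)))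

end Cfsg.Agent.Lib.Helper73
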