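import Mathlib

/-!
# Arithmetic for the dihedral-centralizer order formula
-/

set_option autoImplicit false

namespace Cfsg.Agent.Lib.Helper73

open Finset

/-- an integer vector with square sum three has exactly three non-zero entries, all `±1` -/
theorem d8a_sq3 {ι : Type*} [Fintype ι] [DecidableEq ι] (d : ι → ℤ) (h : ∑ i, d i ^ 2 = 3) :
    (univ.filter (fun i => d i ≠ 0)).card = 3 ∧ ∀ i, d i = 0 ∨ d i = 1 ∨ d i = -1 := by
  have hv : ∀ i, d i = 0 ∨ d i = 1 ∨ d i = -1 := by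
    intro i
    have h1 : d i ^ 2 ≤ ∑ j, d j ^ 2 :=
      Finset.single_le_sum (f := fun j => d j ^ 2) (fun j _ => sq_nonneg (d j)) (Finset.mem_univ i)
    rw [h] at h1
    have h2 : -1 ≤ d i := by nlinarith
    have h3 : d i ≤ 1 := by nlinarith
    omega
  refine ⟨?_, hv⟩
  have h1 : ∀ i, d i ^ 2 = if d i ≠ 0 then 1 else 0 := by
    intro i
    rcases hv i with h0 | h0 | h0 <;> simp [h0]
  rw [Finset.sum_congr rfl (fun i _ => h1 i), Finset.sum_boole] at h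
  exact_mod_cast h

/-- a sum supported on five distinct indices -/
theorem d8a_sum5 {ι M : Type*} [Fintype ι] [DecidableEq ι] [AddCommMonoid M] (F : ι → M)
    (i₀ p q u v : ι) (h1 : p ≠ i₀) (h2 : q ≠ i₀) (h3 : u ≠ i₀) (h4 : v ≠ i₀) (h5 : p ≠ q)
    (h6 : p ≠ u) (h7 : p ≠ v) (h8 : q ≠ u) (h9 : q ≠ v) (h10 : u ≠ v)
    (hz : ∀ j, j ≠ i₀ → j ≠ p → j ≠ q → j ≠ u → j ≠ v → F j = 0) :
    ∑ i, F i = F i₀ + (F p + (F q + (F u + F v))) := by
  rw [← Finset.sum_subset (Finset.subset_univ ({i₀, p, q, u, v} : Finset ι)) (fun j _ hj => by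
    simp only [Finset.mem_insert, Finset.mem_singleton, not_or] at hj
    exact hz j hj.1 hj.2.1 hj.2.2.1 hj.2.2.2.1 hj.2.2.2.2)]
  rw [Finset.sum_insert (by simp [h1.symm, h2.symm, h3.symm, h4.symm]),
    Finset.sum_insert (by simp [h5, h6, h7]), Finset.sum_insert (by simp [h8, h9]),
    Finset.sum_pair h10]

/-- the five characters -/
theorem d8a_five {ι : Type*} [Fintype ι] [DecidableEq ι] (a b : ι → ℤ) (i₀ : ι)
    (h0a : a i₀ = 1) (h0b : b i₀ = 1) (hpar : ∀ i, ∃ d, a i + b i = 2 * d)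
    (haa : ∑ i, a i ^ 2 = 8) (hbb : ∑ i, b i ^ 2 = 4) (hab : ∑ i, a i * b i = 0) :
    ∃ (p q u v : ι) (e₁ e₂ e₃ e₄ : ℤ),
      p ≠ i₀ ∧ q ≠ i₀ ∧ u ≠ i₀ ∧ v ≠ i₀ ∧ p ≠ q ∧ p ≠ u ∧ p ≠ v ∧ q ≠ u ∧ q ≠ v ∧ u ≠ v ∧
      (e₁ = 1 ∨ e₁ = -1) ∧ (e₂ = 1 ∨ e₂ = -1) ∧ (e₃ = 1 ∨ e₃ = -1) ∧ (e₄ = 1 ∨ e₄ = -1) ∧
      a p = 2 * e₁ ∧ b p = 0 ∧ a q = e₂ ∧ b q = e₂ ∧ a u = e₃ ∧ b u = -e₃ ∧
      a v = e₄ ∧ b v = -e₄ ∧
      ∀ j, j ≠ i₀ → j ≠ p → j ≠ q → j ≠ u → j ≠ v → a j = 0 ∧ b j = 0 := by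
  choose d hd using hpar
  obtain ⟨c, hc⟩ : ∃ c : ι → ℤ, c = fun i => a i - d i := ⟨_, rfl⟩
  have hac : ∀ i, a i = c i + d i := by intro i; rw [hc]; ring
  have hbc : ∀ i, b i = d i - c i := by intro i; rw [hc]; have := hd i; linarith
  have hdd : ∑ i, d i ^ 2 = 3 := by
    have h1 : ∑ i, d i ^ 2 * 4 = ∑ i, (a i ^ 2 + 2 * (a i * b i) + b i ^ 2) := by
      refine Finset.sum_congr rfl (fun i _ => ?_)
      rw [hac, hbc]; ring
    rw [← Finset.sum_mul, Finset.sum_add_distrib, Finset.sum_add_distrib, ← Finset.mul_sum, haa,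
      hab, hbb] at h1
    linarith
  have hcc : ∑ i, c i ^ 2 = 3 := by
    have h1 : ∑ i, c i ^ 2 * 4 = ∑ i, (a i ^ 2 - 2 * (a i * b i) + b i ^ 2) := by
      refine Finset.sum_congr rfl (fun i _ => ?_)
      rw [hac, hbc]; ring
    rw [← Finset.sum_mul, Finset.sum_add_distrib, Finset.sum_sub_distrib, ← Finset.mul_sum, haa,
      hab, hbb] at h1
    linarith
  have hcd : ∑ i, c i * d i = 1 := by
    have h1 : ∑ i, c i * d i * 4 = ∑ i, (a i ^ 2 - b i ^ 2) := by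
      refine Finset.sum_congr rfl (fun i _ => ?_)
      rw [hac, hbc]; ring
    rw [← Finset.sum_mul, Finset.sum_sub_distrib, haa, hbb] at h1
    linarith
  have hd0 : d i₀ = 1 := by have := hd i₀; rw [h0a, h0b] at this; linarith
  have hc0 : c i₀ = 0 := by rw [hc]; simp only; rw [h0a, hd0]; ring
  obtain ⟨hdcard, hdv⟩ := d8a_sq3 d hdd
  obtain ⟨hccard, hcv⟩ := d8a_sq3 c hcc
  have hi₀ : i₀ ∈ univ.filter (fun i => d i ≠ 0) := by simp [hd0]
  have h2 : ((univ.filter (fun i => d i ≠ 0)).erase i₀).card = 2 := by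
    rw [Finset.card_erase_of_mem hi₀, hdcard]
  obtain ⟨p, q, hpq, hSd⟩ := Finset.card_eq_two.mp h2
  have hp : p ≠ i₀ ∧ d p ≠ 0 := by
    have : p ∈ (univ.filter (fun i => d i ≠ 0)).erase i₀ := by rw [hSd]; simp
    simpa using this
  have hq : q ≠ i₀ ∧ d q ≠ 0 := by
    have : q ∈ (univ.filter (fun i => d i ≠ 0)).erase i₀ := by rw [hSd]; simp
    simpa using this
  have hdsupp : ∀ j, d j ≠ 0 → j = i₀ ∨ j = p ∨ j = q := by
    intro j hj
    by_cases hj0 : j = i₀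
    · exact Or.inl hj0
    · have : j ∈ (univ.filter (fun i => d i ≠ 0)).erase i₀ := by simp [hj0, hj]
      rw [hSd] at this
      simp only [Finset.mem_insert, Finset.mem_singleton] at this
      exact Or.inr this
  have hsum : c p * d p + c q * d q = 1 := by
    rw [← hcd, ← Finset.sum_subset (Finset.subset_univ ({i₀, p, q} : Finset ι)) (fun j _ hj => by
      simp only [Finset.mem_insert, Finset.mem_singleton, not_or] at hj
      have : d j = 0 := by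
        by_contra h
        rcases hdsupp j h with h | h | h
        · exact hj.1 h
        · exact hj.2.1 h
        · exact hj.2.2 h
      rw [this, mul_zero])]
    rw [Finset.sum_insert (by simp [hp.1.symm, hq.1.symm]), Finset.sum_pair hpq, hc0, zero_mul,
      zero_add]
  -- the symmetric core
  have main : ∀ p q : ι, p ≠ i₀ → q ≠ i₀ → p ≠ q → d p ≠ 0 → d q ≠ 0 →
      (∀ j, d j ≠ 0 → j = i₀ ∨ j = p ∨ j = q) → c p = d p → c q = 0 →
      ∃ (p q u v : ι) (e₁ e₂ e₃ e₄ : ℤ),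
      p ≠ i₀ ∧ q ≠ i₀ ∧ u ≠ i₀ ∧ v ≠ i₀ ∧ p ≠ q ∧ p ≠ u ∧ p ≠ v ∧ q ≠ u ∧ q ≠ v ∧ u ≠ v ∧
      (e₁ = 1 ∨ e₁ = -1) ∧ (e₂ = 1 ∨ e₂ = -1) ∧ (e₃ = 1 ∨ e₃ = -1) ∧ (e₄ = 1 ∨ e₄ = -1) ∧
      a p = 2 * e₁ ∧ b p = 0 ∧ a q = e₂ ∧ b q = e₂ ∧ a u = e₃ ∧ b u = -e₃ ∧
      a v = e₄ ∧ b v = -e₄ ∧
      ∀ j, j ≠ i₀ → j ≠ p → j ≠ q → j ≠ u → j ≠ v → a j = 0 ∧ b j = 0 := by
    intro p q hp0 hq0 hpq hdp hdq hdsupp hcp hcq
    have hpc : p ∈ univ.filter (fun i => c i ≠ 0) := by simp [hcp, hdp]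
    have h3 : ((univ.filter (fun i => c i ≠ 0)).erase p).card = 2 := by
      rw [Finset.card_erase_of_mem hpc, hccard]
    obtain ⟨u, v, huv, hSc⟩ := Finset.card_eq_two.mp h3
    have hu : u ≠ p ∧ c u ≠ 0 := by
      have : u ∈ (univ.filter (fun i => c i ≠ 0)).erase p := by rw [hSc]; simp
      simpa using this
    have hv : v ≠ p ∧ c v ≠ 0 := by
      have : v ∈ (univ.filter (fun i => c i ≠ 0)).erase p := by rw [hSc]; simp
      simpa using this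
    have hcsupp : ∀ j, c j ≠ 0 → j = p ∨ j = u ∨ j = v := by
      intro j hj
      by_cases hj0 : j = p
      · exact Or.inl hj0
      · have : j ∈ (univ.filter (fun i => c i ≠ 0)).erase p := by simp [hj0, hj]
        rw [hSc] at this
        simp only [Finset.mem_insert, Finset.mem_singleton] at this
        exact Or.inr this
    have hu0 : u ≠ i₀ := fun h => hu.2 (h ▸ hc0)
    have hv0 : v ≠ i₀ := fun h => hv.2 (h ▸ hc0)
    have huq : u ≠ q := fun h => hu.2 (h ▸ hcq)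
    have hvq : v ≠ q := fun h => hv.2 (h ▸ hcq)
    have hdu : d u = 0 := by
      by_contra h
      rcases hdsupp u h with h | h | h
      · exact hu0 h
      · exact hu.1 h
      · exact huq h
    have hdv' : d v = 0 := by
      by_contra h
      rcases hdsupp v h with h | h | h
      · exact hv0 h
      · exact hv.1 h
      · exact hvq h
    refine ⟨p, q, u, v, d p, d q, c u, c v, hp0, hq0, hu0, hv0, hpq, hu.1.symm, hv.1.symm,
      huq.symm, hvq.symm, huv, ?_, ?_, ?_, ?_, ?_, ?_, ?_, ?_, ?_, ?_, ?_, ?_, ?_⟩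
    · rcases hdv p with h | h | h
      · exact absurd h hdp
      · exact Or.inl h
      · exact Or.inr h
    · rcases hdv q with h | h | h
      · exact absurd h hdq
      · exact Or.inl h
      · exact Or.inr h
    · rcases hcv u with h | h | h
      · exact absurd h hu.2
      · exact Or.inl h
      · exact Or.inr h
    · rcases hcv v with h | h | h
      · exact absurd h hv.2
      · exact Or.inl h
      · exact Or.inr h
    · rw [hac, hcp]; ring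
    · rw [hbc, hcp]; ring
    · rw [hac, hcq]; ring
    · rw [hbc, hcq]; ring
    · rw [hac, hdu]; ring
    · rw [hbc, hdu]; ring
    · rw [hac, hdv']; ring
    · rw [hbc, hdv']; ring
    · intro j hj0 hjp hjq hju hjv
      have hcj : c j = 0 := by
        by_contra h
        rcases hcsupp j h with h | h | h
        · exact hjp h
        · exact hju h
        · exact hjv h
      have hdj : d j = 0 := by
        by_contra h
        rcases hdsupp j h with h | h | h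
        · exact hj0 h
        · exact hjp h
        · exact hjq h
      rw [hac, hbc, hcj, hdj]
      exact ⟨by ring, by ring⟩
  have hkey : (c p = d p ∧ c q = 0) ∨ (c p = 0 ∧ c q = d q) := by
    rcases hdv p with h1 | h1 | h1
    · exact absurd h1 hp.2
    all_goals
      rcases hdv q with h2 | h2 | h2
      · exact absurd h2 hq.2
      all_goals
        rcases hcv p with h3 | h3 | h3 <;> rcases hcv q with h4 | h4 | h4 <;>
          rw [h1, h2, h3, h4] at hsum <;> simp [h1, h2, h3, h4] <;> omega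
  rcases hkey with ⟨h1, h2⟩ | ⟨h1, h2⟩
  · exact main p q hp.1 hq.1 hpq hp.2 hq.2 hdsupp h1 h2
  · refine main q p hq.1 hp.1 hpq.symm hq.2 hp.2 ?_ h2 h1
    intro j hj
    rcases hdsupp j hj with h | h | h
    · exact Or.inl h
    · exact Or.inr (Or.inr h)
    · exact Or.inr (Or.inl h)

theorem d8a_t1 (e f : ℚ) (he : e = 1 ∨ e = -1) (hf : f ≠ 0) : (2 * e) ^ 3 / f = 8 / (e * f) := by
  rcases he with rfl | rfl
  · norm_num
  · have : (-1 : ℚ) * f ≠ 0 := by simpa using hf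
    field_simp
    ring

theorem d8a_t2 (e f : ℚ) (he : e = 1 ∨ e = -1) (hf : f ≠ 0) : e ^ 3 / f = 1 / (e * f) := by
  rcases he with rfl | rfl
  · norm_num
  · have : (-1 : ℚ) * f ≠ 0 := by simpa using hf
    field_simp

theorem d8a_t3 (e f : ℚ) (he : e = 1 ∨ e = -1) (hf : f ≠ 0) : e ^ 2 * e / f = 1 / (e * f) := by
  rw [← d8a_t2 e f he hf]; ring

theorem d8a_t4 (e f : ℚ) (he : e = 1 ∨ e = -1) (hf : f ≠ 0) :
    e ^ 2 * (-e) / f = -(1 / (e * f)) := by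
  rw [← d8a_t2 e f he hf]; ring

theorem d8a_alg (g w v x y : ℚ) (hw : w ≠ 0) (hv : v ≠ 0) (hx : x ≠ 0) (hy : y ≠ 0)
    (E1 : 1 + 2 * w + v + x + y = 0) (E2 : 1 + v - x - y = 0)
    (E3 : g * (1 + 8 / w + 1 / v + 1 / x + 1 / y) = 256)
    (E4 : g * (1 + 1 / v - 1 / x - 1 / y) = 256) :
    g * (x - 1) ^ 2 = 128 * x * (2 * x - 1) := by
  have hg : g ≠ 0 := by
    rintro rfl
    simp at E4
  have h5 : g * (8 / w + 2 / x + 2 / y) = 0 := by linear_combination E3 - E4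
  have h6 : 8 / w + 2 / x + 2 / y = 0 := (mul_eq_zero.mp h5).resolve_left hg
  have h7 : 8 * x * y + 2 * w * y + 2 * w * x = 0 := by
    have h8 : (8 / w + 2 / x + 2 / y) * (w * x * y) = 8 * x * y + 2 * w * y + 2 * w * x := by
      field_simp
    rw [← h8, h6, zero_mul]
  have hw' : w = -(x + y) := by linarith
  have hxy : x = y := by
    have h9 : (x - y) ^ 2 = 0 := by
      rw [hw'] at h7
      linear_combination (-1 / 2 : ℚ) * h7
    have := pow_eq_zero_iff (n := 2) (by norm_num) |>.mp h9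
    linarith
  subst hxy
  have hv' : v = 2 * x - 1 := by linarith
  subst hv'
  have h10 : (1 + 1 / (2 * x - 1) - 1 / x - 1 / x) * (x * (2 * x - 1)) = 2 * (x - 1) ^ 2 := by
    field_simp
    ring
  have h11 : g * (2 * (x - 1) ^ 2) = 256 * (x * (2 * x - 1)) := by
    rw [← h10, ← mul_assoc, E4]
  linarith

theorem d8a_core {ι : Type*} [Fintype ι] [DecidableEq ι] (f a b : ι → ℤ) (i₀ : ι) (g : ℚ)
    (hf : ∀ i, 0 < f i) (h0f : f i₀ = 1) (h0a : a i₀ = 1) (h0b : b i₀ = 1)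
    (hpar : ∀ i, ∃ d, a i + b i = 2 * d)
    (haa : ∑ i, a i ^ 2 = 8) (hbb : ∑ i, b i ^ 2 = 4) (hab : ∑ i, a i * b i = 0)
    (hfa : ∑ i, f i * a i = 0) (hfb : ∑ i, f i * b i = 0)
    (h3 : g * ∑ i, (a i : ℚ) ^ 3 / (f i : ℚ) = 256)
    (h4 : g * ∑ i, (a i : ℚ) ^ 2 * (b i : ℚ) / (f i : ℚ) = 256) :
    ∃ x : ℤ, x ≠ 0 ∧ g * ((x : ℚ) - 1) ^ 2 = 128 * (x : ℚ) * (2 * (x : ℚ) - 1) := by
  obtain ⟨p, q, u, v, e₁, e₂, e₃, e₄, n1, n2, n3, n4, n5, n6, n7, n8, n9, n10, s1, s2, s3, s4,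
    hap, hbp, haq, hbq, hau, hbu, hav, hbv, hrest⟩ := d8a_five a b i₀ h0a h0b hpar haa hbb hab
  have hsum : ∀ {M : Type} [AddCommMonoid M] (F : ι → M),
      (∀ j, a j = 0 → b j = 0 → F j = 0) →
      ∑ i, F i = F i₀ + (F p + (F q + (F u + F v))) := by
    intro M _ F hF
    exact d8a_sum5 F i₀ p q u v n1 n2 n3 n4 n5 n6 n7 n8 n9 n10
      (fun j h1 h2 h3 h4 h5 => hF j (hrest j h1 h2 h3 h4 h5).1 (hrest j h1 h2 h3 h4 h5).2)
  rw [hsum (fun i => f i * a i) (fun j h _ => by simp [h])] at hfa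
  rw [hsum (fun i => f i * b i) (fun j _ h => by simp [h])] at hfb
  rw [hsum (fun i => (a i : ℚ) ^ 3 / (f i : ℚ)) (fun j h _ => by simp [h])] at h3
  rw [hsum (fun i => (a i : ℚ) ^ 2 * (b i : ℚ) / (f i : ℚ)) (fun j h _ => by simp [h])] at h4
  simp only [h0f, h0a, h0b, hap, hbp, haq, hbq, hau, hbu, hav, hbv] at hfa hfb h3 h4
  have fp : (f p : ℚ) ≠ 0 := by exact_mod_cast (hf p).ne'
  have fq : (f q : ℚ) ≠ 0 := by exact_mod_cast (hf q).ne'
  have fu : (f u : ℚ) ≠ 0 := by exact_mod_cast (hf u).ne'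
  have fv : (f v : ℚ) ≠ 0 := by exact_mod_cast (hf v).ne'
  have s1' : (e₁ : ℚ) = 1 ∨ (e₁ : ℚ) = -1 := by rcases s1 with h | h <;> simp [h]
  have s2' : (e₂ : ℚ) = 1 ∨ (e₂ : ℚ) = -1 := by rcases s2 with h | h <;> simp [h]
  have s3' : (e₃ : ℚ) = 1 ∨ (e₃ : ℚ) = -1 := by rcases s3 with h | h <;> simp [h]
  have s4' : (e₄ : ℚ) = 1 ∨ (e₄ : ℚ) = -1 := by rcases s4 with h | h <;> simp [h]
  have ne1 : (e₁ : ℚ) ≠ 0 := by rcases s1' with h | h <;> rw [h] <;> norm_num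
  have ne2 : (e₂ : ℚ) ≠ 0 := by rcases s2' with h | h <;> rw [h] <;> norm_num
  have ne3 : (e₃ : ℚ) ≠ 0 := by rcases s3' with h | h <;> rw [h] <;> norm_num
  have ne4 : (e₄ : ℚ) ≠ 0 := by rcases s4' with h | h <;> rw [h] <;> norm_num
  push_cast at h3 h4
  rw [d8a_t1 _ _ s1' fp, d8a_t2 _ _ s2' fq, d8a_t2 _ _ s3' fu, d8a_t2 _ _ s4' fv] at h3
  rw [d8a_t3 _ _ s2' fq, d8a_t4 _ _ s3' fu, d8a_t4 _ _ s4' fv] at h4
  have E1 : 1 + 2 * ((e₁ : ℚ) * (f p : ℚ)) + (e₂ : ℚ) * (f q : ℚ) + (e₃ : ℚ) * (f u : ℚ) +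
      (e₄ : ℚ) * (f v : ℚ) = 0 := by
    have : ((1 * 1 + (f p * (2 * e₁) + (f q * e₂ + (f u * e₃ + f v * e₄))) : ℤ) : ℚ) = 0 := by
      rw [hfa]; simp
    push_cast at this
    linarith
  have E2 : 1 + (e₂ : ℚ) * (f q : ℚ) - (e₃ : ℚ) * (f u : ℚ) - (e₄ : ℚ) * (f v : ℚ) = 0 := by
    have : ((1 * 1 + (f p * 0 + (f q * e₂ + (f u * -e₃ + f v * -e₄))) : ℤ) : ℚ) = 0 := by
      rw [hfb]; simp
    push_cast at this
    linarith
  have key := d8a_alg g ((e₁ : ℚ) * (f p : ℚ)) ((e₂ : ℚ) * (f q : ℚ)) ((e₃ : ℚ) * (f u : ℚ))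
    ((e₄ : ℚ) * (f v : ℚ)) (mul_ne_zero ne1 fp) (mul_ne_zero ne2 fq) (mul_ne_zero ne3 fu)
    (mul_ne_zero ne4 fv) E1 E2 (by rw [← h3]; congr 1; simp; ring) (by rw [← h4]; congr 1; simp; ring)
  refine ⟨e₃ * f u, ?_, ?_⟩
  · have h1 : e₃ ≠ 0 := by rcases s3 with h | h <;> rw [h] <;> norm_num
    exact mul_ne_zero h1 (hf u).ne'
  · push_cast
    exact key

theorem d8a_final (m : ℕ) (hm : Odd m) (x : ℤ) (hx : x ≠ 0)
    (h : ((8 * m : ℕ) : ℚ) * ((x : ℚ) - 1) ^ 2 = 128 * (x : ℚ) * (2 * (x : ℚ) - 1)) :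
    8 * m = 168 ∨ 8 * m = 360 := by
  have hZ : (m : ℤ) * (x - 1) ^ 2 = 16 * (x * (2 * x - 1)) := by
    have h1 : (m : ℚ) * ((x : ℚ) - 1) ^ 2 = 16 * ((x : ℚ) * (2 * (x : ℚ) - 1)) := by
      push_cast at h
      linarith
    exact_mod_cast h1
  have hc1 : IsCoprime (x - 1) x := ⟨-1, 1, by ring⟩
  have hc2 : IsCoprime (x - 1) (2 * x - 1) := ⟨-2, 1, by ring⟩
  have hc : IsCoprime ((x - 1) ^ 2) (x * (2 * x - 1)) := (hc1.mul_right hc2).pow_left
  have hdvd : (x - 1) ^ 2 ∣ 16 * (x * (2 * x - 1)) := ⟨m, by rw [← hZ]; ring⟩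
  have h16 : (x - 1) ^ 2 ∣ 16 := hc.dvd_of_dvd_mul_right hdvd
  have hle : (x - 1) ^ 2 ≤ 16 := Int.le_of_dvd (by norm_num) h16
  have h1 : x - 1 ≤ 4 := by nlinarith
  have h2 : -4 ≤ x - 1 := by nlinarith
  have h3 : x ≤ 5 := by linarith
  have h4 : -3 ≤ x := by linarith
  obtain ⟨k, rfl⟩ := hm
  push_cast at hZ
  clear hc1 hc2 hc hdvd h16 hle h1 h2 h
  interval_cases x <;> norm_num at hZ <;> omega

end Cfsg.Agent.Lib.Helper73
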