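import Mathlib
import Cfsg.Agent.Lib.Helper73.D8Arith

/-!
# Arithmetic for the Klein-four centralizer order formula
-/

set_option autoImplicit false

namespace Cfsg.Agent.Lib.Helper73

open Finset

/-- a sum supported on four distinct indices -/
theorem v4a_sum4 {ι M : Type*} [Fintype ι] [DecidableEq ι] [AddCommMonoid M] (F : ι → M)
    (i₀ p q r : ι) (h1 : p ≠ i₀) (h2 : q ≠ i₀) (h3 : r ≠ i₀) (h4 : p ≠ q) (h5 : p ≠ r)
    (h6 : q ≠ r) (hz : ∀ j, j ≠ i₀ → j ≠ p → j ≠ q → j ≠ r → F j = 0) :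
    ∑ i, F i = F i₀ + (F p + (F q + F r)) := by
  rw [← Finset.sum_subset (Finset.subset_univ ({i₀, p, q, r} : Finset ι)) (fun j _ hj => by
    simp only [Finset.mem_insert, Finset.mem_singleton, not_or] at hj
    exact hz j hj.1 hj.2.1 hj.2.2.1 hj.2.2.2)]
  rw [Finset.sum_insert (by simp [h1.symm, h2.symm, h3.symm]),
    Finset.sum_insert (by simp [h4, h5]), Finset.sum_pair h6]

/-- the four characters not vanishing at the involution -/
theorem v4a_four {ι : Type*} [Fintype ι] [DecidableEq ι] (a : ι → ℤ) (i₀ : ι) (h0 : a i₀ = 1)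
    (haa : ∑ i, a i ^ 2 = 4) :
    ∃ p q r : ι, p ≠ i₀ ∧ q ≠ i₀ ∧ r ≠ i₀ ∧ p ≠ q ∧ p ≠ r ∧ q ≠ r ∧ (a p = 1 ∨ a p = -1) ∧
      (a q = 1 ∨ a q = -1) ∧ (a r = 1 ∨ a r = -1) ∧
      ∀ j, j ≠ i₀ → j ≠ p → j ≠ q → j ≠ r → a j = 0 := by
  obtain ⟨d, hd⟩ : ∃ d : ι → ℤ, d = fun i => if i = i₀ then 0 else a i := ⟨_, rfl⟩
  have hd0 : d i₀ = 0 := by rw [hd]; simp
  have hdne : ∀ i, i ≠ i₀ → d i = a i := by intro i hi; rw [hd]; simp [hi]
  have hdd : ∑ i, d i ^ 2 = 3 := by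
    have h1 : ∀ i, d i ^ 2 = a i ^ 2 - (if i = i₀ then 1 else 0) := by
      intro i
      by_cases h : i = i₀
      · rw [h, hd0, h0]; simp
      · rw [hdne i h]; simp [h]
    rw [Finset.sum_congr rfl (fun i _ => h1 i), Finset.sum_sub_distrib, haa,
      Finset.sum_ite_eq' Finset.univ i₀]
    simp
  obtain ⟨hcard, hv⟩ := d8a_sq3 d hdd
  obtain ⟨p, q, r, hpq, hpr, hqr, hS⟩ := Finset.card_eq_three.mp hcard
  have hmem : ∀ j, j ∈ ({p, q, r} : Finset ι) → j ≠ i₀ ∧ (a j = 1 ∨ a j = -1) := by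
    intro j hj
    rw [← hS] at hj
    simp only [Finset.mem_filter, Finset.mem_univ, true_and] at hj
    have hj0 : j ≠ i₀ := fun h => hj (h ▸ hd0)
    refine ⟨hj0, ?_⟩
    rw [← hdne j hj0]
    rcases hv j with h | h | h
    · exact absurd h hj
    · exact Or.inl h
    · exact Or.inr h
  have hp := hmem p (by simp)
  have hq := hmem q (by simp)
  have hr := hmem r (by simp)
  refine ⟨p, q, r, hp.1, hq.1, hr.1, hpq, hpr, hqr, hp.2, hq.2, hr.2, ?_⟩
  intro j hj0 hjp hjq hjr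
  rw [← hdne j hj0]
  by_contra h
  have : j ∈ ({p, q, r} : Finset ι) := by
    rw [← hS]; simp [h]
  simp only [Finset.mem_insert, Finset.mem_singleton] at this
  rcases this with h | h | h
  · exact hjp h
  · exact hjq h
  · exact hjr h

theorem v4a_arithA (m : ℕ) (p q : ℤ) (hp : 1 ≤ p) (hq : 1 ≤ q)
    (e2 : (4 * m : ℤ) * ((p + q) * (1 + p) * (1 + q)) = 32 * (p * q * (1 + p + q)))
    (e3 : 1 + p ^ 2 + q ^ 2 + (1 + p + q) ^ 2 ≤ 4 * m) : 4 * m = 12 := by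
  have hB : 0 < p * q := mul_pos (by linarith) (by linarith)
  have hs : p + q ≤ 5 := by
    by_contra hcon
    have hs6 : 6 ≤ p + q := by omega
    have hA : (p + q) * (1 + p) * (1 + q) = (p + q) * (1 + (p + q) + p * q) := by ring
    rw [hA] at e2
    have hg : (1 + (p + q)) ^ 2 ≤ (4 * m : ℤ) := by nlinarith [sq_nonneg p, sq_nonneg q]
    have hpos : 0 < (p + q) * (1 + (p + q) + p * q) := by positivity
    have k1 : (1 + (p + q)) ^ 2 * ((p + q) * (1 + (p + q) + p * q)) ≤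
        (4 * m : ℤ) * ((p + q) * (1 + (p + q) + p * q)) :=
      mul_le_mul_of_nonneg_right hg hpos.le
    have k2 : (1 + (p + q)) * (p + q) ≥ 42 := by nlinarith
    have k3 : 0 < (1 + (p + q)) * (p * q) := mul_pos (by linarith) hB
    nlinarith [mul_pos k3 (show (0 : ℤ) < (1 + (p + q)) * (p + q) - 32 by linarith),
      mul_pos (show (0 : ℤ) < 1 + (p + q) by linarith) (show (0 : ℤ) < p + q by linarith)]
  have hp4 : p ≤ 4 := by linarith
  have hq4 : q ≤ 4 := by linarith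
  interval_cases p <;> interval_cases q <;> omega

theorem v4a_arithB (m : ℕ) (hm : Odd m) (b c : ℤ) (hb : 1 ≤ b) (hc : 1 ≤ c)
    (e2 : (4 * m : ℤ) * ((b - 1) * (c - 1) * (b + c)) = 32 * ((b + c - 1) * b * c))
    (e3 : 1 + (b + c - 1) ^ 2 + b ^ 2 + c ^ 2 ≤ 4 * m) : 4 * m = 60 ∧ b = 3 ∧ c = 3 := by
  have hb2 : 2 ≤ b := by
    by_contra h
    have : b = 1 := by omega
    subst this
    simp only [sub_self, zero_mul, mul_zero] at e2
    nlinarith
  have hc2 : 2 ≤ c := by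
    by_contra h
    have : c = 1 := by omega
    subst this
    simp only [sub_self, zero_mul, mul_zero] at e2
    nlinarith
  have hs : b + c ≤ 12 := by
    by_contra hcon
    have hs13 : 13 ≤ b + c := by omega
    have hbc4 : b * c ≤ 4 * ((b - 1) * (c - 1)) := by
      nlinarith [mul_nonneg (show (0 : ℤ) ≤ b - 2 by linarith) (show (0 : ℤ) ≤ c - 2 by linarith)]
    have hg : (145 : ℤ) ≤ 4 * m := by nlinarith [sq_nonneg b, sq_nonneg c]
    have hbc : 0 < b * c := mul_pos (by linarith) (by linarith)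
    have hsum : 0 < b + c := by linarith
    have k1 : (4 * m : ℤ) * (b * c * (b + c)) ≤ (4 * m : ℤ) * (4 * ((b - 1) * (c - 1)) * (b + c)) := by
      apply mul_le_mul_of_nonneg_left _ (by positivity)
      exact mul_le_mul_of_nonneg_right hbc4 hsum.le
    have k2 : (4 * m : ℤ) * (4 * ((b - 1) * (c - 1)) * (b + c)) = 128 * ((b + c - 1) * b * c) := by
      linear_combination 4 * e2
    have k3 : 145 * (b * c * (b + c)) ≤ (4 * m : ℤ) * (b * c * (b + c)) :=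
      mul_le_mul_of_nonneg_right hg (by positivity)
    nlinarith [mul_pos hbc hsum]
  have hb10 : b ≤ 10 := by linarith
  have hc10 : c ≤ 10 := by linarith
  obtain ⟨k, rfl⟩ := hm
  push_cast at e2 e3
  interval_cases b <;> interval_cases c <;> omega

theorem v4a_arith (m : ℕ) (hm : Odd m) (x₁ x₂ x₃ : ℤ) (h1 : x₁ ≠ 0) (h2 : x₂ ≠ 0) (h3 : x₃ ≠ 0)
    (e1 : 1 + x₁ + x₂ + x₃ = 0)
    (e2 : (4 * m : ℤ) * (x₁ * x₂ * x₃ + x₂ * x₃ + x₁ * x₃ + x₁ * x₂) = 32 * (x₁ * x₂ * x₃))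
    (e3 : 1 + x₁ ^ 2 + x₂ ^ 2 + x₃ ^ 2 ≤ 4 * m) :
    4 * m = 12 ∨ (4 * m = 60 ∧ (x₁ ≠ 1 ∧ x₁ ≠ -1) ∧ (x₂ ≠ 1 ∧ x₂ ≠ -1) ∧ (x₃ ≠ 1 ∧ x₃ ≠ -1)) := by
  rcases lt_or_gt_of_ne h1 with n1 | p1 <;> rcases lt_or_gt_of_ne h2 with n2 | p2 <;>
    rcases lt_or_gt_of_ne h3 with n3 | p3
  · exfalso; omega
  · -- x₃ positive, x₁ x₂ negative
    right
    have hx : x₃ = -x₁ + -x₂ - 1 := by linarith
    obtain ⟨k1, k2, k3⟩ := v4a_arithB m hm (-x₁) (-x₂) (by omega) (by omega)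
      (by subst hx; linear_combination e2) (by subst hx; nlinarith)
    refine ⟨k1, ?_, ?_, ?_⟩ <;> constructor <;> omega
  · right
    have hx : x₂ = -x₁ + -x₃ - 1 := by linarith
    obtain ⟨k1, k2, k3⟩ := v4a_arithB m hm (-x₁) (-x₃) (by omega) (by omega)
      (by subst hx; linear_combination e2) (by subst hx; nlinarith)
    refine ⟨k1, ?_, ?_, ?_⟩ <;> constructor <;> omega
  · left
    have hx : x₁ = -1 - x₂ - x₃ := by linarith
    exact v4a_arithA m x₂ x₃ (by omega) (by omega)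
      (by subst hx; linear_combination (-1 : ℤ) * e2) (by subst hx; nlinarith)
  · right
    have hx : x₁ = -x₂ + -x₃ - 1 := by linarith
    obtain ⟨k1, k2, k3⟩ := v4a_arithB m hm (-x₂) (-x₃) (by omega) (by omega)
      (by subst hx; linear_combination e2) (by subst hx; nlinarith)
    refine ⟨k1, ?_, ?_, ?_⟩ <;> constructor <;> omega
  · left
    have hx : x₂ = -1 - x₁ - x₃ := by linarith
    exact v4a_arithA m x₁ x₃ (by omega) (by omega)
      (by subst hx; linear_combination (-1 : ℤ) * e2) (by subst hx; nlinarith)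
  · left
    have hx : x₃ = -1 - x₁ - x₂ := by linarith
    exact v4a_arithA m x₁ x₂ (by omega) (by omega)
      (by subst hx; linear_combination (-1 : ℤ) * e2) (by subst hx; nlinarith)
  · exfalso; omega

theorem v4a_main {ι : Type*} [Fintype ι] [DecidableEq ι] (f a : ι → ℤ) (i₀ : ι) (m : ℕ)
    (hm : Odd m) (hf : ∀ i, 0 < f i) (h0f : f i₀ = 1) (h0a : a i₀ = 1)
    (haa : ∑ i, a i ^ 2 = 4) (hfa : ∑ i, f i * a i = 0) (hff : ∑ i, f i ^ 2 = 4 * m)
    (h3 : ((4 * m : ℕ) : ℚ) * ∑ i, (a i : ℚ) ^ 3 / (f i : ℚ) = 32) :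
    4 * m = 12 ∨ (4 * m = 60 ∧ ∀ i, a i ≠ 0 → f i = 1 → i = i₀) := by
  obtain ⟨p, q, r, n1, n2, n3, n4, n5, n6, s1, s2, s3, hrest⟩ := v4a_four a i₀ h0a haa
  have hsum : ∀ {M : Type} [AddCommMonoid M] (F : ι → M), (∀ j, a j = 0 → F j = 0) →
      ∑ i, F i = F i₀ + (F p + (F q + F r)) := by
    intro M _ F hF
    exact v4a_sum4 F i₀ p q r n1 n2 n3 n4 n5 n6 (fun j h1 h2 h3 h4 => hF j (hrest j h1 h2 h3 h4))
  rw [hsum (fun i => f i * a i) (fun j h => by simp [h])] at hfa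
  rw [hsum (fun i => (a i : ℚ) ^ 3 / (f i : ℚ)) (fun j h => by simp [h])] at h3
  simp only [h0f, h0a] at hfa h3
  have fp : (f p : ℚ) ≠ 0 := by exact_mod_cast (hf p).ne'
  have fq : (f q : ℚ) ≠ 0 := by exact_mod_cast (hf q).ne'
  have fr : (f r : ℚ) ≠ 0 := by exact_mod_cast (hf r).ne'
  have s1' : (a p : ℚ) = 1 ∨ (a p : ℚ) = -1 := by rcases s1 with h | h <;> simp [h]
  have s2' : (a q : ℚ) = 1 ∨ (a q : ℚ) = -1 := by rcases s2 with h | h <;> simp [h]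
  have s3' : (a r : ℚ) = 1 ∨ (a r : ℚ) = -1 := by rcases s3 with h | h <;> simp [h]
  have ne1 : a p ≠ 0 := by rcases s1 with h | h <;> rw [h] <;> norm_num
  have ne2 : a q ≠ 0 := by rcases s2 with h | h <;> rw [h] <;> norm_num
  have ne3 : a r ≠ 0 := by rcases s3 with h | h <;> rw [h] <;> norm_num
  have sq1 : a p ^ 2 = 1 := by rcases s1 with h | h <;> rw [h] <;> norm_num
  have sq2 : a q ^ 2 = 1 := by rcases s2 with h | h <;> rw [h] <;> norm_num
  have sq3 : a r ^ 2 = 1 := by rcases s3 with h | h <;> rw [h] <;> norm_num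
  rw [d8a_t2 _ _ s1' fp, d8a_t2 _ _ s2' fq, d8a_t2 _ _ s3' fr] at h3
  have x1 : a p * f p ≠ 0 := mul_ne_zero ne1 (hf p).ne'
  have x2 : a q * f q ≠ 0 := mul_ne_zero ne2 (hf q).ne'
  have x3 : a r * f r ≠ 0 := mul_ne_zero ne3 (hf r).ne'
  have x1' : (a p : ℚ) * (f p : ℚ) ≠ 0 := by exact_mod_cast x1
  have x2' : (a q : ℚ) * (f q : ℚ) ≠ 0 := by exact_mod_cast x2
  have x3' : (a r : ℚ) * (f r : ℚ) ≠ 0 := by exact_mod_cast x3
  have e1 : 1 + a p * f p + a q * f q + a r * f r = 0 := by linarith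
  have e2 : (4 * m : ℤ) * ((a p * f p) * (a q * f q) * (a r * f r) + (a q * f q) * (a r * f r) +
      (a p * f p) * (a r * f r) + (a p * f p) * (a q * f q)) =
      32 * ((a p * f p) * (a q * f q) * (a r * f r)) := by
    have hQ : ((4 * m : ℕ) : ℚ) * (((a p : ℚ) * (f p : ℚ)) * ((a q : ℚ) * (f q : ℚ)) *
        ((a r : ℚ) * (f r : ℚ)) + ((a q : ℚ) * (f q : ℚ)) * ((a r : ℚ) * (f r : ℚ)) +
        ((a p : ℚ) * (f p : ℚ)) * ((a r : ℚ) * (f r : ℚ)) +
        ((a p : ℚ) * (f p : ℚ)) * ((a q : ℚ) * (f q : ℚ))) =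
        32 * (((a p : ℚ) * (f p : ℚ)) * ((a q : ℚ) * (f q : ℚ)) * ((a r : ℚ) * (f r : ℚ))) := by
      have h5 : (1 / 1 + (1 / ((a p : ℚ) * (f p : ℚ)) + (1 / ((a q : ℚ) * (f q : ℚ)) +
          1 / ((a r : ℚ) * (f r : ℚ))))) * (((a p : ℚ) * (f p : ℚ)) * ((a q : ℚ) * (f q : ℚ)) *
          ((a r : ℚ) * (f r : ℚ))) =
          ((a p : ℚ) * (f p : ℚ)) * ((a q : ℚ) * (f q : ℚ)) *
        ((a r : ℚ) * (f r : ℚ)) + ((a q : ℚ) * (f q : ℚ)) * ((a r : ℚ) * (f r : ℚ)) +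
        ((a p : ℚ) * (f p : ℚ)) * ((a r : ℚ) * (f r : ℚ)) +
        ((a p : ℚ) * (f p : ℚ)) * ((a q : ℚ) * (f q : ℚ)) := by
        field_simp
        ring
      rw [← h5, ← mul_assoc]
      have h6 : ((1 : ℤ) : ℚ) ^ 3 / ((1 : ℤ) : ℚ) = 1 / 1 := by norm_num
      rw [h6] at h3
      rw [h3]
    exact_mod_cast hQ
  have e3 : 1 + (a p * f p) ^ 2 + (a q * f q) ^ 2 + (a r * f r) ^ 2 ≤ 4 * (m : ℤ) := by
    rw [← hff]
    have hsub : ∑ i ∈ ({i₀, p, q, r} : Finset ι), f i ^ 2 ≤ ∑ i, f i ^ 2 :=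
      Finset.sum_le_sum_of_subset_of_nonneg (Finset.subset_univ _) (fun i _ _ => sq_nonneg _)
    rw [Finset.sum_insert (by simp [n1.symm, n2.symm, n3.symm]),
      Finset.sum_insert (by simp [n4, n5]), Finset.sum_pair n6, h0f] at hsub
    have t1 : (a p * f p) ^ 2 = f p ^ 2 := by rw [mul_pow, sq1, one_mul]
    have t2 : (a q * f q) ^ 2 = f q ^ 2 := by rw [mul_pow, sq2, one_mul]
    have t3 : (a r * f r) ^ 2 = f r ^ 2 := by rw [mul_pow, sq3, one_mul]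
    rw [t1, t2, t3]
    linarith
  rcases v4a_arith m hm _ _ _ x1 x2 x3 e1 e2 e3 with h | ⟨h, k1, k2, k3⟩
  · exact Or.inl h
  · right
    refine ⟨h, ?_⟩
    intro i hai hfi
    by_contra hi0
    have hcase : i = p ∨ i = q ∨ i = r := by
      by_contra hc
      simp only [not_or] at hc
      exact hai (hrest i hi0 hc.1 hc.2.1 hc.2.2)
    rcases hcase with h' | h' | h'
    · rw [h'] at hfi
      rw [hfi, mul_one] at k1
      rcases s1 with h1 | h1
      · exact k1.1 h1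
      · exact k1.2 h1
    · rw [h'] at hfi
      rw [hfi, mul_one] at k2
      rcases s2 with h1 | h1
      · exact k2.1 h1
      · exact k2.2 h1
    · rw [h'] at hfi
      rw [hfi, mul_one] at k3
      rcases s3 with h1 | h1
      · exact k3.1 h1
      · exact k3.2 h1

end Cfsg.Agent.Lib.Helper73
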