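import Mathlib
import Cfsg.Agent.Lib.Helper73.V4Arith
import Cfsg.Agent.Lib.Helper73.D8Cent
import Cfsg.Agent.Lib.Helper73.TwistSum
import Cfsg.Agent.Lib.Helper79.ClassMult
import Cfsg.Agent.Lib.Helper79.Linear
import Cfsg.Agent.Lib.Helper81.CharCore
import Cfsg.Agent.Lib.Helper77.Defect
import Cfsg.Agent.Lib.Helper15.LinIrr

/-!
# One class of involutions, elementary abelian involution centralizer of order four:
the group has order `12`, or order `60` and is perfect
-/

set_option autoImplicit false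

namespace Cfsg.Agent.Lib.Helper73

theorem v4_order {H : Type*} [Group H] [Finite H] (z : H) (hz : orderOf z = 2)
    (hcard : Nat.card {y : H // y * z * y⁻¹ = z} = 4)
    (hexp : ∀ y : H, y * z = z * y → y * y = 1)
    (hfus : ∀ u : H, orderOf u = 2 → IsConj u z) (m : ℕ) (hm : Odd m)
    (hH : Nat.card H = 4 * m) :
    Nat.card H = 12 ∨ (Nat.card H = 60 ∧ commutator H = ⊤) := by
  classical
  haveI : Fact (Nat.Prime 2) := ⟨Nat.prime_two⟩
  letI : Fintype H := Fintype.ofFinite H
  haveI : Finite (Cfsg.IrrCharacter H) := Cfsg.Agent.Lib.Helper81.irr_finite H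
  letI : Fintype (Cfsg.IrrCharacter H) := Fintype.ofFinite _
  have hz2 : z * z = 1 := by rw [← pow_two, ← hz, pow_orderOf_eq_one]
  have hz1 : z ≠ 1 := by intro h; rw [h, orderOf_one] at hz; omega
  have hzinv : z⁻¹ = z := inv_eq_of_mul_eq_one_left hz2
  have hz4 : z ^ 4 = 1 := by
    have : z ^ 4 = (z * z) * (z * z) := by simp only [pow_succ, pow_zero, one_mul, mul_assoc]
    rw [this, hz2, one_mul]
  have hz3 : z ^ 3 = z := by
    have : z ^ 3 = (z * z) * z := by simp only [pow_succ, pow_zero, one_mul]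
    rw [this, hz2, one_mul]
  -- integrality data
  have hdata : ∀ χ : Cfsg.IrrCharacter H, ∃ (f : ℕ) (a : ℤ), 0 < f ∧
      (χ : H → ℂ) 1 = (f : ℂ) ∧ (χ : H → ℂ) z = (a : ℂ) := by
    intro χ
    obtain ⟨x, hx0, hx⟩ := Cfsg.Agent.Lib.Helper81.irr_one_eq χ
    have hchar := Cfsg.Agent.Lib.Helper3.isCharacter_of_irr χ.2
    obtain ⟨c, g, hc, -⟩ := char_data_of_pow_four hchar z hz4 (by rw [hz3])
    exact ⟨x, c, hx0, hx, hc⟩
  choose f a hf0 hf1 ha using hdata
  -- orthogonality relations
  have haa : ∑ χ : Cfsg.IrrCharacter H, a χ ^ 2 = 4 := by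
    have h := Cfsg.Agent.Lib.Helper81.irr_col_orth (G := H) z z
    simp only [ha, map_intCast, hcard] at h
    have h' : ((∑ χ : Cfsg.IrrCharacter H, a χ ^ 2 : ℤ) : ℂ) = ((4 : ℤ) : ℂ) := by
      push_cast
      rw [← Nat.cast_ofNat (n := 4), ← h]
      exact Finset.sum_congr rfl (fun χ _ => by ring)
    exact_mod_cast h'
  have hE2 : Nat.card {y : H // y * 1 * y⁻¹ = z} = 0 := by
    rw [Nat.card_eq_zero]
    left
    constructor
    rintro ⟨y, hy⟩
    apply hz1
    rw [← hy]; group
  have hfa : ∑ χ : Cfsg.IrrCharacter H, (f χ : ℤ) * a χ = 0 := by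
    have h := Cfsg.Agent.Lib.Helper81.irr_col_orth (G := H) z 1
    simp only [ha, hf1, map_natCast, hE2] at h
    have h' : ((∑ χ : Cfsg.IrrCharacter H, (f χ : ℤ) * a χ : ℤ) : ℂ) = ((0 : ℤ) : ℂ) := by
      push_cast
      rw [← Nat.cast_zero, ← h]
      exact Finset.sum_congr rfl (fun χ _ => by ring)
    exact_mod_cast h'
  have hff : ∑ χ : Cfsg.IrrCharacter H, ((f χ : ℕ) : ℤ) ^ 2 = 4 * (m : ℤ) := by
    have h := Cfsg.Agent.Lib.Helper81.irr_col_orth (G := H) 1 1
    have hc1 : Nat.card {y : H // y * 1 * y⁻¹ = 1} = Nat.card H :=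
      Nat.card_congr (Equiv.subtypeUnivEquiv (fun y => by group))
    simp only [hf1, map_natCast, hc1, hH] at h
    have h' : ((∑ χ : Cfsg.IrrCharacter H, ((f χ : ℕ) : ℤ) ^ 2 : ℤ) : ℂ) =
        ((4 * (m : ℤ) : ℤ) : ℂ) := by
      push_cast
      have h2 : ((4 * m : ℕ) : ℂ) = 4 * (m : ℂ) := by push_cast; ring
      rw [← h2, ← h]
      exact Finset.sum_congr rfl (fun χ _ => by ring)
    exact_mod_cast h'
  -- class multiplication
  have hiff : ∀ x : H, IsConj x z ↔ orderOf x = 2 := by
    intro x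
    constructor
    · intro h
      obtain ⟨c, hc⟩ := isConj_iff.mp h
      rw [← hz, ← hc, Cfsg.Agent.Lib.Helper53.orderOf_conj_eq]
    · exact hfus x
  have hCz : Nat.card (Subgroup.centralizer ({z} : Set H)) = 4 := by
    rw [← hcard]
    refine Nat.card_congr (Equiv.subtypeEquivRight (fun y => ?_))
    rw [Subgroup.mem_centralizer_singleton_iff, mul_inv_eq_iff_eq_mul]
  have hG0 : (Nat.card H : ℂ) ≠ 0 := by exact_mod_cast Nat.card_pos.ne'
  -- the set of involutions of the centralizer other than z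
  obtain ⟨T, hT⟩ : ∃ T : Finset H, T = ((Finset.univ.filter (fun y : H => y * z = z * y)).erase 1).erase z :=
    ⟨_, rfl⟩
  have hTmem : ∀ x : H, x ∈ T ↔ x * z = z * x ∧ x ≠ 1 ∧ x ≠ z := by
    intro x
    rw [hT]
    simp only [Finset.mem_erase, Finset.mem_filter, Finset.mem_univ, true_and]
    tauto
  have hTcard : T.card = 2 := by
    have h4 : (Finset.univ.filter (fun y : H => y * z = z * y)).card = 4 := by
      rw [← hcard, Nat.card_eq_fintype_card, Fintype.card_subtype]
      congr 1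
      ext y
      simp only [Finset.mem_filter, Finset.mem_univ, true_and]
      exact mul_inv_eq_iff_eq_mul.symm
    rw [hT, Finset.card_erase_of_mem, Finset.card_erase_of_mem, h4]
    · simp
    · simp only [Finset.mem_erase, Finset.mem_filter, Finset.mem_univ, true_and]
      exact ⟨hz1, trivial⟩
  have hcount : (Finset.univ.filter (fun g : H => g * z * g⁻¹ ∈ T)).card = 8 := by
    rw [Finset.card_eq_sum_card_fiberwise (f := fun g : H => g * z * g⁻¹) (t := T)
      (fun g hg => by simpa using hg)]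
    have hfib : ∀ x ∈ T, ((Finset.univ.filter (fun g : H => g * z * g⁻¹ ∈ T)).filter
        (fun g : H => g * z * g⁻¹ = x)).card = 4 := by
      intro x hx
      have h1 : ((Finset.univ.filter (fun g : H => g * z * g⁻¹ ∈ T)).filter
          (fun g : H => g * z * g⁻¹ = x)) = Finset.univ.filter (fun g : H => g * z * g⁻¹ = x) := by
        ext g
        simp only [Finset.mem_filter, Finset.mem_univ, true_and]
        constructor
        · exact fun h => h.2
        · intro h; exact ⟨h ▸ hx, h⟩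
      rw [h1, ← Fintype.card_subtype, ← Nat.card_eq_fintype_card]
      obtain ⟨hx1, hx2, hx3⟩ := (hTmem x).mp hx
      have hxo : orderOf x = 2 := orderOf_eq_prime (by rw [pow_two]; exact hexp x hx1) hx2
      rw [d8c_fibre_card z x (hfus x hxo).symm, hcard]
    rw [Finset.sum_congr rfl hfib, Finset.sum_const, hTcard]
    rfl
  have hfilt : ((Finset.univ.filter (fun g : H => IsConj (g * z * g⁻¹ * z) z)).card : ℂ) = 8 := by
    have h1 : (Finset.univ.filter (fun g : H => IsConj (g * z * g⁻¹ * z) z)) =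
        Finset.univ.filter (fun g : H => g * z * g⁻¹ ∈ T) := by
      refine Finset.filter_congr (fun g _ => ?_)
      rw [hiff, hTmem]
      obtain ⟨x, hx⟩ : ∃ x : H, x = g * z * g⁻¹ := ⟨_, rfl⟩
      rw [← hx]
      have hxo : orderOf x = 2 := by rw [hx, Cfsg.Agent.Lib.Helper53.orderOf_conj_eq]; exact hz
      have hx2 : x * x = 1 := by rw [← pow_two, ← hxo, pow_orderOf_eq_one]
      have hx1 : x ≠ 1 := by intro h; rw [h, orderOf_one] at hxo; omega
      have hxinv : x⁻¹ = x := inv_eq_of_mul_eq_one_left hx2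
      constructor
      · intro ho
        have h2 : (x * z) * (x * z) = 1 := by rw [← pow_two, ← ho, pow_orderOf_eq_one]
        have hxz : x * z = z * x := by
          have h3 : x * z = (x * z)⁻¹ := (inv_eq_of_mul_eq_one_left h2).symm
          rw [mul_inv_rev, hzinv, hxinv] at h3
          exact h3
        refine ⟨hxz, hx1, ?_⟩
        intro h
        rw [h, hz2, orderOf_one] at ho
        omega
      · rintro ⟨hxz, -, hxne⟩
        refine orderOf_eq_prime ?_ ?_
        · rw [pow_two]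
          calc x * z * (x * z) = x * (z * x) * z := by group
            _ = x * (x * z) * z := by rw [hxz]
            _ = (x * x) * (z * z) := by group
            _ = 1 := by rw [hx2, hz2, one_mul]
        · intro h
          apply hxne
          have : x = z⁻¹ := eq_inv_of_mul_eq_one_left h
          rw [this, hzinv]
    rw [h1, hcount]
    norm_num
  have h3 : ((4 * m : ℕ) : ℚ) * ∑ χ : Cfsg.IrrCharacter H,
      (((a χ : ℤ) : ℚ)) ^ 3 / (((f χ : ℕ) : ℤ) : ℚ) = 32 := by
    have hcm := Cfsg.Agent.Lib.Helper79.irr_class_mult (G := H) z z z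
    rw [hzinv, hCz] at hcm
    simp only [ha, hf1] at hcm
    have hC : (Nat.card H : ℂ) * ∑ χ : Cfsg.IrrCharacter H, ((a χ : ℂ)) ^ 3 / ((f χ : ℂ)) =
        32 := by
      have h1 : ∑ χ : Cfsg.IrrCharacter H, ((a χ : ℂ)) ^ 3 / ((f χ : ℂ)) =
          ∑ χ : Cfsg.IrrCharacter H, (a χ : ℂ) * (a χ : ℂ) / (f χ : ℂ) * (a χ : ℂ) :=
        Finset.sum_congr rfl (fun χ _ => by ring)
      rw [h1, hcm, hfilt]
      field_simp
      norm_num
    rw [hH] at hC
    exact_mod_cast hC
  -- the trivial character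
  have h0f : ((f (Cfsg.Agent.Lib.Helper77.trivIrr H) : ℕ) : ℤ) = 1 := by
    have h := hf1 (Cfsg.Agent.Lib.Helper77.trivIrr H)
    rw [Cfsg.Agent.Lib.Helper77.trivIrr_apply] at h
    exact_mod_cast h.symm
  have h0a : a (Cfsg.Agent.Lib.Helper77.trivIrr H) = 1 := by
    have h := ha (Cfsg.Agent.Lib.Helper77.trivIrr H)
    rw [Cfsg.Agent.Lib.Helper77.trivIrr_apply] at h
    exact_mod_cast h.symm
  rcases v4a_main (fun χ : Cfsg.IrrCharacter H => ((f χ : ℕ) : ℤ)) a
    (Cfsg.Agent.Lib.Helper77.trivIrr H) m hm (fun χ => by exact_mod_cast hf0 χ)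
    h0f h0a haa hfa hff h3 with h12 | ⟨h60, hlin⟩
  · left
    rw [hH]; exact h12
  · right
    refine ⟨by rw [hH]; exact h60, ?_⟩
    have hone : ∀ φ : H →* ℂˣ, φ = 1 := by
      intro φ
      have hβ := Cfsg.Agent.Lib.Helper15.isCharacter_of_hom φ
      have hirr : Cfsg.IsIrrCharacter H (fun g => ((φ g : ℂˣ) : ℂ)) := by
        have h := Cfsg.Agent.Lib.Helper15.isIrrCharacter_lin_mul hβ (by simp)
          (Cfsg.Agent.Lib.Helper81.isIrrCharacter_one (G := H))
        have heq : ((fun g => ((φ g : ℂˣ) : ℂ)) * fun _ => (1 : ℂ)) =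
            fun g => ((φ g : ℂˣ) : ℂ) := by
          funext g; simp
        rw [heq] at h
        exact h
      obtain ⟨χ, hχ⟩ : ∃ χ : Cfsg.IrrCharacter H, χ = ⟨_, hirr⟩ := ⟨_, rfl⟩
      have hχv : ∀ g : H, (χ : H → ℂ) g = ((φ g : ℂˣ) : ℂ) := by intro g; rw [hχ]
      have hf1' : ((f χ : ℕ) : ℤ) = 1 := by
        have h := hf1 χ
        rw [hχv, map_one, Units.val_one] at h
        exact_mod_cast h.symm
      have ha' : a χ ≠ 0 := by
        intro h0
        have h := ha χ
        rw [h0, hχv] at h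
        exact (Units.ne_zero (φ z)) (by simpa using h)
      have h1 := hlin χ ha' hf1'
      ext g
      have h2 := hχv g
      rw [h1, Cfsg.Agent.Lib.Helper77.trivIrr_apply] at h2
      simp [← h2]
    have hcard1 : Nat.card (H →* ℂˣ) = 1 := by
      rw [Nat.card_eq_one_iff_unique]
      exact ⟨⟨fun a b => (hone a).trans (hone b).symm⟩, ⟨1⟩⟩
    rw [Cfsg.Agent.Lib.Helper79.card_monoidHom_units] at hcard1
    exact Subgroup.index_eq_one.mp hcard1

end Cfsg.Agent.Lib.Helper73
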