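import Mathlib
import Cfsg.Agent.Lib.Helper73.D8Gen
import Cfsg.Agent.Lib.Helper73.V4Order
import Cfsg.Agent.Lib.Helper83.ZassReg
import Cfsg.Agent.S0144

/-!
# Involution centralizer dihedral of order eight: the case of an index two subgroup
-/

set_option autoImplicit false

namespace Cfsg.Agent.Lib.Helper73

open DihedralGroup

/-- three involutions `z`, `s`, `s z` whose centralizers have no non-trivial elements of odd
order kill every subgroup of odd order which they normalize -/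
theorem inv3_odd_eq_bot {H : Type*} [Group H] [Finite H] (z s : H) (hz : orderOf z = 2)
    (hs : orderOf s = 2) (hsz : orderOf (s * z) = 2)
    (hcent : ∀ u c : H, (u = z ∨ u = s ∨ u = s * z) → c * u = u * c → Odd (orderOf c) → c = 1)
    (N : Subgroup H)
    (hnorm : ∀ u : H, (u = z ∨ u = s ∨ u = s * z) → ∀ n ∈ N, u * n * u⁻¹ ∈ N)
    (hodd : Odd (Nat.card N)) : N = ⊥ := by
  have hoddel : ∀ n ∈ N, Odd (orderOf n) := fun n hn =>
    hodd.of_dvd_nat (Subgroup.orderOf_dvd_natCard N hn)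
  have hinv : ∀ u : H, (u = z ∨ u = s ∨ u = s * z) → orderOf u = 2 →
      ∀ n ∈ N, u * n * u⁻¹ = n⁻¹ := by
    intro u hu huo
    have hu2 : u * u = 1 := by rw [← pow_two, ← huo, pow_orderOf_eq_one]
    apply Cfsg.Agent.Lib.Helper83.inverts_of_fpf_invol N hu2 (hnorm u hu)
    intro c hc hcc
    exact hcent u c hu (mul_inv_eq_iff_eq_mul.mp hcc).symm (hoddel c hc)
  rw [Subgroup.eq_bot_iff_forall]
  intro n hn
  have h1 := hinv s (Or.inr (Or.inl rfl)) hs n hn
  have h2 := hinv z (Or.inl rfl) hz n hn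
  have h3 := hinv (s * z) (Or.inr (Or.inr rfl)) hsz n hn
  have h4 : s * z * n * (s * z)⁻¹ = n := by
    calc s * z * n * (s * z)⁻¹ = s * (z * n * z⁻¹) * s⁻¹ := by group
      _ = (s * n * s⁻¹)⁻¹ := by rw [h2]; group
      _ = n := by rw [h1, inv_inv]
  have h5 : n * n = 1 := by
    have : n = n⁻¹ := h4.symm.trans h3
    calc n * n = n * n⁻¹ := by rw [← this]
      _ = 1 := mul_inv_cancel n
  have h6 : orderOf n ∣ 2 := orderOf_dvd_of_pow_eq_one (by rw [pow_two, h5])
  rcases (Nat.dvd_prime Nat.prime_two).mp h6 with h | h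
  · exact orderOf_eq_one_iff.mp h
  · have := hoddel n hn
    rw [h] at this
    exact absurd this (by decide)

/-- simplicity of a perfect group with a single class of involutions -/
theorem simple_of_involutions {H : Type*} [Group H] [Finite H] (hperf : commutator H = ⊤)
    (z s : H) (hz : orderOf z = 2) (hs : orderOf s = 2) (hsz : orderOf (s * z) = 2)
    (hcent : ∀ u c : H, (u = z ∨ u = s ∨ u = s * z) → c * u = u * c → Odd (orderOf c) → c = 1)
    (hfus : ∀ u : H, orderOf u = 2 → IsConj u z)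
    (hquot : ∀ (N : Subgroup H) [N.Normal], (∀ u : H, orderOf u = 2 → u ∈ N) →
      Group.IsSolvable (H ⧸ N)) : IsSimpleGroup H := by
  have hz1 : z ≠ 1 := by intro h; rw [h, orderOf_one] at hz; omega
  haveI : Nontrivial H := ⟨⟨z, 1, hz1⟩⟩
  refine IsSimpleGroup.mk ?_
  intro N hN
  by_cases hodd : Odd (Nat.card N)
  · left
    exact inv3_odd_eq_bot z s hz hs hsz hcent N (fun u _ n hn => hN.conj_mem n hn u) hodd
  · right
    have heven : 2 ∣ Nat.card N := by
      rw [← even_iff_two_dvd, ← Nat.not_odd_iff_even]; exact hodd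
    haveI : Fact (Nat.Prime 2) := ⟨Nat.prime_two⟩
    obtain ⟨u, hu⟩ := exists_prime_orderOf_dvd_card' 2 heven
    have hall : ∀ w : H, orderOf w = 2 → w ∈ N := by
      intro w hw
      have h1 := hfus w hw
      have h2 := hfus (u : H) (by rw [Subgroup.orderOf_coe]; exact hu)
      obtain ⟨g, hg⟩ := isConj_iff.mp (h2.trans h1.symm)
      rw [← hg]
      exact hN.conj_mem _ u.2 g
    haveI := hN
    have hsolv := hquot N hall
    by_contra hne
    haveI : Nontrivial (H ⧸ N) := by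
      rw [QuotientGroup.nontrivial_iff]
      exact hne
    have hlt := Group.IsSolvable.commutator_lt_top_of_nontrivial (H ⧸ N)
    have htop : commutator (H ⧸ N) = ⊤ := by
      rw [commutator_def, ← Subgroup.map_top_of_surjective (QuotientGroup.mk' N)
        (QuotientGroup.mk'_surjective N), ← Subgroup.map_commutator, ← commutator_def, hperf]
    exact (lt_irrefl _) (htop ▸ hlt)

theorem d8f_sr0_r2 : (sr 0 : DihedralGroup 4) * r 2 = sr 2 := by decide
theorem d8f_sr0_sr1 : (sr 0 : DihedralGroup 4) * sr 1 = r 1 := by decide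
theorem d8f_sr1_sr0 : (sr 1 : DihedralGroup 4) * sr 0 * (sr 1)⁻¹ = sr 2 := by decide
theorem d8f_coset : ∀ d : DihedralGroup 4, (d = 1 ∨ d = r 2 ∨ d = sr 0 ∨ d = sr 2) ∨
    ∃ d' : DihedralGroup 4, (d' = 1 ∨ d' = r 2 ∨ d' = sr 0 ∨ d' = sr 2) ∧ d = d' * sr 1 := by
  decide
theorem d8f_conj_prod : ∀ i : ZMod 4,
    (sr i : DihedralGroup 4) * (r 1 * sr i * (r 1)⁻¹) = r 2 := by decide
theorem d8f_V_sq : ∀ d : DihedralGroup 4, (d = 1 ∨ d = r 2 ∨ d = sr 0 ∨ d = sr 2) → d * d = 1 := by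
  decide
theorem d8f_V_card :
    Nat.card {d : DihedralGroup 4 // d = 1 ∨ d = r 2 ∨ d = sr 0 ∨ d = sr 2} = 4 := by
  rw [Nat.card_eq_fintype_card]
  decide

/-- the standing configuration: `f` identifies the dihedral group of order eight with the
centralizer of the involution `t`, which is the Sylow `2`-subgroup `P` -/
structure D8Ctx {G : Type*} [Group G] (t : G) (f : DihedralGroup 4 →* G) (P : Sylow 2 G) :
    Prop where
  ht : orderOf t = 2
  inj : Function.Injective f
  ft : f (r 2) = t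
  surj : ∀ x : G, x * t = t * x → ∃ d, f d = x
  comm : ∀ d, f d * t = t * f d
  hP : (P : Subgroup G) = Subgroup.centralizer ({t} : Set G)

theorem D8Ctx.exists_ctx {G : Type*} [Group G] [Finite G] (t : G) (ht : orderOf t = 2)
    (e : Subgroup.centralizer ({t} : Set G) ≃* DihedralGroup 4) :
    ∃ (f : DihedralGroup 4 →* G) (P : Sylow 2 G), D8Ctx t f P ∧
      ∃ m : ℕ, Odd m ∧ Nat.card G = 8 * m := by
  obtain ⟨f, hfinj, hft, hfsurj, hfcomm, -, -, hm, ⟨P, hP⟩, -, -⟩ := d8g_structure t ht e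
  exact ⟨f, P, ⟨ht, hfinj, hft, hfsurj, hfcomm, hP⟩, hm⟩

section Ctx

variable {G : Type*} [Group G] [Finite G] {t : G} {f : DihedralGroup 4 →* G} {P : Sylow 2 G}

theorem D8Ctx.t_ne_one (c : D8Ctx t f P) : t ≠ 1 := by
  intro h
  have := c.ht
  rw [h, orderOf_one] at this
  omega

theorem D8Ctx.t_sq (c : D8Ctx t f P) : t * t = 1 := by
  rw [← pow_two, ← c.ht, pow_orderOf_eq_one]

theorem D8Ctx.sr_order (c : D8Ctx t f P) (i : ZMod 4) : orderOf (f (sr i)) = 2 := by
  rw [orderOf_injective f c.inj, DihedralGroup.orderOf_sr]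

theorem D8Ctx.mem_P (c : D8Ctx t f P) (d : DihedralGroup 4) : f d ∈ (P : Subgroup G) := by
  rw [c.hP, Subgroup.mem_centralizer_singleton_iff]
  exact c.comm d

theorem D8Ctx.card_P (c : D8Ctx t f P) : Nat.card ↥(P : Subgroup G) = 8 := by
  have h8 : Nat.card (DihedralGroup 4) = 8 := by rw [DihedralGroup.nat_card]
  rw [c.hP, ← h8]
  symm
  refine Nat.card_congr (Equiv.ofBijective
    (fun d : DihedralGroup 4 => (⟨f d, by
      rw [Subgroup.mem_centralizer_singleton_iff]; exact c.comm d⟩ :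
        Subgroup.centralizer ({t} : Set G))) ⟨?_, ?_⟩)
  · intro d₁ d₂ h
    exact c.inj (congrArg Subtype.val h)
  · rintro ⟨x, hx⟩
    obtain ⟨d, hd⟩ := c.surj x (Subgroup.mem_centralizer_singleton_iff.mp hx)
    exact ⟨d, Subtype.ext hd⟩

/-- centralizers of conjugates of `t` contain no non-trivial elements of odd order -/
theorem D8Ctx.cent_odd (c : D8Ctx t f P) (u x : G) (hu : IsConj t u) (hx : x * u = u * x)
    (hodd : Odd (orderOf x)) : x = 1 := by
  obtain ⟨g, hg⟩ := isConj_iff.mp hu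
  have hct : g⁻¹ * x * g * t = t * (g⁻¹ * x * g) := by
    have h1 : t = g⁻¹ * u * g := by rw [← hg]; group
    rw [h1]
    calc g⁻¹ * x * g * (g⁻¹ * u * g) = g⁻¹ * (x * u) * g := by group
      _ = g⁻¹ * (u * x) * g := by rw [hx]
      _ = g⁻¹ * u * g * (g⁻¹ * x * g) := by group
  obtain ⟨d, hd⟩ := c.surj _ hct
  have h1 : orderOf x ∣ 8 := by
    have h2 : orderOf (g⁻¹ * x * g) = orderOf x := by
      have := Cfsg.Agent.Lib.Helper53.orderOf_conj_eq g⁻¹ x
      rwa [inv_inv] at this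
    rw [← h2, ← hd, orderOf_injective f c.inj]
    have := orderOf_dvd_natCard d
    rwa [DihedralGroup.nat_card] at this
  have h3 : orderOf x ∣ 1 := by
    have hcop : Nat.Coprime (orderOf x) 8 :=
      Nat.Coprime.pow_right 3 (Nat.coprime_two_right.mpr hodd)
    have := Nat.dvd_gcd (dvd_refl (orderOf x)) h1
    rwa [hcop] at this
  exact orderOf_eq_one_iff.mp (Nat.dvd_one.mp h3)

/-- every involution is conjugate to `t` or to a reflection -/
theorem D8Ctx.invol_conj (c : D8Ctx t f P) (u : G) (hu : orderOf u = 2) :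
    ∃ (g : G) (d : DihedralGroup 4), g * u * g⁻¹ = f d ∧ (d = r 2 ∨ ∃ i : ZMod 4, d = sr i) := by
  haveI : Fact (Nat.Prime 2) := ⟨Nat.prime_two⟩
  have hp : IsPGroup 2 (Subgroup.zpowers u) :=
    IsPGroup.of_card (n := 1) (by rw [Nat.card_zpowers, hu, pow_one])
  obtain ⟨n, -, hn⟩ := Cfsg.Agent.Lib.Helper53.exists_conj_le_sylow_of_le P
    (N := ⊤) (Q := Subgroup.zpowers u) le_top le_top hp
  have h1 := hn u (Subgroup.mem_zpowers u)
  rw [c.hP, Subgroup.mem_centralizer_singleton_iff] at h1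
  obtain ⟨d, hd⟩ := c.surj _ h1
  have huo : orderOf (n * u * n⁻¹) = 2 := by
    rw [Cfsg.Agent.Lib.Helper53.orderOf_conj_eq]; exact hu
  rw [← hd, orderOf_injective f c.inj] at huo
  have hd2 : d * d = 1 := by rw [← pow_two, ← huo, pow_orderOf_eq_one]
  have hd1 : d ≠ 1 := by intro h; rw [h, orderOf_one] at huo; omega
  exact ⟨n, d, hd.symm, d8f_invol d hd2 hd1⟩

/-- a normal subgroup of even order contains `t` -/
theorem D8Ctx.t_mem_of_even (c : D8Ctx t f P) (N : Subgroup G) (hN : N.Normal)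
    (h2 : 2 ∣ Nat.card N) : t ∈ N := by
  haveI : Fact (Nat.Prime 2) := ⟨Nat.prime_two⟩
  obtain ⟨u, hu⟩ := exists_prime_orderOf_dvd_card' 2 h2
  obtain ⟨g, d, hgd, hd⟩ := c.invol_conj (u : G) (by rw [Subgroup.orderOf_coe]; exact hu)
  have hfd : f d ∈ N := by rw [← hgd]; exact hN.conj_mem _ u.2 g
  rcases hd with rfl | ⟨i, rfl⟩
  · rw [← c.ft]; exact hfd
  · have h3 : f (r 1) * f (sr i) * (f (r 1))⁻¹ ∈ N := hN.conj_mem _ hfd _
    have h4 := N.mul_mem hfd h3
    rw [← map_inv, ← map_mul, ← map_mul, ← map_mul, d8f_conj_prod, c.ft] at h4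
    exact h4

/-- Thompson transfer: a reflection not fused to `t` lies outside a normal subgroup of index
two -/
theorem D8Ctx.transfer (c : D8Ctx t f P) (h1 : ¬ IsConj t (f (sr 1))) :
    ∃ K : Subgroup G, K.Normal ∧ K.index = 2 ∧ f (sr 1) ∉ K := by
  have hσ4 : orderOf (f (r 1)) = 4 := by
    rw [orderOf_injective f c.inj, DihedralGroup.orderOf_r_one]
  have hσσ : f (r 1) * f (r 1) = t := by rw [← map_mul, d8f_r1_sq, c.ft]
  have hQP : Subgroup.zpowers (f (r 1)) ≤ (P : Subgroup G) := by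
    rw [Subgroup.zpowers_le]; exact c.mem_P _
  have hQi : (Subgroup.zpowers (f (r 1))).relIndex (P : Subgroup G) = 2 := by
    have h1 := Subgroup.relIndex_mul_relIndex ⊥ (Subgroup.zpowers (f (r 1))) (P : Subgroup G)
      bot_le hQP
    rw [Subgroup.relIndex_bot_left, Subgroup.relIndex_bot_left, c.card_P, Nat.card_zpowers,
      hσ4] at h1
    omega
  refine Cfsg.Agent.Lib.Helper53.thompson_transfer P (Subgroup.zpowers (f (r 1))) hQP hQi
    (f (sr 1)) (c.sr_order 1) ?_
  intro g hg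
  apply h1
  obtain ⟨y, hy⟩ : ∃ y : G, y = g * f (sr 1) * g⁻¹ := ⟨_, rfl⟩
  rw [← hy] at hg
  have hyo : orderOf y = 2 := by
    rw [hy, Cfsg.Agent.Lib.Helper53.orderOf_conj_eq]; exact c.sr_order 1
  have hy2 : y * y = 1 := by rw [← pow_two, ← hyo, pow_orderOf_eq_one]
  have hy1 : y ≠ 1 := by intro h; rw [h, orderOf_one] at hyo; omega
  have hyσ : y * f (r 1) = f (r 1) * y := by
    obtain ⟨k, hk⟩ := Subgroup.mem_zpowers_iff.mp hg
    rw [← hk]
    exact ((Commute.refl (f (r 1))).zpow_left k).eq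
  have hyt : y * t = t * y := by
    rw [← hσσ, ← mul_assoc, hyσ, mul_assoc, hyσ, mul_assoc]
  obtain ⟨d, hd⟩ := c.surj y hyt
  have hd' := d8f_cent_invol d (by
      apply c.inj
      rw [map_mul, map_mul, hd, hyσ])
    (by apply c.inj; rw [map_mul, hd, hy2, map_one])
    (by
      intro h
      rw [h, map_one] at hd
      exact hy1 hd.symm)
  have hyt' : y = t := by rw [← hd, hd', c.ft]
  refine isConj_iff.mpr ⟨g⁻¹, ?_⟩
  rw [← hyt', hy]; group

/-- the trace of the index two subgroup on the Sylow subgroup -/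
theorem D8Ctx.K_mem (c : D8Ctx t f P) (K : Subgroup G) (hKn : K.Normal) (hKi : K.index = 2)
    (hs1 : f (sr 1) ∉ K) (h0 : IsConj t (f (sr 0))) (d : DihedralGroup 4) :
    f d ∈ K ↔ (d = 1 ∨ d = r 2 ∨ d = sr 0 ∨ d = sr 2) := by
  have htK : t ∈ K := by
    have := Subgroup.mul_self_mem_of_index_two hKi (f (r 1))
    rwa [← map_mul, d8f_r1_sq, c.ft] at this
  have hs0K : f (sr 0) ∈ K := by
    obtain ⟨g, hg⟩ := isConj_iff.mp h0
    rw [← hg]
    exact hKn.conj_mem t htK g
  have hs2K : f (sr 2) ∈ K := by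
    rw [← d8f_sr0_r2, map_mul, c.ft]
    exact K.mul_mem hs0K htK
  have hV : ∀ d' : DihedralGroup 4, (d' = 1 ∨ d' = r 2 ∨ d' = sr 0 ∨ d' = sr 2) → f d' ∈ K := by
    rintro d' (rfl | rfl | rfl | rfl)
    · rw [map_one]; exact K.one_mem
    · rw [c.ft]; exact htK
    · exact hs0K
    · exact hs2K
  constructor
  · intro h
    rcases d8f_coset d with h' | ⟨d', hd', rfl⟩
    · exact h'
    · exfalso
      rw [map_mul] at h
      exact hs1 ((K.mul_mem_cancel_left (hV d' hd')).mp h)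
  · exact hV d

/-- involutions of the index two subgroup are conjugate to `t` inside it -/
theorem D8Ctx.K_fus (c : D8Ctx t f P) (K : Subgroup G) (hKn : K.Normal) (hKi : K.index = 2)
    (hs1 : f (sr 1) ∉ K) (h0 : IsConj t (f (sr 0))) (u : G) (huK : u ∈ K)
    (hu : orderOf u = 2) : ∃ k ∈ K, k * t * k⁻¹ = u := by
  -- first in G
  have hG : ∃ g : G, g * t * g⁻¹ = u := by
    obtain ⟨g, d, hgd, hd⟩ := c.invol_conj u hu
    have hfdK : f d ∈ K := by rw [← hgd]; exact hKn.conj_mem u huK g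
    have hd' := (c.K_mem K hKn hKi hs1 h0 d).mp hfdK
    have hconj : ∃ x : G, x * t * x⁻¹ = f d := by
      rcases hd' with rfl | rfl | rfl | rfl
      · exfalso
        rcases hd with h | ⟨i, h⟩
        · exact absurd h (by decide)
        · rw [DihedralGroup.one_def] at h
          cases h
      · exact ⟨1, by rw [c.ft]; group⟩
      · exact isConj_iff.mp h0
      · obtain ⟨x, hx⟩ := isConj_iff.mp h0
        refine ⟨f (sr 1) * x, ?_⟩
        rw [← d8f_sr1_sr0, map_mul, map_mul, map_inv, ← hx]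
        group
    obtain ⟨x, hx⟩ := hconj
    refine ⟨g⁻¹ * x, ?_⟩
    have : u = g⁻¹ * f d * g := by rw [← hgd]; group
    rw [this, ← hx]; group
  obtain ⟨g, hg⟩ := hG
  by_cases hgK : g ∈ K
  · exact ⟨g, hgK, hg⟩
  · refine ⟨g * f (sr 1), ?_, ?_⟩
    · rw [Subgroup.mul_mem_iff_of_index_two hKi]
      exact ⟨fun h => absurd h hgK, fun h => absurd h hs1⟩
    · have h1 : f (sr 1) * t * (f (sr 1))⁻¹ = t := by
        rw [c.comm (sr 1)]; group
      calc g * f (sr 1) * t * (g * f (sr 1))⁻¹ = g * (f (sr 1) * t * (f (sr 1))⁻¹) * g⁻¹ := by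
            group
        _ = u := by rw [h1, hg]

/-- the order of the index two subgroup -/
theorem D8Ctx.K_order (c : D8Ctx t f P) (K : Subgroup G) (hKn : K.Normal) (hKi : K.index = 2)
    (hs1 : f (sr 1) ∉ K) (h0 : IsConj t (f (sr 0))) (m : ℕ) (hm : Odd m)
    (hG : Nat.card G = 8 * m) :
    Nat.card K = 12 ∨ (Nat.card K = 60 ∧ commutator ↥K = ⊤) := by
  have htK : t ∈ K := (c.K_mem K hKn hKi hs1 h0 (r 2)).mpr (Or.inr (Or.inl rfl)) |> fun h => by
    rwa [c.ft] at h
  obtain ⟨z, hz⟩ : ∃ z : ↥K, z = ⟨t, htK⟩ := ⟨_, rfl⟩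
  have hzv : (z : G) = t := by rw [hz]
  have hzo : orderOf z = 2 := by rw [← Subgroup.orderOf_coe, hzv]; exact c.ht
  have hcomm : ∀ y : ↥K, y * z = z * y ↔ (y : G) * t = t * (y : G) := by
    intro y
    rw [← hzv]
    constructor
    · intro h; exact congrArg Subtype.val h
    · intro h; exact Subtype.ext h
  have hcard : Nat.card {y : ↥K // y * z * y⁻¹ = z} = 4 := by
    rw [← d8f_V_card]
    symm
    refine Nat.card_congr (Equiv.ofBijective
      (fun d : {d : DihedralGroup 4 // d = 1 ∨ d = r 2 ∨ d = sr 0 ∨ d = sr 2} =>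
        (⟨⟨f d.1, (c.K_mem K hKn hKi hs1 h0 d.1).mpr d.2⟩, by
          rw [mul_inv_eq_iff_eq_mul, hcomm]; exact c.comm d.1⟩ :
          {y : ↥K // y * z * y⁻¹ = z})) ⟨?_, ?_⟩)
    · intro d₁ d₂ h
      apply Subtype.ext
      apply c.inj
      exact congrArg (fun y : {y : ↥K // y * z * y⁻¹ = z} => ((y : ↥K) : G)) h
    · rintro ⟨y, hy⟩
      obtain ⟨d, hd⟩ := c.surj (y : G) ((hcomm y).mp (mul_inv_eq_iff_eq_mul.mp hy))
      have hdK : f d ∈ K := by rw [hd]; exact y.2
      exact ⟨⟨d, (c.K_mem K hKn hKi hs1 h0 d).mp hdK⟩, Subtype.ext (Subtype.ext hd)⟩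
  have hexp : ∀ y : ↥K, y * z = z * y → y * y = 1 := by
    intro y hy
    obtain ⟨d, hd⟩ := c.surj (y : G) ((hcomm y).mp hy)
    have hdK : f d ∈ K := by rw [hd]; exact y.2
    have hd2 := d8f_V_sq d ((c.K_mem K hKn hKi hs1 h0 d).mp hdK)
    apply Subtype.ext
    rw [Subgroup.coe_mul, Subgroup.coe_one, ← hd, ← map_mul, hd2, map_one]
  have hfus : ∀ u : ↥K, orderOf u = 2 → IsConj u z := by
    intro u hu
    obtain ⟨k, hk, hku⟩ := c.K_fus K hKn hKi hs1 h0 (u : G) u.2
      (by rw [Subgroup.orderOf_coe]; exact hu)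
    refine (isConj_iff.mpr ⟨⟨k, hk⟩, ?_⟩).symm
    apply Subtype.ext
    rw [Subgroup.coe_mul, Subgroup.coe_mul, Subgroup.coe_inv, hzv]
    exact hku
  have hKcard : Nat.card K = 4 * m := by
    have := K.card_mul_index
    rw [hKi, hG] at this
    omega
  exact v4_order z hzo hcard hexp hfus m hm hKcard

end Ctx

end Cfsg.Agent.Lib.Helper73
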