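import Mathlib
import Cfsg.Agent.Lib.Helper73.D8Ctx
import Cfsg.Agent.S0215

/-!
# Involution centralizer dihedral of order eight: the isolated case and the swap of the
two classes of reflections
-/

set_option autoImplicit false

namespace Cfsg.Agent.Lib.Helper73

open DihedralGroup

theorem d8f_refl_conj : ∀ i : ZMod 4, ∃ d : DihedralGroup 4,
    d * sr i * d⁻¹ = sr 0 ∨ d * sr i * d⁻¹ = sr 1 := by decide

/-- the outer automorphism of the dihedral group of order eight swapping the two classes of
reflections, as a function -/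
def d8swapFun : DihedralGroup 4 → DihedralGroup 4
  | r i => r i
  | sr i => sr (i + 1)

theorem d8swapFun_mul : ∀ a b : DihedralGroup 4,
    d8swapFun (a * b) = d8swapFun a * d8swapFun b := by decide

theorem d8swapFun_inj : Function.Injective d8swapFun := by decide

theorem d8swapFun_surj : Function.Surjective d8swapFun := by decide

/-- the outer automorphism of the dihedral group of order eight swapping the two classes of
reflections -/
def d8swap : DihedralGroup 4 →* DihedralGroup 4 := MonoidHom.mk' d8swapFun d8swapFun_mul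

theorem d8swap_r (i : ZMod 4) : d8swap (r i) = r i := rfl

theorem d8swap_sr (i : ZMod 4) : d8swap (sr i) = sr (i + 1) := rfl

section Ctx

variable {G : Type*} [Group G] [Finite G] {t : G} {f : DihedralGroup 4 →* G} {P : Sylow 2 G}

/-- every reflection is conjugate to one of the two standard ones -/
theorem D8Ctx.refl_conj (c : D8Ctx t f P) (i : ZMod 4) :
    IsConj (f (sr i)) (f (sr 0)) ∨ IsConj (f (sr i)) (f (sr 1)) := by
  obtain ⟨d, hd | hd⟩ := d8f_refl_conj i
  · left
    refine isConj_iff.mpr ⟨f d, ?_⟩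
    rw [← map_inv, ← map_mul, ← map_mul, hd]
  · right
    refine isConj_iff.mpr ⟨f d, ?_⟩
    rw [← map_inv, ← map_mul, ← map_mul, hd]

/-- the configuration with the two classes of reflections swapped -/
theorem D8Ctx.swap (c : D8Ctx t f P) : D8Ctx t (f.comp d8swap) P where
  ht := c.ht
  inj := c.inj.comp d8swapFun_inj
  ft := by
    show f (d8swap (r 2)) = t
    rw [d8swap_r, c.ft]
  surj := by
    intro x hx
    obtain ⟨d, hd⟩ := c.surj x hx
    obtain ⟨d', hd'⟩ := d8swapFun_surj d
    exact ⟨d', by show f (d8swap d') = x; rw [← hd, ← hd']; rfl⟩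
  comm := fun d => c.comm (d8swap d)
  hP := c.hP

/-- if `t` is fused to no reflection, then the group is the product of the centralizer of `t`
and the odd core -/
theorem D8Ctx.case0 (c : D8Ctx t f P) (h0 : ¬ IsConj t (f (sr 0)))
    (h1 : ¬ IsConj t (f (sr 1))) :
    Subgroup.centralizer ({t} : Set G) ⊔ Cfsg.oddCore G = ⊤ := by
  have ht2 := c.t_sq
  have htinv : t⁻¹ = t := inv_eq_of_mul_eq_one_left ht2
  have htP : t ∈ (P : Subgroup G) := by
    rw [c.hP, Subgroup.mem_centralizer_singleton_iff]
  have hiso : ∀ g : G, g * t * g⁻¹ ∈ P → g * t * g⁻¹ = t := by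
    intro g hg
    have hg' : g * t * g⁻¹ ∈ (P : Subgroup G) := hg
    rw [c.hP, Subgroup.mem_centralizer_singleton_iff] at hg'
    obtain ⟨d, hd⟩ := c.surj _ hg'
    have huo : orderOf (g * t * g⁻¹) = 2 := by
      rw [Cfsg.Agent.Lib.Helper53.orderOf_conj_eq]; exact c.ht
    rw [← hd, orderOf_injective f c.inj] at huo
    have hd2 : d * d = 1 := by rw [← pow_two, ← huo, pow_orderOf_eq_one]
    have hd1 : d ≠ 1 := by intro h; rw [h, orderOf_one] at huo; omega
    rcases d8f_invol d hd2 hd1 with rfl | ⟨i, rfl⟩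
    · rw [← hd, c.ft]
    · exfalso
      have hconj : IsConj t (f (sr i)) := isConj_iff.mpr ⟨g, hd.symm⟩
      rcases c.refl_conj i with h | h
      · exact h0 (hconj.trans h)
      · exact h1 (hconj.trans h)
  obtain ⟨N, hN, hNodd, hNc⟩ := Cfsg.Agent.S0215.result P t c.ht htP hiso
  have hNle : N ≤ Cfsg.oddCore G := by
    apply le_sSup
    exact ⟨hN, Nat.Coprime.symm (Nat.coprime_two_left.mpr hNodd)⟩
  rw [eq_top_iff]
  intro g _
  -- `w = t * (g t g⁻¹)` lies in `N`
  obtain ⟨u, hu⟩ : ∃ u : G, u = g * t * g⁻¹ := ⟨_, rfl⟩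
  have hu2 : u * u = 1 := by
    rw [hu]
    calc g * t * g⁻¹ * (g * t * g⁻¹) = g * (t * t) * g⁻¹ := by group
      _ = 1 := by rw [ht2]; group
  obtain ⟨w, hw⟩ : ∃ w : G, w = t * u := ⟨_, rfl⟩
  have hwN : w ∈ N := by
    have := hNc g
    rw [htinv] at this
    rw [hw, hu]
    convert this using 1
    group
  have hwodd : Odd (orderOf w) := hNodd.of_dvd_nat (Subgroup.orderOf_dvd_natCard N hwN)
  obtain ⟨k, hk⟩ := hwodd
  have htw : t * w * t = w⁻¹ := by
    rw [hw]
    have : (t * u)⁻¹ = u * t := by
      rw [mul_inv_rev]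
      rw [inv_eq_of_mul_eq_one_left hu2, htinv]
    rw [this]
    calc t * (t * u) * t = (t * t) * u * t := by group
      _ = u * t := by rw [ht2, one_mul]
  obtain ⟨v, hv⟩ : ∃ v : G, v = w ^ (k + 1) := ⟨_, rfl⟩
  have hvN : v ∈ N := by rw [hv]; exact N.pow_mem hwN _
  have hvv : v * v = w := by
    rw [hv, ← pow_add]
    have : k + 1 + (k + 1) = orderOf w + 1 := by omega
    rw [this, pow_succ, pow_orderOf_eq_one, one_mul]
  have htv : t * v * t = v⁻¹ := by
    rw [hv, ← inv_pow, ← htw]
    have : ∀ n : ℕ, t * w ^ n * t = (t * w * t) ^ n := by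
      intro n
      induction n with
      | zero => simp [ht2]
      | succ n ih =>
        rw [pow_succ, pow_succ, ← ih]
        calc t * (w ^ n * w) * t = t * w ^ n * (1 * w) * t := by group
          _ = t * w ^ n * (t * t * w) * t := by rw [ht2]
          _ = t * w ^ n * t * (t * w * t) := by group
    exact this _
  -- `v⁻¹ t v = u`
  have hvt : v⁻¹ * t * v = u := by
    have h1 : v⁻¹ * t = t * v := by
      rw [← htv]
      calc t * v * t * t = t * v * (t * t) := by group
        _ = t * v := by rw [ht2, mul_one]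
    rw [h1, mul_assoc, hvv, hw, ← mul_assoc, ht2, one_mul]
  have hvg : v * g ∈ Subgroup.centralizer ({t} : Set G) := by
    rw [Subgroup.mem_centralizer_singleton_iff]
    have h2 : v * g * t * (v * g)⁻¹ = t := by
      calc v * g * t * (v * g)⁻¹ = v * (g * t * g⁻¹) * v⁻¹ := by group
        _ = v * (v⁻¹ * t * v) * v⁻¹ := by rw [← hu, hvt]
        _ = t := by group
    calc v * g * t = v * g * t * (v * g)⁻¹ * (v * g) := by group
      _ = t * (v * g) := by rw [h2]
  have hvinv : v⁻¹ ∈ Cfsg.oddCore G := hNle (N.inv_mem hvN)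
  have hg : g = v⁻¹ * (v * g) := by group
  rw [hg, sup_comm]
  exact Subgroup.mul_mem_sup hvinv hvg

end Ctx

end Cfsg.Agent.Lib.Helper73
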