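import Mathlib
import Cfsg.Agent.Lib.Helper73.D8Case0

/-!
# Involution centralizer dihedral of order eight: the group of order `24`
-/

set_option autoImplicit false

namespace Cfsg.Agent.Lib.Helper73

open DihedralGroup

/-- a faithful action on `n` points of a group of order `n!` identifies it with the symmetric
group -/
theorem perm_iso_of_hom {G X : Type*} [Group G] [Finite G] [Finite X] (φ : G →* Equiv.Perm X)
    (n : ℕ) (hX : Nat.card X = n) (hG : Nat.card G = n.factorial)
    (hinj : Function.Injective φ) : Nonempty (G ≃* Equiv.Perm (Fin n)) := by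
  have hbij : Function.Bijective φ := by
    rw [Nat.bijective_iff_injective_and_card]
    exact ⟨hinj, by rw [Nat.card_perm, hX, hG]⟩
  have e1 : G ≃* Equiv.Perm X := MulEquiv.ofBijective φ hbij
  have e2 : X ≃ Fin n := Finite.equivFinOfCardEq hX
  exact ⟨e1.trans e2.permCongrHom⟩

section Ctx

variable {G : Type*} [Group G] [Finite G] {t : G} {f : DihedralGroup 4 →* G} {P : Sylow 2 G}

/-- the three involutions `t`, `f (sr 0)`, `f (sr 2)` kill the subgroups of odd order which
they normalize -/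
theorem D8Ctx.odd_eq_bot (c : D8Ctx t f P) (h0 : IsConj t (f (sr 0))) (N : Subgroup G)
    (hnorm : ∀ u : G, (u = t ∨ u = f (sr 0) ∨ u = f (sr 0) * t) → ∀ n ∈ N, u * n * u⁻¹ ∈ N)
    (hodd : Odd (Nat.card N)) : N = ⊥ := by
  have hs2 : f (sr 0) * t = f (sr 2) := by rw [← c.ft, ← map_mul, d8f_sr0_r2]
  have h2 : IsConj t (f (sr 0) * t) := by
    rw [hs2]
    refine h0.trans (isConj_iff.mpr ⟨f (sr 1), ?_⟩)
    rw [← map_inv, ← map_mul, ← map_mul, d8f_sr1_sr0]
  refine inv3_odd_eq_bot t (f (sr 0)) c.ht (c.sr_order 0) (by rw [hs2]; exact c.sr_order 2)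
    ?_ N hnorm hodd
  intro u x hu hx hxo
  rcases hu with rfl | rfl | rfl
  · exact c.cent_odd u x (IsConj.refl _) hx hxo
  · exact c.cent_odd _ x h0 hx hxo
  · exact c.cent_odd _ x h2 hx hxo

/-- the case of order `24` -/
theorem D8Ctx.iso_S4 (c : D8Ctx t f P) (h0 : IsConj t (f (sr 0)))
    (hcard : Nat.card G = 24) : Nonempty (G ≃* Equiv.Perm (Fin 4)) := by
  haveI : Fact (Nat.Prime 3) := ⟨Nat.prime_three⟩
  have h3 : 3 ∣ Nat.card G := by rw [hcard]; norm_num
  have hQodd : ∀ Q : Sylow 3 G, Odd (Nat.card (Q : Subgroup G)) := by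
    intro Q
    obtain ⟨k, hk⟩ := (IsPGroup.iff_card.mp Q.isPGroup')
    rw [hk]
    exact Odd.pow (by decide)
  have hQne : ∀ Q : Sylow 3 G, (Q : Subgroup G) ≠ ⊥ := fun Q => Q.ne_bot_of_dvd_card h3
  -- the number of Sylow `3`-subgroups
  have hn3 : Nat.card (Sylow 3 G) = 4 := by
    have hmod := card_sylow_modEq_one 3 G
    obtain ⟨Q⟩ : Nonempty (Sylow 3 G) := inferInstance
    have hdvd : Nat.card (Sylow 3 G) ∣ 24 := by
      rw [← hcard]
      exact (Sylow.card_dvd_index Q).trans (Subgroup.index_dvd_card _)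
    have hne1 : Nat.card (Sylow 3 G) ≠ 1 := by
      intro h1
      haveI : Subsingleton (Sylow 3 G) := (Nat.card_eq_one_iff_unique.mp h1).1
      have hQn : (Q : Subgroup G).Normal := Sylow.normal_of_subsingleton Q
      exact hQne Q (c.odd_eq_bot h0 _ (fun u _ n hn => hQn.conj_mem n hn u) (hQodd Q))
    have hle : Nat.card (Sylow 3 G) ≤ 24 := Nat.le_of_dvd (by norm_num) hdvd
    unfold Nat.ModEq at hmod
    generalize Nat.card (Sylow 3 G) = n at *
    interval_cases n <;> omega
  -- the action on the Sylow `3`-subgroups is faithful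
  have hinj : Function.Injective (MulAction.toPermHom G (Sylow 3 G)) := by
    rw [← MonoidHom.ker_eq_bot_iff]
    obtain ⟨N, hN⟩ : ∃ N : Subgroup G, N = (MulAction.toPermHom G (Sylow 3 G)).ker := ⟨_, rfl⟩
    rw [← hN]
    have hNn : N.Normal := by rw [hN]; infer_instance
    have hfix : ∀ g ∈ N, ∀ Q : Sylow 3 G, g • Q = Q := by
      intro g hg Q
      rw [hN, MonoidHom.mem_ker] at hg
      have := congrArg (fun σ : Equiv.Perm (Sylow 3 G) => σ Q) hg
      simpa using this
    by_cases hodd : Odd (Nat.card N)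
    · exact c.odd_eq_bot h0 N (fun u _ n hn => hNn.conj_mem n hn u) hodd
    · exfalso
      have heven : 2 ∣ Nat.card N := by
        rw [← even_iff_two_dvd, ← Nat.not_odd_iff_even]; exact hodd
      have htN := c.t_mem_of_even N hNn heven
      have hs0N : f (sr 0) ∈ N := by
        obtain ⟨g, hg⟩ := isConj_iff.mp h0
        rw [← hg]
        exact hNn.conj_mem t htN g
      have hs2N : f (sr 0) * t ∈ N := N.mul_mem hs0N htN
      obtain ⟨Q⟩ : Nonempty (Sylow 3 G) := inferInstance
      refine hQne Q (c.odd_eq_bot h0 _ ?_ (hQodd Q))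
      intro u hu n hn
      have huN : u ∈ N := by
        rcases hu with rfl | rfl | rfl
        · exact htN
        · exact hs0N
        · exact hs2N
      have hnorm := Sylow.smul_eq_iff_mem_normalizer.mp (hfix u huN Q)
      exact (Subgroup.mem_normalizer_iff.mp hnorm n).mp hn
  exact perm_iso_of_hom (MulAction.toPermHom G (Sylow 3 G)) 4 hn3 (by rw [hcard]; rfl) hinj

end Ctx

end Cfsg.Agent.Lib.Helper73
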