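import Mathlib
import Cfsg.Agent.Lib.Helper73.DihedralIso

/-!
# The centralizer of a double transposition in `A₆` is dihedral of order eight
-/

set_option autoImplicit false

namespace Cfsg.Agent.Lib.Helper73

open Equiv

/-- the standard double transposition -/
def a6α : Equiv.Perm (Fin 6) := swap 0 1 * swap 2 3

/-- an element of order four squaring to the standard double transposition -/
def a6a : Equiv.Perm (Fin 6) := swap 0 2 * swap 1 3 * swap 0 1 * swap 4 5

/-- an involution inverting `a6a` -/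
def a6b : Equiv.Perm (Fin 6) := swap 0 1 * swap 4 5

theorem a6_sign_α : Equiv.Perm.sign a6α = 1 := by decide
theorem a6_sign_a : Equiv.Perm.sign a6a = 1 := by decide
theorem a6_sign_b : Equiv.Perm.sign a6b = 1 := by decide
theorem a6_a_comm : a6a * a6α = a6α * a6a := by decide
theorem a6_b_comm : a6b * a6α = a6α * a6b := by decide
theorem a6_a_sq : a6a * a6a = a6α := by decide
theorem a6_α_sq : a6α * a6α = 1 := by decide
theorem a6_α_ne : a6α ≠ 1 := by decide
theorem a6_b_sq : a6b * a6b = 1 := by decide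
theorem a6_b_a : a6b * a6a * a6b⁻¹ = a6a⁻¹ := by decide
theorem a6_α_supp : a6α.support.card = 4 := by decide

set_option maxRecDepth 100000 in
theorem a6_cent_card :
    Fintype.card {g : Equiv.Perm (Fin 6) // Equiv.Perm.sign g = 1 ∧ g * a6α = a6α * g} = 8 := by
  decide

/-- the cycle type of a permutation of order two moving four points -/
theorem cycleType_of_order_two_supp_four {n : ℕ} (σ : Equiv.Perm (Fin n)) (h2 : orderOf σ = 2)
    (h4 : σ.support.card = 4) : σ.cycleType = Multiset.replicate 2 2 := by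
  obtain ⟨k, hk⟩ := Equiv.Perm.cycleType_prime_order (σ := σ) (by rw [h2]; exact Nat.prime_two)
  rw [h2] at hk
  have hs := Equiv.Perm.sum_cycleType σ
  rw [hk, h4, Multiset.sum_replicate, smul_eq_mul] at hs
  have : k = 1 := by omega
  rw [hk, this]

/-- conjugate elements have isomorphic centralizers -/
theorem nonempty_centralizer_mulEquiv {A : Type*} [Group A] (φ : A ≃* A) (x : A) :
    Nonempty (Subgroup.centralizer ({x} : Set A) ≃* Subgroup.centralizer ({φ x} : Set A)) := by
  refine ⟨{ toFun := fun c => ⟨φ c, ?_⟩, invFun := fun c => ⟨φ.symm c, ?_⟩, left_inv := ?_,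
            right_inv := ?_, map_mul' := ?_ }⟩
  · rw [Subgroup.mem_centralizer_singleton_iff]
    have := Subgroup.mem_centralizer_singleton_iff.mp c.2
    rw [← map_mul, this, map_mul]
  · rw [Subgroup.mem_centralizer_singleton_iff]
    have := Subgroup.mem_centralizer_singleton_iff.mp c.2
    apply φ.injective
    rw [map_mul, map_mul, φ.apply_symm_apply]
    exact this
  · intro c
    exact Subtype.ext (φ.symm_apply_apply _)
  · intro c
    exact Subtype.ext (φ.apply_symm_apply _)
  · intro c₁ c₂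
    exact Subtype.ext (map_mul φ _ _)

/-- the centralizer of the standard double transposition in `A₆` -/
theorem a6_std_centralizer :
    Nonempty (Subgroup.centralizer
      ({(⟨a6α, Equiv.Perm.mem_alternatingGroup.mpr a6_sign_α⟩ : alternatingGroup (Fin 6))} :
        Set (alternatingGroup (Fin 6))) ≃* DihedralGroup 4) := by
  obtain ⟨α₀, hα₀⟩ : ∃ α₀ : alternatingGroup (Fin 6),
      α₀ = ⟨a6α, Equiv.Perm.mem_alternatingGroup.mpr a6_sign_α⟩ := ⟨_, rfl⟩
  rw [← hα₀]
  have hval : (α₀ : Equiv.Perm (Fin 6)) = a6α := by rw [hα₀]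
  have hmem : ∀ g : alternatingGroup (Fin 6),
      g ∈ Subgroup.centralizer ({α₀} : Set (alternatingGroup (Fin 6))) ↔
        (g : Equiv.Perm (Fin 6)) * a6α = a6α * (g : Equiv.Perm (Fin 6)) := by
    intro g
    rw [Subgroup.mem_centralizer_singleton_iff, ← hval]
    constructor
    · intro h; exact congrArg Subtype.val h
    · intro h; exact Subtype.ext h
  haveI : Finite (Subgroup.centralizer ({α₀} : Set (alternatingGroup (Fin 6)))) :=
    Finite.of_injective (fun c => (c : alternatingGroup (Fin 6))) Subtype.val_injective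
  -- the cardinality
  have hcard : Nat.card (Subgroup.centralizer ({α₀} : Set (alternatingGroup (Fin 6)))) = 2 * 4 := by
    have h8 : Nat.card {g : Equiv.Perm (Fin 6) // Equiv.Perm.sign g = 1 ∧ g * a6α = a6α * g} = 8 := by
      rw [Nat.card_eq_fintype_card]; exact a6_cent_card
    rw [show 2 * 4 = 8 from rfl, ← h8]
    refine Nat.card_congr
      { toFun := fun c => ⟨(c.1 : Equiv.Perm (Fin 6)), Equiv.Perm.mem_alternatingGroup.mp c.1.2,
          (hmem c.1).mp c.2⟩
        invFun := fun g => ⟨⟨g.1, Equiv.Perm.mem_alternatingGroup.mpr g.2.1⟩,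
          (hmem _).mpr g.2.2⟩
        left_inv := fun c => rfl
        right_inv := fun g => rfl }
  -- the generators
  obtain ⟨a, ha⟩ : ∃ a : Subgroup.centralizer ({α₀} : Set (alternatingGroup (Fin 6))),
      ((a : alternatingGroup (Fin 6)) : Equiv.Perm (Fin 6)) = a6a :=
    ⟨⟨⟨a6a, Equiv.Perm.mem_alternatingGroup.mpr a6_sign_a⟩, (hmem _).mpr a6_a_comm⟩, rfl⟩
  obtain ⟨b, hb⟩ : ∃ b : Subgroup.centralizer ({α₀} : Set (alternatingGroup (Fin 6))),
      ((b : alternatingGroup (Fin 6)) : Equiv.Perm (Fin 6)) = a6b :=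
    ⟨⟨⟨a6b, Equiv.Perm.mem_alternatingGroup.mpr a6_sign_b⟩, (hmem _).mpr a6_b_comm⟩, rfl⟩
  have hext : ∀ x y : Subgroup.centralizer ({α₀} : Set (alternatingGroup (Fin 6))),
      ((x : alternatingGroup (Fin 6)) : Equiv.Perm (Fin 6)) =
        ((y : alternatingGroup (Fin 6)) : Equiv.Perm (Fin 6)) → x = y :=
    fun x y h => Subtype.ext (Subtype.ext h)
  have ha4 : orderOf a = 4 := by
    have h1 : ¬ a ^ 2 ^ 1 = 1 := by
      intro h
      have := congrArg (fun x : Subgroup.centralizer ({α₀} : Set (alternatingGroup (Fin 6))) =>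
        ((x : alternatingGroup (Fin 6)) : Equiv.Perm (Fin 6))) h
      simp only [pow_one, pow_two, Subgroup.coe_mul, Subgroup.coe_one, ha, a6_a_sq] at this
      exact a6_α_ne this
    have h2 : a ^ 2 ^ (1 + 1) = 1 := by
      apply hext
      have : a ^ 2 ^ (1 + 1) = (a * a) * (a * a) := by
        rw [show 2 ^ (1 + 1) = 4 from rfl]; simp only [pow_succ, pow_zero, one_mul, mul_assoc]
      rw [this]
      simp only [Subgroup.coe_mul, Subgroup.coe_one, ha, a6_a_sq, a6_α_sq]
    have := orderOf_eq_prime_pow (p := 2) h1 h2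
    simpa using this
  have hb2 : b ^ 2 = 1 := by
    apply hext
    rw [pow_two]
    simp only [Subgroup.coe_mul, Subgroup.coe_one, hb, a6_b_sq]
  have hba : b * a * b⁻¹ = a⁻¹ := by
    apply hext
    simp only [Subgroup.coe_mul, Subgroup.coe_inv, ha, hb, a6_b_a]
  have hbA : b ∉ Subgroup.zpowers a := by
    intro hmem'
    obtain ⟨k, hk⟩ := Subgroup.mem_zpowers_iff.mp hmem'
    have hcomm : b * a = a * b := by
      rw [← hk]
      exact ((Commute.refl a).zpow_left k).eq
    have h1 : a = a⁻¹ := by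
      rw [← hba, hcomm]; group
    have h2 : a ^ 2 = 1 := by
      rw [pow_two]
      nth_rewrite 2 [h1]
      exact mul_inv_cancel a
    have h3 := orderOf_dvd_of_pow_eq_one h2
    rw [ha4] at h3
    omega
  exact nonempty_mulEquiv_dihedralGroup 4 a b ha4 hb2 hba hbA hcard

/-- the centralizer in `A₆` of any involution moving exactly four points is dihedral of order
eight -/
theorem a6_centralizer_dihedral (αt : alternatingGroup (Fin 6)) (hαt : orderOf αt = 2)
    (hsupp : (αt : Equiv.Perm (Fin 6)).support.card = 4) :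
    Nonempty (Subgroup.centralizer ({αt} : Set (alternatingGroup (Fin 6))) ≃* DihedralGroup 4) := by
  have h1 : (αt : Equiv.Perm (Fin 6)).cycleType = Multiset.replicate 2 2 :=
    cycleType_of_order_two_supp_four _ (by rw [Subgroup.orderOf_coe]; exact hαt) hsupp
  have h2 : a6α.cycleType = Multiset.replicate 2 2 := by
    haveI : Fact (Nat.Prime 2) := ⟨Nat.prime_two⟩
    refine cycleType_of_order_two_supp_four _ ?_ a6_α_supp
    exact orderOf_eq_prime (by rw [pow_two]; exact a6_α_sq) a6_α_ne
  have hconj : IsConj a6α (αt : Equiv.Perm (Fin 6)) :=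
    Equiv.Perm.isConj_iff_cycleType_eq.mpr (h2.trans h1.symm)
  obtain ⟨π, hπ⟩ := isConj_iff.mp hconj
  obtain ⟨e₀⟩ := a6_std_centralizer
  obtain ⟨e₁⟩ := nonempty_centralizer_mulEquiv (MulAut.conjNormal π : MulAut (alternatingGroup (Fin 6)))
    ⟨a6α, Equiv.Perm.mem_alternatingGroup.mpr a6_sign_α⟩
  have hx : (MulAut.conjNormal π : MulAut (alternatingGroup (Fin 6)))
      ⟨a6α, Equiv.Perm.mem_alternatingGroup.mpr a6_sign_α⟩ = αt := by
    apply Subtype.ext
    rw [MulAut.conjNormal_apply]
    exact hπ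
  rw [hx] at e₁
  exact ⟨e₁.symm.trans e₀⟩

end Cfsg.Agent.Lib.Helper73
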