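import Mathlib
import Cfsg.Agent.Lib.Helper73.D8Arith

/-!
# Arithmetic for the dihedral-centralizer order formula, with degree information
-/

set_option autoImplicit false

namespace Cfsg.Agent.Lib.Helper73

open Finset

theorem d8a_alg2 (g w v x y : ℚ) (hw : w ≠ 0) (hv : v ≠ 0) (hx : x ≠ 0) (hy : y ≠ 0)
    (E1 : 1 + 2 * w + v + x + y = 0) (E2 : 1 + v - x - y = 0)
    (E3 : g * (1 + 8 / w + 1 / v + 1 / x + 1 / y) = 256)
    (E4 : g * (1 + 1 / v - 1 / x - 1 / y) = 256) :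
    y = x ∧ w = -2 * x ∧ v = 2 * x - 1 ∧ g * (x - 1) ^ 2 = 128 * x * (2 * x - 1) := by
  have hg : g ≠ 0 := by
    rintro rfl
    simp at E4
  have h5 : g * (8 / w + 2 / x + 2 / y) = 0 := by linear_combination E3 - E4
  have h6 : 8 / w + 2 / x + 2 / y = 0 := (mul_eq_zero.mp h5).resolve_left hg
  have h7 : 8 * x * y + 2 * w * y + 2 * w * x = 0 := by
    have h8 : (8 / w + 2 / x + 2 / y) * (w * x * y) = 8 * x * y + 2 * w * y + 2 * w * x := by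
      field_simp
    rw [← h8, h6, zero_mul]
  have hw' : w = -(x + y) := by linarith
  have hxy : x = y := by
    have h9 : (x - y) ^ 2 = 0 := by
      rw [hw'] at h7
      linear_combination (-1 / 2 : ℚ) * h7
    have := pow_eq_zero_iff (n := 2) (by norm_num) |>.mp h9
    linarith
  subst hxy
  have hv' : v = 2 * x - 1 := by linarith
  refine ⟨rfl, by linarith, hv', ?_⟩
  subst hv'
  have h10 : (1 + 1 / (2 * x - 1) - 1 / x - 1 / x) * (x * (2 * x - 1)) = 2 * (x - 1) ^ 2 := by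
    field_simp
    ring
  have h11 : g * (2 * (x - 1) ^ 2) = 256 * (x * (2 * x - 1)) := by
    rw [← h10, ← mul_assoc, E4]
  linarith

theorem d8a_final2 (m : ℕ) (hm : Odd m) (x : ℤ) (hx : x ≠ 0)
    (h : ((8 * m : ℕ) : ℚ) * ((x : ℚ) - 1) ^ 2 = 128 * (x : ℚ) * (2 * (x : ℚ) - 1)) :
    (8 * m = 168 ∧ x = -3) ∨ (8 * m = 360 ∧ x = 5) := by
  have hZ : (m : ℤ) * (x - 1) ^ 2 = 16 * (x * (2 * x - 1)) := by
    have h1 : (m : ℚ) * ((x : ℚ) - 1) ^ 2 = 16 * ((x : ℚ) * (2 * (x : ℚ) - 1)) := by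
      push_cast at h
      linarith
    exact_mod_cast h1
  have hc1 : IsCoprime (x - 1) x := ⟨-1, 1, by ring⟩
  have hc2 : IsCoprime (x - 1) (2 * x - 1) := ⟨-2, 1, by ring⟩
  have hc : IsCoprime ((x - 1) ^ 2) (x * (2 * x - 1)) := (hc1.mul_right hc2).pow_left
  have hdvd : (x - 1) ^ 2 ∣ 16 * (x * (2 * x - 1)) := ⟨m, by rw [← hZ]; ring⟩
  have h16 : (x - 1) ^ 2 ∣ 16 := hc.dvd_of_dvd_mul_right hdvd
  have hle : (x - 1) ^ 2 ≤ 16 := Int.le_of_dvd (by norm_num) h16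
  have h1 : x - 1 ≤ 4 := by nlinarith
  have h2 : -4 ≤ x - 1 := by nlinarith
  have h3 : x ≤ 5 := by linarith
  have h4 : -3 ≤ x := by linarith
  obtain ⟨k, rfl⟩ := hm
  push_cast at hZ
  clear hc1 hc2 hc hdvd h16 hle h1 h2 h
  interval_cases x <;> norm_num at hZ <;> omega

theorem d8a_main {ι : Type*} [Fintype ι] [DecidableEq ι] (f a b : ι → ℤ) (i₀ : ι) (m : ℕ)
    (hm : Odd m)
    (hf : ∀ i, 0 < f i) (h0f : f i₀ = 1) (h0a : a i₀ = 1) (h0b : b i₀ = 1)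
    (hpar : ∀ i, ∃ d, a i + b i = 2 * d)
    (haa : ∑ i, a i ^ 2 = 8) (hbb : ∑ i, b i ^ 2 = 4) (hab : ∑ i, a i * b i = 0)
    (hfa : ∑ i, f i * a i = 0) (hfb : ∑ i, f i * b i = 0)
    (h3 : ((8 * m : ℕ) : ℚ) * ∑ i, (a i : ℚ) ^ 3 / (f i : ℚ) = 256)
    (h4 : ((8 * m : ℕ) : ℚ) * ∑ i, (a i : ℚ) ^ 2 * (b i : ℚ) / (f i : ℚ) = 256) :
    (8 * m = 168 ∨ 8 * m = 360) ∧ ∀ i, a i ≠ 0 → f i = 1 → i = i₀ := by
  obtain ⟨p, q, u, v, e₁, e₂, e₃, e₄, n1, n2, n3, n4, n5, n6, n7, n8, n9, n10, s1, s2, s3, s4,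
    hap, hbp, haq, hbq, hau, hbu, hav, hbv, hrest⟩ := d8a_five a b i₀ h0a h0b hpar haa hbb hab
  have hsum : ∀ {M : Type} [AddCommMonoid M] (F : ι → M),
      (∀ j, a j = 0 → b j = 0 → F j = 0) →
      ∑ i, F i = F i₀ + (F p + (F q + (F u + F v))) := by
    intro M _ F hF
    exact d8a_sum5 F i₀ p q u v n1 n2 n3 n4 n5 n6 n7 n8 n9 n10
      (fun j h1 h2 h3 h4 h5 => hF j (hrest j h1 h2 h3 h4 h5).1 (hrest j h1 h2 h3 h4 h5).2)
  rw [hsum (fun i => f i * a i) (fun j h _ => by simp [h])] at hfa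
  rw [hsum (fun i => f i * b i) (fun j _ h => by simp [h])] at hfb
  rw [hsum (fun i => (a i : ℚ) ^ 3 / (f i : ℚ)) (fun j h _ => by simp [h])] at h3
  rw [hsum (fun i => (a i : ℚ) ^ 2 * (b i : ℚ) / (f i : ℚ)) (fun j h _ => by simp [h])] at h4
  simp only [h0f, h0a, h0b, hap, hbp, haq, hbq, hau, hbu, hav, hbv] at hfa hfb h3 h4
  have fp : (f p : ℚ) ≠ 0 := by exact_mod_cast (hf p).ne'
  have fq : (f q : ℚ) ≠ 0 := by exact_mod_cast (hf q).ne'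
  have fu : (f u : ℚ) ≠ 0 := by exact_mod_cast (hf u).ne'
  have fv : (f v : ℚ) ≠ 0 := by exact_mod_cast (hf v).ne'
  have s1' : (e₁ : ℚ) = 1 ∨ (e₁ : ℚ) = -1 := by rcases s1 with h | h <;> simp [h]
  have s2' : (e₂ : ℚ) = 1 ∨ (e₂ : ℚ) = -1 := by rcases s2 with h | h <;> simp [h]
  have s3' : (e₃ : ℚ) = 1 ∨ (e₃ : ℚ) = -1 := by rcases s3 with h | h <;> simp [h]
  have s4' : (e₄ : ℚ) = 1 ∨ (e₄ : ℚ) = -1 := by rcases s4 with h | h <;> simp [h]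
  have ne1 : (e₁ : ℚ) ≠ 0 := by rcases s1' with h | h <;> rw [h] <;> norm_num
  have ne2 : (e₂ : ℚ) ≠ 0 := by rcases s2' with h | h <;> rw [h] <;> norm_num
  have ne3 : (e₃ : ℚ) ≠ 0 := by rcases s3' with h | h <;> rw [h] <;> norm_num
  have ne4 : (e₄ : ℚ) ≠ 0 := by rcases s4' with h | h <;> rw [h] <;> norm_num
  have h3' : ((8 * m : ℕ) : ℚ) * (1 + 8 / ((e₁ : ℚ) * (f p : ℚ)) + 1 / ((e₂ : ℚ) * (f q : ℚ)) +
      1 / ((e₃ : ℚ) * (f u : ℚ)) + 1 / ((e₄ : ℚ) * (f v : ℚ))) = 256 := by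
    rw [← h3]
    congr 1
    rw [← d8a_t1 _ _ s1' fp, ← d8a_t2 _ _ s2' fq, ← d8a_t2 _ _ s3' fu, ← d8a_t2 _ _ s4' fv]
    push_cast
    ring
  have h4' : ((8 * m : ℕ) : ℚ) * (1 + 1 / ((e₂ : ℚ) * (f q : ℚ)) -
      1 / ((e₃ : ℚ) * (f u : ℚ)) - 1 / ((e₄ : ℚ) * (f v : ℚ))) = 256 := by
    rw [← h4]
    congr 1
    have t3 := d8a_t3 _ _ s2' fq
    have t4 := d8a_t4 _ _ s3' fu
    have t5 := d8a_t4 _ _ s4' fv
    push_cast
    linear_combination -t3 - t4 - t5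
  have E1 : 1 + 2 * ((e₁ : ℚ) * (f p : ℚ)) + (e₂ : ℚ) * (f q : ℚ) + (e₃ : ℚ) * (f u : ℚ) +
      (e₄ : ℚ) * (f v : ℚ) = 0 := by
    have : ((1 * 1 + (f p * (2 * e₁) + (f q * e₂ + (f u * e₃ + f v * e₄))) : ℤ) : ℚ) = 0 := by
      rw [hfa]; simp
    push_cast at this
    linarith
  have E2 : 1 + (e₂ : ℚ) * (f q : ℚ) - (e₃ : ℚ) * (f u : ℚ) - (e₄ : ℚ) * (f v : ℚ) = 0 := by
    have : ((1 * 1 + (f p * 0 + (f q * e₂ + (f u * -e₃ + f v * -e₄))) : ℤ) : ℚ) = 0 := by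
      rw [hfb]; simp
    push_cast at this
    linarith
  obtain ⟨k1, k2, k3, k4⟩ := d8a_alg2 ((8 * m : ℕ) : ℚ) ((e₁ : ℚ) * (f p : ℚ))
    ((e₂ : ℚ) * (f q : ℚ)) ((e₃ : ℚ) * (f u : ℚ))
    ((e₄ : ℚ) * (f v : ℚ)) (mul_ne_zero ne1 fp) (mul_ne_zero ne2 fq) (mul_ne_zero ne3 fu)
    (mul_ne_zero ne4 fv) E1 E2 h3' h4'
  have hx0 : e₃ * f u ≠ 0 := by
    have h1 : e₃ ≠ 0 := by rcases s3 with h | h <;> rw [h] <;> norm_num
    exact mul_ne_zero h1 (hf u).ne'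
  have hfin := d8a_final2 m hm (e₃ * f u) hx0 (by push_cast at k4 ⊢; exact k4)
  have k1Z : e₄ * f v = e₃ * f u := by exact_mod_cast k1
  have k2Z : e₁ * f p = -2 * (e₃ * f u) := by exact_mod_cast k2
  have k3Z : e₂ * f q = 2 * (e₃ * f u) - 1 := by exact_mod_cast k3
  refine ⟨?_, ?_⟩
  · rcases hfin with h | h
    · exact Or.inl h.1
    · exact Or.inr h.1
  · intro i hai hfi
    by_contra hi0
    have hcase : i = p ∨ i = q ∨ i = u ∨ i = v := by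
      by_contra hc
      simp only [not_or] at hc
      exact hai (hrest i hi0 hc.1 hc.2.1 hc.2.2.1 hc.2.2.2).1
    have hX : e₃ * f u = -3 ∨ e₃ * f u = 5 := by
      rcases hfin with h | h
      · exact Or.inl h.2
      · exact Or.inr h.2
    rcases hcase with h | h | h | h
    · rw [h] at hfi
      rw [hfi] at k2Z
      rcases s1 with h1 | h1 <;> rcases hX with h2 | h2 <;> rw [h1, h2] at k2Z <;> omega
    · rw [h] at hfi
      rw [hfi] at k3Z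
      rcases s2 with h1 | h1 <;> rcases hX with h2 | h2 <;> rw [h1, h2] at k3Z <;> omega
    · rw [h] at hfi
      rw [hfi] at hX
      rcases s3 with h1 | h1 <;> rcases hX with h2 | h2 <;> rw [h1] at h2 <;> omega
    · rw [h] at hfi
      rw [hfi] at k1Z
      rcases s4 with h1 | h1 <;> rcases hX with h2 | h2 <;> rw [h1, h2] at k1Z <;> omega

end Cfsg.Agent.Lib.Helper73
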