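import Mathlib
import Cfsg.Agent.Lib.Helper73.D8Gen
import Cfsg.Agent.Lib.Helper73.D8Arith2
import Cfsg.Agent.Lib.Helper73.TwistSum
import Cfsg.Agent.Lib.Helper79.ClassMult
import Cfsg.Agent.Lib.Helper79.Linear
import Cfsg.Agent.Lib.Helper81.CharCore
import Cfsg.Agent.Lib.Helper77.Defect
import Cfsg.Agent.Lib.Helper15.LinIrr
import Cfsg.Agent.Lib.Helper83.ZassReg
import Cfsg.Agent.S0144

/-!
# Involution centralizer dihedral of order eight, one class of involutions:
order 168 or 360, perfect, simple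
-/

set_option autoImplicit false

namespace Cfsg.Agent.Lib.Helper73

open DihedralGroup

theorem d8g_order {G : Type*} [Group G] [Finite G] (t : G) (ht : orderOf t = 2)
    (e : Subgroup.centralizer ({t} : Set G) ≃* DihedralGroup 4)
    (hfus : ∀ u : G, orderOf u = 2 → IsConj u t) :
    (Nat.card G = 168 ∨ Nat.card G = 360) ∧ commutator G = ⊤ := by
  classical
  obtain ⟨f₀, hfinj, hft, hfsurj, hfcomm, hcardt, hcardσ, ⟨m, hm, hG⟩, -, -, hcounts⟩ :=
    d8g_structure t ht e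
  obtain ⟨σ, hσ⟩ : ∃ σ : G, σ = f₀ (r 1) := ⟨_, rfl⟩
  rw [← hσ] at hcardσ
  have hsr : ∀ i : ZMod 4, orderOf (f₀ (sr i)) = 2 := by
    intro i; rw [orderOf_injective f₀ hfinj, DihedralGroup.orderOf_sr]
  obtain ⟨hN1, hN2⟩ := hcounts (fun i => (hfus _ (hsr i)).symm)
  rw [← hσ] at hN2
  have hσσ : σ * σ = t := by rw [hσ, ← map_mul, d8f_r1_sq, hft]
  obtain ⟨s, hs⟩ : ∃ s : G, s * σ * s⁻¹ = σ⁻¹ :=
    ⟨f₀ (sr 0), by rw [hσ, ← map_inv f₀ (r 1), ← map_inv, ← map_mul, ← map_mul, d8f_sr_inverts, d8f_r1_inv]⟩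
  letI : Fintype G := Fintype.ofFinite G
  haveI : Finite (Cfsg.IrrCharacter G) := Cfsg.Agent.Lib.Helper81.irr_finite G
  letI : Fintype (Cfsg.IrrCharacter G) := Fintype.ofFinite _
  have ht2 : t * t = 1 := by rw [← pow_two, ← ht, pow_orderOf_eq_one]
  have ht1 : t ≠ 1 := by intro h; rw [h, orderOf_one] at ht; omega
  have htinv : t⁻¹ = t := inv_eq_of_mul_eq_one_left ht2
  have hσ4 : σ ^ 4 = 1 := by
    have : σ ^ 4 = (σ * σ) * (σ * σ) := by simp only [pow_succ, pow_zero, one_mul, mul_assoc]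
    rw [this, hσσ, ht2]
  have hσ2 : σ ^ 2 = t := by rw [pow_two, hσσ]
  have hσ3 : σ ^ 3 = σ⁻¹ := by rw [eq_inv_iff_mul_eq_one, ← pow_succ, hσ4]
  have hσ1 : σ ≠ 1 := by
    intro h; rw [h, one_mul] at hσσ; exact ht1 hσσ.symm
  have hσo : orderOf σ = 4 := by
    have h1 : ¬ σ ^ 2 ^ 1 = 1 := by rw [pow_one, hσ2]; exact ht1
    have h2 : σ ^ 2 ^ (1 + 1) = 1 := hσ4
    simpa using orderOf_eq_prime_pow h1 h2
  -- integrality data
  have hdata : ∀ χ : Cfsg.IrrCharacter G, ∃ (f : ℕ) (a b d : ℤ), 0 < f ∧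
      (χ : G → ℂ) 1 = (f : ℂ) ∧ (χ : G → ℂ) t = (a : ℂ) ∧ (χ : G → ℂ) σ = (b : ℂ) ∧
      a + b = 2 * d := by
    intro χ
    obtain ⟨x, hx0, hx⟩ := Cfsg.Agent.Lib.Helper81.irr_one_eq χ
    have hconj : (χ : G → ℂ) (σ ^ 3) = (χ : G → ℂ) σ := by
      rw [hσ3, ← hs]
      exact Cfsg.Agent.Lib.Helper81.irr_conj_class χ σ s
    have hchar := Cfsg.Agent.Lib.Helper3.isCharacter_of_irr χ.2
    obtain ⟨c, g, hc, hg⟩ := char_data_of_pow_four hchar σ hσ4 hconj
    obtain ⟨m₁, hm₁⟩ := twist_char hchar σ hσ4 1 (by norm_num)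
    rw [hconj, hσ2] at hm₁
    rw [hσ2] at hg
    have hta : (χ : G → ℂ) t = (((x : ℤ) - 4 * (g : ℤ) : ℤ) : ℂ) := by
      push_cast
      have hx' : (χ : G → ℂ) 1 = (x : ℂ) := hx
      rw [← hx']
      linear_combination -hg
    refine ⟨x, (x : ℤ) - 4 * g, c, (m₁ : ℤ) - g, hx0, hx, hta, hc, ?_⟩
    have hx' : (χ : G → ℂ) 1 = (x : ℂ) := hx
    rw [hta, hx', hc] at hm₁
    have h : (((x : ℤ) + c + ((x : ℤ) - 4 * g) + c : ℤ) : ℂ) = ((4 * (m₁ : ℤ) : ℤ) : ℂ) := by
      push_cast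
      push_cast at hm₁
      linear_combination hm₁
    have h' : (x : ℤ) + c + ((x : ℤ) - 4 * g) + c = 4 * (m₁ : ℤ) := by exact_mod_cast h
    linarith
  choose f a b d hf0 hf1 ha hb hd using hdata
  -- orthogonality relations
  have haa : ∑ χ : Cfsg.IrrCharacter G, a χ ^ 2 = 8 := by
    have h := Cfsg.Agent.Lib.Helper81.irr_col_orth (G := G) t t
    simp only [ha, map_intCast, hcardt] at h
    have h' : ((∑ χ : Cfsg.IrrCharacter G, a χ ^ 2 : ℤ) : ℂ) = ((8 : ℤ) : ℂ) := by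
      push_cast
      rw [← Nat.cast_ofNat (n := 8), ← h]
      exact Finset.sum_congr rfl (fun χ _ => by ring)
    exact_mod_cast h'
  have hbb : ∑ χ : Cfsg.IrrCharacter G, b χ ^ 2 = 4 := by
    have h := Cfsg.Agent.Lib.Helper81.irr_col_orth (G := G) σ σ
    simp only [hb, map_intCast, hcardσ] at h
    have h' : ((∑ χ : Cfsg.IrrCharacter G, b χ ^ 2 : ℤ) : ℂ) = ((4 : ℤ) : ℂ) := by
      push_cast
      rw [← Nat.cast_ofNat (n := 4), ← h]
      exact Finset.sum_congr rfl (fun χ _ => by ring)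
    exact_mod_cast h'
  have hE1 : Nat.card {y : G // y * σ * y⁻¹ = t} = 0 := by
    rw [Nat.card_eq_zero]
    left
    constructor
    rintro ⟨y, hy⟩
    have := Cfsg.Agent.Lib.Helper53.orderOf_conj_eq y σ
    rw [hy, ht, hσo] at this
    omega
  have hE2 : Nat.card {y : G // y * 1 * y⁻¹ = t} = 0 := by
    rw [Nat.card_eq_zero]
    left
    constructor
    rintro ⟨y, hy⟩
    apply ht1
    rw [← hy]; group
  have hE3 : Nat.card {y : G // y * 1 * y⁻¹ = σ} = 0 := by
    rw [Nat.card_eq_zero]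
    left
    constructor
    rintro ⟨y, hy⟩
    apply hσ1
    rw [← hy]; group
  have hab : ∑ χ : Cfsg.IrrCharacter G, a χ * b χ = 0 := by
    have h := Cfsg.Agent.Lib.Helper81.irr_col_orth (G := G) t σ
    simp only [ha, hb, map_intCast, hE1] at h
    have h' : ((∑ χ : Cfsg.IrrCharacter G, a χ * b χ : ℤ) : ℂ) = ((0 : ℤ) : ℂ) := by
      push_cast
      rw [h]; simp
    exact_mod_cast h'
  have hfa : ∑ χ : Cfsg.IrrCharacter G, (f χ : ℤ) * a χ = 0 := by
    have h := Cfsg.Agent.Lib.Helper81.irr_col_orth (G := G) t 1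
    simp only [ha, hf1, map_natCast, hE2] at h
    have h' : ((∑ χ : Cfsg.IrrCharacter G, (f χ : ℤ) * a χ : ℤ) : ℂ) = ((0 : ℤ) : ℂ) := by
      push_cast
      rw [← Nat.cast_zero, ← h]
      exact Finset.sum_congr rfl (fun χ _ => by ring)
    exact_mod_cast h'
  have hfb : ∑ χ : Cfsg.IrrCharacter G, (f χ : ℤ) * b χ = 0 := by
    have h := Cfsg.Agent.Lib.Helper81.irr_col_orth (G := G) σ 1
    simp only [hb, hf1, map_natCast, hE3] at h
    have h' : ((∑ χ : Cfsg.IrrCharacter G, (f χ : ℤ) * b χ : ℤ) : ℂ) = ((0 : ℤ) : ℂ) := by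
      push_cast
      rw [← Nat.cast_zero, ← h]
      exact Finset.sum_congr rfl (fun χ _ => by ring)
    exact_mod_cast h'
  -- class multiplication
  have hiff : ∀ x : G, IsConj x t ↔ orderOf x = 2 := by
    intro x
    constructor
    · intro h
      obtain ⟨c, hc⟩ := isConj_iff.mp h
      rw [← ht, ← hc, Cfsg.Agent.Lib.Helper53.orderOf_conj_eq]
    · exact hfus x
  have hCt : Nat.card (Subgroup.centralizer ({t} : Set G)) = 8 := by
    rw [Nat.card_congr e.toEquiv, DihedralGroup.nat_card]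
  have hG0 : (Nat.card G : ℂ) ≠ 0 := by exact_mod_cast Nat.card_pos.ne'
  have hfilt1 : ((Finset.univ.filter (fun g : G => IsConj (g * t * g⁻¹ * t) t)).card : ℂ) = 32 := by
    have h1 : (Finset.univ.filter (fun g : G => IsConj (g * t * g⁻¹ * t) t)) =
        Finset.univ.filter (fun g : G => orderOf (g * t * g⁻¹ * t) = 2) :=
      Finset.filter_congr (fun g _ => hiff _)
    rw [h1, ← Fintype.card_subtype, ← Nat.card_eq_fintype_card, hN1]
    norm_num
  have hfilt2 : ((Finset.univ.filter (fun g : G => IsConj (g * t * g⁻¹ * σ) t)).card : ℂ) = 32 := by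
    have h1 : (Finset.univ.filter (fun g : G => IsConj (g * t * g⁻¹ * σ) t)) =
        Finset.univ.filter (fun g : G => orderOf (g * t * g⁻¹ * σ) = 2) :=
      Finset.filter_congr (fun g _ => hiff _)
    rw [h1, ← Fintype.card_subtype, ← Nat.card_eq_fintype_card, hN2]
    norm_num
  have h3 : (Nat.card G : ℚ) * ∑ χ : Cfsg.IrrCharacter G,
      (((a χ : ℤ) : ℚ)) ^ 3 / (((f χ : ℕ) : ℤ) : ℚ) = 256 := by
    have hcm := Cfsg.Agent.Lib.Helper79.irr_class_mult (G := G) t t t
    rw [htinv, hCt] at hcm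
    simp only [ha, hf1] at hcm
    have hC : (Nat.card G : ℂ) * ∑ χ : Cfsg.IrrCharacter G, ((a χ : ℂ)) ^ 3 / ((f χ : ℂ)) =
        256 := by
      have h1 : ∑ χ : Cfsg.IrrCharacter G, ((a χ : ℂ)) ^ 3 / ((f χ : ℂ)) =
          ∑ χ : Cfsg.IrrCharacter G, (a χ : ℂ) * (a χ : ℂ) / (f χ : ℂ) * (a χ : ℂ) :=
        Finset.sum_congr rfl (fun χ _ => by ring)
      rw [h1, hcm, hfilt1]
      field_simp
      norm_num
    exact_mod_cast hC
  have h4 : (Nat.card G : ℚ) * ∑ χ : Cfsg.IrrCharacter G,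
      (((a χ : ℤ) : ℚ)) ^ 2 * ((b χ : ℤ) : ℚ) / (((f χ : ℕ) : ℤ) : ℚ) = 256 := by
    have hcm := Cfsg.Agent.Lib.Helper79.irr_class_mult (G := G) t σ t
    rw [htinv, hCt] at hcm
    simp only [ha, hb, hf1] at hcm
    have hC : (Nat.card G : ℂ) * ∑ χ : Cfsg.IrrCharacter G,
        ((a χ : ℂ)) ^ 2 * (b χ : ℂ) / ((f χ : ℂ)) = 256 := by
      have h1 : ∑ χ : Cfsg.IrrCharacter G, ((a χ : ℂ)) ^ 2 * (b χ : ℂ) / ((f χ : ℂ)) =
          ∑ χ : Cfsg.IrrCharacter G, (a χ : ℂ) * (b χ : ℂ) / (f χ : ℂ) * (a χ : ℂ) :=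
        Finset.sum_congr rfl (fun χ _ => by ring)
      rw [h1, hcm, hfilt2]
      field_simp
      norm_num
    exact_mod_cast hC
  -- the trivial character
  have h0f : ((f (Cfsg.Agent.Lib.Helper77.trivIrr G) : ℕ) : ℤ) = 1 := by
    have h := hf1 (Cfsg.Agent.Lib.Helper77.trivIrr G)
    rw [Cfsg.Agent.Lib.Helper77.trivIrr_apply] at h
    exact_mod_cast h.symm
  have h0a : a (Cfsg.Agent.Lib.Helper77.trivIrr G) = 1 := by
    have h := ha (Cfsg.Agent.Lib.Helper77.trivIrr G)
    rw [Cfsg.Agent.Lib.Helper77.trivIrr_apply] at h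
    exact_mod_cast h.symm
  have h0b : b (Cfsg.Agent.Lib.Helper77.trivIrr G) = 1 := by
    have h := hb (Cfsg.Agent.Lib.Helper77.trivIrr G)
    rw [Cfsg.Agent.Lib.Helper77.trivIrr_apply] at h
    exact_mod_cast h.symm
  obtain ⟨hcard, hlin⟩ := d8a_main (fun χ : Cfsg.IrrCharacter G => ((f χ : ℕ) : ℤ)) a b
    (Cfsg.Agent.Lib.Helper77.trivIrr G) m hm (fun χ => by exact_mod_cast hf0 χ)
    h0f h0a h0b (fun χ => ⟨d χ, hd χ⟩) haa hbb hab hfa hfb (by rw [← hG]; exact h3)
    (by rw [← hG]; exact h4)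
  refine ⟨by rw [hG]; exact hcard, ?_⟩
  -- perfectness: the only linear character is the trivial one
  have hone : ∀ φ : G →* ℂˣ, φ = 1 := by
    intro φ
    have hβ := Cfsg.Agent.Lib.Helper15.isCharacter_of_hom φ
    have hirr : Cfsg.IsIrrCharacter G (fun g => ((φ g : ℂˣ) : ℂ)) := by
      have h := Cfsg.Agent.Lib.Helper15.isIrrCharacter_lin_mul hβ (by simp)
        (Cfsg.Agent.Lib.Helper81.isIrrCharacter_one (G := G))
      have heq : ((fun g => ((φ g : ℂˣ) : ℂ)) * fun _ => (1 : ℂ)) = fun g => ((φ g : ℂˣ) : ℂ) := by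
        funext g; simp
      rw [heq] at h
      exact h
    obtain ⟨χ, hχ⟩ : ∃ χ : Cfsg.IrrCharacter G, χ = ⟨_, hirr⟩ := ⟨_, rfl⟩
    have hχv : ∀ g : G, (χ : G → ℂ) g = ((φ g : ℂˣ) : ℂ) := by intro g; rw [hχ]
    have hf1' : ((f χ : ℕ) : ℤ) = 1 := by
      have h := hf1 χ
      rw [hχv, map_one, Units.val_one] at h
      exact_mod_cast h.symm
    have ha' : a χ ≠ 0 := by
      intro h0
      have h := ha χ
      rw [h0, hχv] at h
      exact (Units.ne_zero (φ t)) (by simpa using h)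
    have h1 := hlin χ ha' hf1'
    ext g
    have h2 := hχv g
    rw [h1, Cfsg.Agent.Lib.Helper77.trivIrr_apply] at h2
    simp [← h2]
  have hcard1 : Nat.card (G →* ℂˣ) = 1 := by
    rw [Nat.card_eq_one_iff_unique]
    exact ⟨⟨fun a b => (hone a).trans (hone b).symm⟩, ⟨1⟩⟩
  rw [Cfsg.Agent.Lib.Helper79.card_monoidHom_units] at hcard1
  exact Subgroup.index_eq_one.mp hcard1

theorem d8g_simple {G : Type*} [Group G] [Finite G] (t : G) (ht : orderOf t = 2)
    (e : Subgroup.centralizer ({t} : Set G) ≃* DihedralGroup 4)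
    (hfus : ∀ u : G, orderOf u = 2 → IsConj u t) : IsSimpleGroup G := by
  classical
  obtain ⟨hcard, hperf⟩ := d8g_order t ht e hfus
  obtain ⟨f, hfinj, hft, hfsurj, hfcomm, hcardt, -, ⟨m, hm, hG⟩, ⟨P, hP⟩, -, -⟩ :=
    d8g_structure t ht e
  have ht1 : t ≠ 1 := by intro h; rw [h, orderOf_one] at ht; omega
  have hsr : ∀ i : ZMod 4, orderOf (f (sr i)) = 2 := by
    intro i; rw [orderOf_injective f hfinj, DihedralGroup.orderOf_sr]
  haveI : Nontrivial G := ⟨⟨t, 1, ht1⟩⟩
  refine IsSimpleGroup.mk ?_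
  intro N hN
  by_cases hodd : Odd (Nat.card N)
  · left
    have hcop : Nat.Coprime 8 (Nat.card N) := by
      have : Nat.Coprime 2 (Nat.card N) := Nat.coprime_two_left.mpr hodd
      exact Nat.Coprime.pow_left 3 this
    have hinv : ∀ u : G, orderOf u = 2 → ∀ n ∈ N, u * n * u⁻¹ = n⁻¹ := by
      intro u hu
      have hu2 : u * u = 1 := by rw [← pow_two, ← hu, pow_orderOf_eq_one]
      apply Cfsg.Agent.Lib.Helper83.inverts_of_fpf_invol N hu2 (fun n hn => hN.conj_mem n hn u)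
      intro c hc hcc
      obtain ⟨g, hg⟩ := isConj_iff.mp (hfus u hu)
      have hcu : c * u = u * c := by
        have := mul_inv_eq_iff_eq_mul.mp hcc
        exact this.symm
      have hct : g * c * g⁻¹ * t = t * (g * c * g⁻¹) := by
        rw [← hg]
        calc g * c * g⁻¹ * (g * u * g⁻¹) = g * (c * u) * g⁻¹ := by group
          _ = g * (u * c) * g⁻¹ := by rw [hcu]
          _ = g * u * g⁻¹ * (g * c * g⁻¹) := by group
      obtain ⟨d, hd⟩ := hfsurj _ hct
      have h1 : orderOf c ∣ 8 := by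
        rw [← Cfsg.Agent.Lib.Helper53.orderOf_conj_eq g c, ← hd, orderOf_injective f hfinj]
        have := orderOf_dvd_natCard d
        rwa [DihedralGroup.nat_card] at this
      have h2 : orderOf c ∣ Nat.card N := Subgroup.orderOf_dvd_natCard N hc
      have h3 : orderOf c ∣ 1 := by
        have := Nat.dvd_gcd h1 h2
        rwa [hcop] at this
      exact orderOf_eq_one_iff.mp (Nat.dvd_one.mp h3)
    rw [Subgroup.eq_bot_iff_forall]
    intro n hn
    have h1 := hinv (f (sr 0)) (hsr 0) n hn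
    have h2 := hinv t ht n hn
    have hst : orderOf (f (sr 0) * t) = 2 := by
      rw [← hft, ← map_mul, d8f_sr_r2]; exact hsr _
    have h3 := hinv (f (sr 0) * t) hst n hn
    have h4 : f (sr 0) * t * n * (f (sr 0) * t)⁻¹ = n := by
      calc f (sr 0) * t * n * (f (sr 0) * t)⁻¹ = f (sr 0) * (t * n * t⁻¹) * (f (sr 0))⁻¹ := by
            group
        _ = (f (sr 0) * n * (f (sr 0))⁻¹)⁻¹ := by rw [h2]; group
        _ = n := by rw [h1, inv_inv]
    have h5 : n * n = 1 := by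
      have : n = n⁻¹ := h4.symm.trans h3
      calc n * n = n * n⁻¹ := by rw [← this]
        _ = 1 := mul_inv_cancel n
    have h6 : orderOf n ∣ 2 := orderOf_dvd_of_pow_eq_one (by rw [pow_two, h5])
    have h7 : orderOf n ∣ Nat.card N := Subgroup.orderOf_dvd_natCard N hn
    have h8 : orderOf n ∣ 1 := by
      have := Nat.dvd_gcd h6 h7
      rwa [Nat.coprime_two_left.mpr hodd] at this
    exact orderOf_eq_one_iff.mp (Nat.dvd_one.mp h8)
  · right
    have heven : 2 ∣ Nat.card N := by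
      rw [← even_iff_two_dvd, ← Nat.not_odd_iff_even]; exact hodd
    haveI : Fact (Nat.Prime 2) := ⟨Nat.prime_two⟩
    obtain ⟨u, hu⟩ := exists_prime_orderOf_dvd_card' 2 heven
    have hall : ∀ w : G, orderOf w = 2 → w ∈ N := by
      intro w hw
      have h1 := hfus w hw
      have h2 := hfus (u : G) (by rw [Subgroup.orderOf_coe]; exact hu)
      obtain ⟨g, hg⟩ := isConj_iff.mp (h2.trans h1.symm)
      rw [← hg]
      exact hN.conj_mem _ u.2 g
    have hfN : ∀ d, f d ∈ N := by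
      intro d
      have hdec : ∀ d : DihedralGroup 4, ∃ i j : ZMod 4, d = sr i ∨ d = sr i * sr j := by decide
      obtain ⟨i, j, h | h⟩ := hdec d
      · rw [h]; exact hall _ (hsr i)
      · rw [h, map_mul]; exact N.mul_mem (hall _ (hsr i)) (hall _ (hsr j))
    have hPN : (P : Subgroup G) ≤ N := by
      rw [hP]
      intro x hx
      obtain ⟨d, rfl⟩ := hfsurj x (Subgroup.mem_centralizer_singleton_iff.mp hx)
      exact hfN d
    have hPc : Nat.card (P : Subgroup G) = 8 := by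
      rw [hP, Nat.card_congr e.toEquiv, DihedralGroup.nat_card]
    have h8 : 8 ∣ Nat.card N := by
      have := Subgroup.card_dvd_of_le hPN
      rwa [hPc] at this
    have hidx : Nat.card N * N.index = Nat.card G := N.card_mul_index
    have hk : N.index ∣ 21 ∨ N.index ∣ 45 := by
      obtain ⟨c, hc⟩ := h8
      rw [hc] at hidx
      rcases hcard with h | h
      · left
        rw [h] at hidx
        exact ⟨c, by nlinarith⟩
      · right
        rw [h] at hidx
        exact ⟨c, by nlinarith⟩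
    have hsolv : Group.IsSolvable (G ⧸ N) := by
      have hq : Nat.card (G ⧸ N) = N.index := rfl
      rcases hk with h | h
      · have hmem : N.index ∈ Nat.divisors 21 := Nat.mem_divisors.mpr ⟨h, by norm_num⟩
        rw [show Nat.divisors 21 = {1, 3, 7, 21} from by decide] at hmem
        simp only [Finset.mem_insert, Finset.mem_singleton] at hmem
        rcases hmem with h1 | h1 | h1 | h1
        · exact Cfsg.Agent.S0144.result 3 7 0 0 Nat.prime_three (by norm_num) (by rw [hq, h1] <;> norm_num)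
        · exact Cfsg.Agent.S0144.result 3 7 1 0 Nat.prime_three (by norm_num) (by rw [hq, h1] <;> norm_num)
        · exact Cfsg.Agent.S0144.result 3 7 0 1 Nat.prime_three (by norm_num) (by rw [hq, h1] <;> norm_num)
        · exact Cfsg.Agent.S0144.result 3 7 1 1 Nat.prime_three (by norm_num) (by rw [hq, h1] <;> norm_num)
      · have hmem : N.index ∈ Nat.divisors 45 := Nat.mem_divisors.mpr ⟨h, by norm_num⟩
        rw [show Nat.divisors 45 = {1, 3, 5, 9, 15, 45} from by decide] at hmem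
        simp only [Finset.mem_insert, Finset.mem_singleton] at hmem
        rcases hmem with h1 | h1 | h1 | h1 | h1 | h1
        · exact Cfsg.Agent.S0144.result 3 5 0 0 Nat.prime_three Nat.prime_five (by rw [hq, h1] <;> norm_num)
        · exact Cfsg.Agent.S0144.result 3 5 1 0 Nat.prime_three Nat.prime_five (by rw [hq, h1] <;> norm_num)
        · exact Cfsg.Agent.S0144.result 3 5 0 1 Nat.prime_three Nat.prime_five (by rw [hq, h1] <;> norm_num)
        · exact Cfsg.Agent.S0144.result 3 5 2 0 Nat.prime_three Nat.prime_five (by rw [hq, h1] <;> norm_num)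
        · exact Cfsg.Agent.S0144.result 3 5 1 1 Nat.prime_three Nat.prime_five (by rw [hq, h1] <;> norm_num)
        · exact Cfsg.Agent.S0144.result 3 5 2 1 Nat.prime_three Nat.prime_five (by rw [hq, h1] <;> norm_num)
    by_contra hne
    haveI : Nontrivial (G ⧸ N) := by
      rw [QuotientGroup.nontrivial_iff]
      exact hne
    have hlt := Group.IsSolvable.commutator_lt_top_of_nontrivial (G ⧸ N)
    have htop : commutator (G ⧸ N) = ⊤ := by
      rw [commutator_def, ← Subgroup.map_top_of_surjective (QuotientGroup.mk' N)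
        (QuotientGroup.mk'_surjective N), ← Subgroup.map_commutator, ← commutator_def, hperf]
    exact (lt_irrefl _) (htop ▸ hlt)

end Cfsg.Agent.Lib.Helper73
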