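import Mathlib
import Cfsg.Agent.Lib.Helper73.D8Order
import Cfsg.Agent.Lib.Helper73.A6Cent
import Cfsg.Agent.S0495

/-!
# Groups with a dihedral involution centralizer of order eight and one class of involutions
-/

set_option autoImplicit false

namespace Cfsg.Agent.Lib.Helper73

/-- one class of involutions, centralizer dihedral of order eight: `PSL₂(7)` or simple of order
`360` -/
theorem d8g_identify {G : Type*} [Group G] [Finite G] (t : G) (ht : orderOf t = 2)
    (e : Subgroup.centralizer ({t} : Set G) ≃* DihedralGroup 4)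
    (hfus : ∀ u : G, orderOf u = 2 → IsConj u t) :
    (IsSimpleGroup G ∧ Nat.card G = 360) ∨
      Nonempty (G ≃* Matrix.ProjectiveSpecialLinearGroup (Fin 2) (ZMod 7)) := by
  obtain ⟨hcard, -⟩ := d8g_order t ht e hfus
  have hsimple := d8g_simple t ht e hfus
  rcases hcard with h | h
  · right
    haveI : Fact (Nat.Prime 7) := ⟨by norm_num⟩
    exact Cfsg.Agent.S0495.result h (F := ZMod 7) (ZMod.card 7)
  · left
    exact ⟨hsimple, h⟩

/-- the statement of S3261 modulo the identification of simple groups of order `360` -/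
theorem d8g_no_index_two {G : Type*} [Group G] [Finite G]
    (hG : ∀ H : Subgroup G, H.index ≠ 2)
    (αt : ↥(alternatingGroup (Fin 6))) (hαt : orderOf αt = 2)
    (hsupp : (αt : Equiv.Perm (Fin 6)).support.card = 4)
    (α : G) (hα : orderOf α = 2)
    (e : ↥(Subgroup.centralizer ({α} : Set G)) ≃*
      ↥(Subgroup.centralizer ({αt} : Set ↥(alternatingGroup (Fin 6)))))
    (h360 : IsSimpleGroup G → Nat.card G = 360 →
      Nonempty (G ≃* ↥(alternatingGroup (Fin 6)))) :
    Nonempty (G ≃* ↥(alternatingGroup (Fin 6))) ∨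
      (∃ (F : Type) (_ : Field F) (_ : Fintype F), Fintype.card F = 7 ∧
        Nonempty (G ≃* Matrix.ProjectiveSpecialLinearGroup (Fin 2) F)) := by
  obtain ⟨e₀⟩ := a6_centralizer_dihedral αt hαt hsupp
  obtain ⟨f, -, -, -, -, -, -, -, -, hfus, -⟩ := d8g_structure α hα (e.trans e₀)
  have hfus' := hfus (fun M _ => hG M)
  rcases d8g_identify α hα (e.trans e₀) hfus' with ⟨hs, hc⟩ | h
  · exact Or.inl (h360 hs hc)
  · right
    haveI : Fact (Nat.Prime 7) := ⟨by norm_num⟩
    exact ⟨ZMod 7, inferInstance, inferInstance, ZMod.card 7, h⟩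

end Cfsg.Agent.Lib.Helper73
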