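import Mathlib
import Cfsg.Agent.Lib.Helper73.D8S4

/-!
# Involution centralizer dihedral of order eight: the group of order `120`
-/

set_option autoImplicit false

namespace Cfsg.Agent.Lib.Helper73

open DihedralGroup

theorem d8f_V_mul : ∀ a b : DihedralGroup 4, (a = 1 ∨ a = r 2 ∨ a = sr 0 ∨ a = sr 2) →
    (b = 1 ∨ b = r 2 ∨ b = sr 0 ∨ b = sr 2) → (a * b = 1 ∨ a * b = r 2 ∨ a * b = sr 0 ∨
      a * b = sr 2) := by decide

theorem d8f_V_inv : ∀ a : DihedralGroup 4, (a = 1 ∨ a = r 2 ∨ a = sr 0 ∨ a = sr 2) →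
    (a⁻¹ = 1 ∨ a⁻¹ = r 2 ∨ a⁻¹ = sr 0 ∨ a⁻¹ = sr 2) := by decide

/-- the four-subgroup of the dihedral group of order eight containing `sr 0` -/
def d8V : Subgroup (DihedralGroup 4) where
  carrier := {d | d = 1 ∨ d = r 2 ∨ d = sr 0 ∨ d = sr 2}
  mul_mem' := fun {a b} ha hb => d8f_V_mul a b ha hb
  one_mem' := Or.inl rfl
  inv_mem' := fun {a} ha => d8f_V_inv a ha

theorem d8V_mem (d : DihedralGroup 4) : d ∈ d8V ↔ (d = 1 ∨ d = r 2 ∨ d = sr 0 ∨ d = sr 2) :=
  Iff.rfl

theorem d8V_card : Nat.card d8V = 4 := by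
  exact (Nat.card_congr (Equiv.subtypeEquivRight (fun d => d8V_mem d))).trans d8f_V_card

section Ctx

variable {G : Type*} [Group G] [Finite G] {t : G} {f : DihedralGroup 4 →* G} {P : Sylow 2 G}

/-- the index two subgroup is simple when it is perfect -/
theorem D8Ctx.K_simple (c : D8Ctx t f P) (K : Subgroup G) (hKn : K.Normal) (hKi : K.index = 2)
    (hs1 : f (sr 1) ∉ K) (h0 : IsConj t (f (sr 0))) (hK60 : Nat.card K = 60)
    (hperf : commutator ↥K = ⊤) : IsSimpleGroup ↥K := by
  have hmem := c.K_mem K hKn hKi hs1 h0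
  have htK : t ∈ K := by
    have := (hmem (r 2)).mpr (Or.inr (Or.inl rfl))
    rwa [c.ft] at this
  have hs0K : f (sr 0) ∈ K := (hmem (sr 0)).mpr (Or.inr (Or.inr (Or.inl rfl)))
  have hs2 : f (sr 0) * t = f (sr 2) := by rw [← c.ft, ← map_mul, d8f_sr0_r2]
  have h2 : IsConj t (f (sr 0) * t) := by
    rw [hs2]
    refine h0.trans (isConj_iff.mpr ⟨f (sr 1), ?_⟩)
    rw [← map_inv, ← map_mul, ← map_mul, d8f_sr1_sr0]
  obtain ⟨z, hz⟩ : ∃ z : ↥K, z = ⟨t, htK⟩ := ⟨_, rfl⟩
  obtain ⟨s, hs⟩ : ∃ s : ↥K, s = ⟨f (sr 0), hs0K⟩ := ⟨_, rfl⟩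
  have hzv : (z : G) = t := by rw [hz]
  have hsv : (s : G) = f (sr 0) := by rw [hs]
  have hszv : ((s * z : ↥K) : G) = f (sr 0) * t := by rw [Subgroup.coe_mul, hzv, hsv]
  have hzo : orderOf z = 2 := by rw [← Subgroup.orderOf_coe, hzv]; exact c.ht
  have hso : orderOf s = 2 := by rw [← Subgroup.orderOf_coe, hsv]; exact c.sr_order 0
  have hszo : orderOf (s * z) = 2 := by
    rw [← Subgroup.orderOf_coe, hszv, hs2]; exact c.sr_order 2
  refine simple_of_involutions hperf z s hzo hso hszo ?_ ?_ ?_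
  · intro u x hu hx hxo
    have hconj : IsConj t (u : G) := by
      rcases hu with rfl | rfl | rfl
      · rw [hzv]
      · rw [hsv]; exact h0
      · rw [hszv]; exact h2
    have hx' : (x : G) * (u : G) = (u : G) * (x : G) := by
      have := congrArg Subtype.val hx
      simpa using this
    have := c.cent_odd (u : G) (x : G) hconj hx' (by rw [Subgroup.orderOf_coe]; exact hxo)
    exact Subtype.ext this
  · intro u hu
    obtain ⟨k, hk, hku⟩ := c.K_fus K hKn hKi hs1 h0 (u : G) u.2
      (by rw [Subgroup.orderOf_coe]; exact hu)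
    refine (isConj_iff.mpr ⟨⟨k, hk⟩, ?_⟩).symm
    apply Subtype.ext
    rw [Subgroup.coe_mul, Subgroup.coe_mul, Subgroup.coe_inv, hzv]
    exact hku
  · intro N hN hall
    have hzN : z ∈ N := hall z hzo
    have hsN : s ∈ N := hall s hso
    have hszN : s * z ∈ N := hall _ hszo
    have h4 : 4 ∣ Nat.card N := by
      have hle : d8V.map f ≤ N.map K.subtype := by
        rintro _ ⟨d, hd, rfl⟩
        rcases (d8V_mem d).mp hd with rfl | rfl | rfl | rfl
        · rw [map_one]; exact Subgroup.one_mem _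
        · exact ⟨z, hzN, by rw [c.ft]; exact hzv⟩
        · exact ⟨s, hsN, hsv⟩
        · exact ⟨s * z, hszN, by rw [← hs2]; exact hszv⟩
      have := Subgroup.card_dvd_of_le hle
      rwa [Subgroup.card_map_of_injective c.inj, d8V_card,
        Subgroup.card_map_of_injective K.subtype_injective] at this
    have hidx : Nat.card N * N.index = 60 := by rw [N.card_mul_index, hK60]
    have hcardq : Nat.card (↥K ⧸ N) = N.index := (Subgroup.index_eq_card N).symm
    obtain ⟨j, hj⟩ := h4
    have h15 : N.index ∣ 15 := ⟨j, by rw [hj] at hidx; lia⟩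
    have hle : N.index ≤ 15 := Nat.le_of_dvd (by norm_num) h15
    have hcases : N.index = 3 ^ 0 * 5 ^ 0 ∨ N.index = 3 ^ 1 * 5 ^ 0 ∨ N.index = 3 ^ 0 * 5 ^ 1 ∨
        N.index = 3 ^ 1 * 5 ^ 1 := by
      generalize N.index = n at *
      interval_cases n <;> omega
    rcases hcases with h | h | h | h
    · exact Cfsg.Agent.S0144.result 3 5 0 0 Nat.prime_three Nat.prime_five (hcardq.trans h)
    · exact Cfsg.Agent.S0144.result 3 5 1 0 Nat.prime_three Nat.prime_five (hcardq.trans h)
    · exact Cfsg.Agent.S0144.result 3 5 0 1 Nat.prime_three Nat.prime_five (hcardq.trans h)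
    · exact Cfsg.Agent.S0144.result 3 5 1 1 Nat.prime_three Nat.prime_five (hcardq.trans h)

end Ctx

/-- a simple group of order `60` has five Sylow `2`-subgroups, none of them normal -/
theorem simple60_sylow2 {K : Type*} [Group K] [Finite K] [IsSimpleGroup K]
    (hK60 : Nat.card K = 60) :
    Nat.card (Sylow 2 K) = 5 ∧ ∀ Q : Sylow 2 K, ¬ (Q : Subgroup K).Normal := by
  haveI : Fact (Nat.Prime 2) := ⟨Nat.prime_two⟩
  have hQcard : ∀ Q : Sylow 2 K, Nat.card (Q : Subgroup K) = 4 := by
    intro Q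
    obtain ⟨k, hk⟩ := IsPGroup.iff_card.mp Q.isPGroup'
    have h1 := (Q : Subgroup K).card_mul_index
    rw [hK60, hk] at h1
    have h2 : ¬ 2 ∣ (Q : Subgroup K).index := Q.not_dvd_index
    have hk5 : k < 6 := by
      by_contra hk6
      have h3 : 2 ^ 6 ≤ 2 ^ k := Nat.pow_le_pow_right (by norm_num) (by omega)
      have h4 : 2 ^ k ≤ 60 := Nat.le_of_dvd (by norm_num) ⟨_, h1.symm⟩
      omega
    rw [hk]
    interval_cases k <;> first | omega | (norm_num at h1 ⊢; omega) | norm_num
  have hQnn : ∀ Q : Sylow 2 K, ¬ (Q : Subgroup K).Normal := by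
    intro Q hn
    rcases hn.eq_bot_or_eq_top with h | h
    · exact Q.ne_bot_of_dvd_card (by rw [hK60]; norm_num) h
    · have := hQcard Q
      rw [h, Subgroup.card_top, hK60] at this
      omega
  refine ⟨?_, hQnn⟩
  obtain ⟨Q⟩ : Nonempty (Sylow 2 K) := inferInstance
  have hmod := card_sylow_modEq_one 2 K
  have hidx : (Q : Subgroup K).index = 15 := by
    have h1 := (Q : Subgroup K).card_mul_index
    rw [hK60, hQcard Q] at h1
    omega
  have hdvd : Nat.card (Sylow 2 K) ∣ 15 := by rw [← hidx]; exact Sylow.card_dvd_index Q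
  have hne1 : Nat.card (Sylow 2 K) ≠ 1 := by
    intro h1
    haveI : Subsingleton (Sylow 2 K) := (Nat.card_eq_one_iff_unique.mp h1).1
    exact hQnn Q (Sylow.normal_of_subsingleton Q)
  have hne3 : Nat.card (Sylow 2 K) ≠ 3 := by
    intro h3
    rcases (MulAction.toPermHom K (Sylow 2 K)).normal_ker.eq_bot_or_eq_top with h | h
    · have hinj : Function.Injective (MulAction.toPermHom K (Sylow 2 K)) :=
        (MonoidHom.ker_eq_bot_iff _).mp h
      have := Nat.card_le_card_of_injective _ hinj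
      rw [Nat.card_perm, h3, hK60] at this
      norm_num [Nat.factorial] at this
    · apply hQnn Q
      rw [← Subgroup.normalizer_eq_top_iff, eq_top_iff]
      intro k _
      have hk : k ∈ (MulAction.toPermHom K (Sylow 2 K)).ker := by rw [h]; trivial
      rw [MonoidHom.mem_ker] at hk
      have := congrArg (fun σ : Equiv.Perm (Sylow 2 K) => σ Q) hk
      exact Sylow.smul_eq_iff_mem_normalizer.mp (by simpa using this)
  have hne15 : Nat.card (Sylow 2 K) ≠ 15 := by
    intro h15
    have hnidx : (Subgroup.normalizer ((Q : Subgroup K) : Set K)).index = 15 := by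
      have := Sylow.card_eq_index_normalizer Q
      rw [h15] at this
      exact this.symm
    have hncard : Nat.card (Subgroup.normalizer ((Q : Subgroup K) : Set K)) = 4 := by
      have h1 := (Subgroup.normalizer ((Q : Subgroup K) : Set K)).card_mul_index
      rw [hK60, hnidx] at h1
      omega
    have hnQ : Subgroup.normalizer ((Q : Subgroup K) : Set K) = (Q : Subgroup K) := by
      symm
      apply Subgroup.eq_of_le_of_card_ge Subgroup.le_normalizer
      rw [hncard, hQcard Q]
    have hcomm : ∀ a b : (Q : Subgroup K), a * b = b * a := by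
      have hmc : IsMulCommutative (Q : Subgroup K) :=
        IsPGroup.isMulCommutative_of_card_eq_prime_sq (p := 2) (by rw [hQcard Q]; norm_num)
      intro a b
      exact hmc.is_comm.comm a b
    have hP : Subgroup.normalizer ((Q : Subgroup K) : Set K) ≤
        Subgroup.centralizer ((Q : Subgroup K) : Set K) := by
      rw [hnQ]
      intro a ha
      rw [Subgroup.mem_centralizer_iff]
      intro b hb
      have := hcomm ⟨b, hb⟩ ⟨a, ha⟩
      exact congrArg Subtype.val this
    have hcompl := MonoidHom.ker_transferSylow_isComplement' Q hP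
    have hker := hcompl.card_mul_card
    rcases (MonoidHom.transferSylow Q hP).normal_ker.eq_bot_or_eq_top with h | h
    · rw [h, Subgroup.card_bot, hK60] at hker
      have := hQcard Q
      omega
    · rw [h, Subgroup.card_top, hK60] at hker
      have := hQcard Q
      omega
  have hle : Nat.card (Sylow 2 K) ≤ 15 := Nat.le_of_dvd (by norm_num) hdvd
  unfold Nat.ModEq at hmod
  generalize Nat.card (Sylow 2 K) = n at *
  interval_cases n <;> omega

section Ctx

variable {G : Type*} [Group G] [Finite G] {t : G} {f : DihedralGroup 4 →* G} {P : Sylow 2 G}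

/-- the case of order `120` -/
theorem D8Ctx.iso_S5 (c : D8Ctx t f P) (K : Subgroup G) (hKn : K.Normal) (hKi : K.index = 2)
    (hs1 : f (sr 1) ∉ K) (h0 : IsConj t (f (sr 0))) (hK60 : Nat.card K = 60)
    (hperf : commutator ↥K = ⊤) : Nonempty (G ≃* Equiv.Perm (Fin 5)) := by
  haveI := hKn
  haveI : Fact (Nat.Prime 2) := ⟨Nat.prime_two⟩
  haveI := c.K_simple K hKn hKi hs1 h0 hK60 hperf
  obtain ⟨hn2, hQnn⟩ := simple60_sylow2 hK60
  have hcard : Nat.card G = 120 := by
    have := K.card_mul_index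
    rw [hKi, hK60] at this
    omega
  have htK : t ∈ K := by
    have := (c.K_mem K hKn hKi hs1 h0 (r 2)).mpr (Or.inr (Or.inl rfl))
    rwa [c.ft] at this
  obtain ⟨φ, hφ⟩ : ∃ φ : G →* Equiv.Perm (Sylow 2 ↥K),
      φ = (MulAction.toPermHom (MulAut ↥K) (Sylow 2 ↥K)).comp MulAut.conjNormal := ⟨_, rfl⟩
  have hφapp : ∀ (g : G) (Q : Sylow 2 ↥K), φ g Q = (MulAut.conjNormal g : MulAut ↥K) • Q := by
    intro g Q; rw [hφ]; rfl
  have hfixK : ∀ (k : ↥K) (Q : Sylow 2 ↥K), φ (k : G) Q = Q →
      k ∈ Subgroup.normalizer ((Q : Subgroup ↥K) : Set ↥K) := by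
    intro k Q h
    rw [hφapp, MulAut.conjNormal_val, ← Sylow.smul_def] at h
    exact Sylow.smul_eq_iff_mem_normalizer.mp h
  have hinj : Function.Injective φ := by
    rw [← MonoidHom.ker_eq_bot_iff]
    obtain ⟨N, hN⟩ : ∃ N : Subgroup G, N = φ.ker := ⟨_, rfl⟩
    rw [← hN]
    have hNn : N.Normal := by rw [hN]; infer_instance
    by_cases hodd : Odd (Nat.card N)
    · exact c.odd_eq_bot h0 N (fun u _ n hn => hNn.conj_mem n hn u) hodd
    · exfalso
      have heven : 2 ∣ Nat.card N := by
        rw [← even_iff_two_dvd, ← Nat.not_odd_iff_even]; exact hodd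
      have htN := c.t_mem_of_even N hNn heven
      have hM : (N.subgroupOf K).Normal := hNn.subgroupOf K
      rcases hM.eq_bot_or_eq_top with h | h
      · have hmem : (⟨t, htK⟩ : ↥K) ∈ N.subgroupOf K := by
          rw [Subgroup.mem_subgroupOf]; exact htN
        rw [h, Subgroup.mem_bot] at hmem
        exact c.t_ne_one (congrArg Subtype.val hmem)
      · obtain ⟨Q⟩ : Nonempty (Sylow 2 ↥K) := inferInstance
        apply hQnn Q
        rw [← Subgroup.normalizer_eq_top_iff, eq_top_iff]
        intro k _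
        have hkN : (k : G) ∈ N := by
          have hk : k ∈ N.subgroupOf K := by rw [h]; trivial
          exact Subgroup.mem_subgroupOf.mp hk
        rw [hN, MonoidHom.mem_ker] at hkN
        exact hfixK k Q (by rw [hkN]; rfl)
  exact perm_iso_of_hom φ 5 hn2 (by rw [hcard]; rfl) hinj

end Ctx

end Cfsg.Agent.Lib.Helper73
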