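import Mathlib
import Cfsg.Agent.Lib.Helper73.D8S5
import Cfsg.Agent.Lib.Helper73.D8Classify
import Cfsg.Agent.S0249
import Cfsg.Agent.S0445
import Cfsg.Agent.S0495
import Cfsg.Agent.S0497

/-!
# Involution centralizer dihedral of order eight: the classification
-/

set_option autoImplicit false

namespace Cfsg.Agent.Lib.Helper73

open DihedralGroup

theorem zmod2_cube : ∀ a : ZMod 2, a ^ 3 = 1 → a = 1 := by decide

/-- `SL₃(2)` has trivial centre -/
theorem sl32_center :
    Subgroup.center (Matrix.SpecialLinearGroup (Fin 3) (ZMod 2)) = ⊥ := by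
  rw [Subgroup.eq_bot_iff_forall]
  intro A hA
  rw [Matrix.SpecialLinearGroup.mem_center_iff] at hA
  obtain ⟨a, ha, hA⟩ := hA
  have ha1 : a = 1 := zmod2_cube a (by simpa using ha)
  apply Subtype.ext
  rw [← hA, ha1]
  simp

/-- `SL₃(2)` is isomorphic to `PSL₂(7)` -/
theorem sl32_iso_psl27 : Nonempty (Matrix.SpecialLinearGroup (Fin 3) (ZMod 2) ≃*
    Matrix.ProjectiveSpecialLinearGroup (Fin 2) (ZMod 7)) := by
  haveI : Fact (Nat.Prime 7) := ⟨by norm_num⟩
  have e1 : Matrix.ProjectiveSpecialLinearGroup (Fin 3) (ZMod 2) ≃*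
      Matrix.SpecialLinearGroup (Fin 3) (ZMod 2) :=
    (QuotientGroup.quotientMulEquivOfEq sl32_center).trans QuotientGroup.quotientBot
  haveI : IsSimpleGroup (Matrix.ProjectiveSpecialLinearGroup (Fin 3) (ZMod 2)) :=
    Cfsg.Agent.S0249.result (F := ZMod 2) 3 le_rfl
  haveI : Finite (Matrix.ProjectiveSpecialLinearGroup (Fin 3) (ZMod 2)) :=
    Finite.of_equiv _ e1.symm.toEquiv
  have hcard : Nat.card (Matrix.ProjectiveSpecialLinearGroup (Fin 3) (ZMod 2)) = 168 := by
    rw [Nat.card_congr e1.toEquiv, Cfsg.Agent.S0445.card_SL3]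
  obtain ⟨e2⟩ := Cfsg.Agent.S0495.result hcard (F := ZMod 7) (ZMod.card 7)
  exact ⟨e1.symm.trans e2⟩

section Ctx

variable {G : Type*} [Group G] [Finite G] {t : G} {f : DihedralGroup 4 →* G} {P : Sylow 2 G}

/-- `t` fused to exactly one class of reflections -/
theorem D8Ctx.case1 (c : D8Ctx t f P) (h0 : IsConj t (f (sr 0)))
    (h1 : ¬ IsConj t (f (sr 1))) (m : ℕ) (hm : Odd m) (hG : Nat.card G = 8 * m) :
    Nonempty (G ≃* Equiv.Perm (Fin 4)) ∨ Nonempty (G ≃* Equiv.Perm (Fin 5)) := by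
  obtain ⟨K, hKn, hKi, hs1⟩ := c.transfer h1
  rcases c.K_order K hKn hKi hs1 h0 m hm hG with h | ⟨h, hperf⟩
  · left
    have hcard : Nat.card G = 24 := by
      have := K.card_mul_index
      rw [hKi, h] at this
      omega
    exact c.iso_S4 h0 hcard
  · right
    exact c.iso_S5 K hKn hKi hs1 h0 h hperf

end Ctx

/-- groups with an involution whose centralizer is dihedral of order eight -/
theorem d8_main {G : Type*} [Group G] [Finite G] (z : G) (hz : orderOf z = 2)
    (e : Subgroup.centralizer ({z} : Set G) ≃* DihedralGroup 4) :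
    Subgroup.centralizer ({z} : Set G) ⊔ Cfsg.oddCore G = ⊤ ∨
      Nonempty (G ≃* Equiv.Perm (Fin 4)) ∨ Nonempty (G ≃* Equiv.Perm (Fin 5)) ∨
      Nonempty (G ≃* Matrix.SpecialLinearGroup (Fin 3) (ZMod 2)) ∨
      Nonempty (G ≃* ↥(alternatingGroup (Fin 6))) := by
  obtain ⟨f, P, c, m, hm, hG⟩ := D8Ctx.exists_ctx z hz e
  have h20 : IsConj (f (sr 2)) (f (sr 0)) := by
    refine (isConj_iff.mpr ⟨f (sr 1), ?_⟩ : IsConj (f (sr 0)) (f (sr 2))).symm
    rw [← map_inv, ← map_mul, ← map_mul, d8f_sr1_sr0]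
  by_cases h0 : IsConj z (f (sr 0))
  · by_cases h1 : IsConj z (f (sr 1))
    · have hfus : ∀ u : G, orderOf u = 2 → IsConj u z := by
        intro u hu
        obtain ⟨g, d, hgd, hd⟩ := c.invol_conj u hu
        have h1' : IsConj u (f d) := isConj_iff.mpr ⟨g, hgd⟩
        rcases hd with rfl | ⟨i, rfl⟩
        · rw [c.ft] at h1'; exact h1'
        · rcases c.refl_conj i with h | h
          · exact (h1'.trans h).trans h0.symm
          · exact (h1'.trans h).trans h1.symm
      rcases d8g_identify z hz e hfus with ⟨hs, hc⟩ | ⟨⟨e'⟩⟩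
      · right; right; right; right
        exact @Cfsg.Agent.S0497.result G _ _ hs hc
      · right; right; right; left
        obtain ⟨e''⟩ := sl32_iso_psl27
        exact ⟨e'.trans e''.symm⟩
    · rcases c.case1 h0 h1 m hm hG with h | h
      · exact Or.inr (Or.inl h)
      · exact Or.inr (Or.inr (Or.inl h))
  · by_cases h1 : IsConj z (f (sr 1))
    · have c' := c.swap
      have h0' : IsConj z ((f.comp d8swap) (sr 0)) := h1
      have h1' : ¬ IsConj z ((f.comp d8swap) (sr 1)) := by
        intro h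
        exact h0 (h.trans h20)
      rcases c'.case1 h0' h1' m hm hG with h | h
      · exact Or.inr (Or.inl h)
      · exact Or.inr (Or.inr (Or.inl h))
    · left; exact c.case0 h0 h1

end Cfsg.Agent.Lib.Helper73
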