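import Mathlib
import Cfsg.Agent.S0016
import Cfsg.Agent.Lib.Helper73.QuatReduce
import Cfsg.Agent.Lib.Helper48.Generation

/-!
# Automorphisms of odd prime order on `2`-groups with a single involution
-/

set_option autoImplicit false

namespace Cfsg.Agent.Lib.Helper73

open Cfsg.Agent.Lib.Helper48 (fixSubgroup mem_fixSubgroup nilpotent_generation)

/-- restriction of an automorphism to an invariant subgroup -/
def resAut {W : Type*} [Group W] (σ : MulAut W) (H : Subgroup W) (h : ∀ x, x ∈ H ↔ σ x ∈ H) :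
    MulAut H where
  toFun x := ⟨σ x, (h x).mp x.2⟩
  invFun x := ⟨σ.symm x, (h _).mpr (by rw [MulEquiv.apply_symm_apply]; exact x.2)⟩
  left_inv x := by ext; simp
  right_inv x := by ext; simp
  map_mul' x y := by ext; simp

theorem resAut_apply {W : Type*} [Group W] (σ : MulAut W) (H : Subgroup W)
    (h : ∀ x, x ∈ H ↔ σ x ∈ H) (x : H) : ((resAut σ H h x : H) : W) = σ x := rfl

theorem resAut_pow {W : Type*} [Group W] (σ : MulAut W) (H : Subgroup W)
    (h : ∀ x, x ∈ H ↔ σ x ∈ H) (n : ℕ) (x : H) :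
    ((((resAut σ H h) ^ n) x : H) : W) = (σ ^ n) x := by
  induction n generalizing x with
  | zero => simp
  | succ n ih =>
    rw [pow_succ, pow_succ, MulAut.mul_apply, MulAut.mul_apply, ih]; rfl

/-- a single involution gives a single subgroup of order two -/
theorem uniq_sub_two {Q : Type*} [Group Q] [Finite Q]
    (h : ∀ x y : Q, orderOf x = 2 → orderOf y = 2 → x = y) :
    ∀ H K : Subgroup Q, Nat.card H = 2 → Nat.card K = 2 → H = K := by
  have : Fact (Nat.Prime 2) := ⟨Nat.prime_two⟩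
  have key : ∀ H : Subgroup Q, Nat.card H = 2 →
      ∃ x : Q, orderOf x = 2 ∧ H = Subgroup.zpowers x := by
    intro H hH
    obtain ⟨x, hx⟩ := exists_prime_orderOf_dvd_card' (G := H) 2 (by rw [hH])
    have hx' : orderOf (x : Q) = 2 := by rw [Subgroup.orderOf_coe]; exact hx
    refine ⟨x, hx', ?_⟩
    symm
    apply Subgroup.eq_of_le_of_card_ge
    · rw [Subgroup.zpowers_le]; exact x.2
    · rw [hH, Nat.card_zpowers, hx']
  intro H K hH hK
  obtain ⟨x, hx, rfl⟩ := key H hH
  obtain ⟨y, hy, rfl⟩ := key K hK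
  rw [h x y hx hy]

/-- a `2`-group with a single involution has a `2`-group of automorphisms, or is quaternion of
order eight -/
theorem aut_two_or_q8 {Q : Type*} [Group Q] [Finite Q] (hQ : IsPGroup 2 Q)
    (h : ∀ x y : Q, orderOf x = 2 → orderOf y = 2 → x = y) :
    IsPGroup 2 (MulAut Q) ∨ Nonempty (Q ≃* QuaternionGroup 2) := by
  have : Fact (Nat.Prime 2) := ⟨Nat.prime_two⟩
  have hcyc : IsCyclic Q → IsPGroup 2 (MulAut Q) := by
    intro hc
    obtain ⟨m, hm⟩ := IsPGroup.iff_card.mp hQ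
    have h1 := IsCyclic.card_mulAut Q
    rw [hm] at h1
    cases m with
    | zero =>
      rw [pow_zero, Nat.totient_one] at h1
      exact IsPGroup.of_card (n := 0) (by rw [h1, pow_zero])
    | succ m =>
      rw [Nat.totient_prime_pow_succ Nat.prime_two] at h1
      exact IsPGroup.of_card (n := m) (by rw [h1]; simp)
  rcases Cfsg.Agent.S0016.result 2 hQ (uniq_sub_two h) with hc | ⟨-, n, ⟨e⟩⟩
  · exact Or.inl (hcyc hc)
  · rcases Nat.lt_or_ge n 2 with hn | hn
    · interval_cases n
      · left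
        apply hcyc
        rw [pow_zero] at e
        haveI := QuaternionGroup.quaternionGroup_one_isCyclic
        exact isCyclic_of_surjective e.symm e.symm.surjective
      · right
        rw [pow_one] at e
        exact ⟨e⟩
    · left
      exact (quat_mulAut_isPGroup n hn).of_equiv (MulAut.congr e).symm

theorem q8_card8 : Nat.card (QuaternionGroup 2) = 8 := by
  rw [Nat.card_eq_fintype_card, QuaternionGroup.card]

/-- the action of an automorphism of odd prime order on an invariant subgroup with a single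
involution -/
theorem fix_dichotomy {W : Type*} [Group W] [Finite W] (hW : IsPGroup 2 W) {p : ℕ}
    [Fact p.Prime] (hp : p ≠ 2) (F : Subgroup W)
    (hF : ∀ x ∈ F, ∀ y ∈ F, orderOf x = 2 → orderOf y = 2 → x = y)
    (σ : MulAut W) (hσ : σ ^ p = 1) (hinv : ∀ x, x ∈ F ↔ σ x ∈ F) :
    (∀ x ∈ F, σ x = x) ∨
    (p = 3 ∧ Nat.card F = 8 ∧ (∀ x ∈ F, σ x = x → x ^ 2 = 1) ∧
      ∃ ι : QuaternionGroup 2 →* W, Function.Injective ι ∧ ∀ f, f ∈ F ↔ ∃ q, ι q = f) := by
  classical
  have h2 : Fact (Nat.Prime 2) := ⟨Nat.prime_two⟩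
  have hpp : p.Prime := Fact.out
  set τ := resAut σ F hinv with hτdef
  have hτ : τ ^ p = 1 := by
    ext x
    rw [resAut_pow, hσ]; rfl
  have hQ : IsPGroup 2 ↥F := hW.to_subgroup F
  have hu : ∀ x y : ↥F, orderOf x = 2 → orderOf y = 2 → x = y := by
    intro x y hx hy
    apply Subtype.ext
    exact hF x x.2 y y.2 (by rw [Subgroup.orderOf_coe]; exact hx)
      (by rw [Subgroup.orderOf_coe]; exact hy)
  have htriv : τ = 1 → ∀ x ∈ F, σ x = x := by
    intro h1 x hx
    have : ((τ ⟨x, hx⟩ : F) : W) = x := by rw [h1]; rfl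
    exact this
  rcases aut_two_or_q8 hQ hu with hA | ⟨⟨e⟩⟩
  · left
    apply htriv
    obtain ⟨k, hk⟩ := hA τ
    have h1 : orderOf τ ∣ p := orderOf_dvd_of_pow_eq_one hτ
    have h3 : orderOf τ ∣ 2 ^ k := orderOf_dvd_of_pow_eq_one hk
    have hc : Nat.Coprime p (2 ^ k) :=
      Nat.Coprime.pow_right k ((Nat.coprime_primes hpp Nat.prime_two).mpr hp)
    have h4 : orderOf τ ∣ 1 := by
      have := Nat.dvd_gcd h1 h3
      rwa [hc.gcd_eq_one] at this
    exact orderOf_eq_one_iff.mp (Nat.dvd_one.mp h4)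
  · by_cases hτ1 : τ = 1
    · exact Or.inl (htriv hτ1)
    right
    have hcard : Nat.card F = 8 := by rw [Nat.card_congr e.toEquiv, q8_card8]
    have := Fintype.ofFinite ↥F
    -- the fixed points of `τ`
    have hdvd : Nat.card (fixSubgroup τ) ∣ 8 := by
      rw [← hcard]; exact Subgroup.card_subgroup_dvd_card _
    have hne8 : Nat.card (fixSubgroup τ) ≠ 8 := by
      intro h8
      apply hτ1
      have htop : fixSubgroup τ = ⊤ := Subgroup.eq_top_of_card_eq _ (by rw [h8, hcard])
      ext x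
      have hx : x ∈ fixSubgroup τ := by rw [htop]; trivial
      exact congrArg Subtype.val hx
    have hne1 : Nat.card (fixSubgroup τ) ≠ 1 := by
      intro h1
      obtain ⟨x, hx⟩ := exists_prime_orderOf_dvd_card' (G := F) 2 (by rw [hcard]; norm_num)
      have hx2 : orderOf (τ x) = 2 := by rw [MulEquiv.orderOf_eq]; exact hx
      have hfix : x ∈ fixSubgroup τ := hu _ _ hx2 hx
      have hbot : fixSubgroup τ = ⊥ := Subgroup.eq_bot_of_card_eq _ h1
      rw [hbot, Subgroup.mem_bot] at hfix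
      rw [hfix, orderOf_one] at hx; omega
    have hmod : Nat.card (fixSubgroup τ) ≡ 8 [MOD p] := by
      have h1 := Equiv.Perm.card_compl_support_modEq (p := p) (n := 1)
        (σ := MulAut.toPerm ↥F τ) (by rw [pow_one, ← map_pow, hτ, map_one])
      rw [← Nat.card_eq_fintype_card, hcard] at h1
      have h2 : (MulAut.toPerm ↥F τ).supportᶜ.card = Nat.card (fixSubgroup τ) := by
        rw [Nat.card_eq_fintype_card, Fintype.card_subtype]
        congr 1
        ext x
        simp only [Finset.mem_compl, Equiv.Perm.mem_support, not_not, Finset.mem_filter,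
          Finset.mem_univ, true_and, mem_fixSubgroup]
        exact Iff.rfl
      rwa [h2] at h1
    have hc : Nat.card (fixSubgroup τ) = 2 ∨ Nat.card (fixSubgroup τ) = 4 := by
      have key : ∀ c : ℕ, c ∣ 8 → c ≠ 8 → c ≠ 1 → c = 2 ∨ c = 4 := by
        intro c h1 h2 h3
        have hle : c ≤ 8 := Nat.le_of_dvd (by norm_num) h1
        interval_cases c <;> omega
      exact key _ hdvd hne8 hne1
    have hp3 : p = 3 ∧ Nat.card (fixSubgroup τ) = 2 := by
      rcases hc with hc | hc
      · rw [hc] at hmod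
        have h6 : p ∣ 6 := (Nat.modEq_iff_dvd' (by norm_num)).mp hmod
        have h6' : p ∣ 2 * 3 := h6
        rcases (Nat.Prime.dvd_mul hpp).mp h6' with h | h
        · exact absurd ((Nat.prime_dvd_prime_iff_eq hpp Nat.prime_two).mp h) hp
        · exact ⟨(Nat.prime_dvd_prime_iff_eq hpp Nat.prime_three).mp h, hc⟩
      · rw [hc] at hmod
        have h4 : p ∣ 4 := (Nat.modEq_iff_dvd' (by norm_num)).mp hmod
        have h4' : p ∣ 2 ^ 2 := h4
        have := hpp.dvd_of_dvd_pow h4'
        exact absurd ((Nat.prime_dvd_prime_iff_eq hpp Nat.prime_two).mp this) hp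
    refine ⟨hp3.1, hcard, ?_, ?_⟩
    · intro x hx hsx
      have hmem : (⟨x, hx⟩ : F) ∈ fixSubgroup τ := Subtype.ext hsx
      have h1 := pow_card_eq_one' (G := fixSubgroup τ) (x := ⟨⟨x, hx⟩, hmem⟩)
      rw [hp3.2] at h1
      have h2 := congrArg (fun y : fixSubgroup τ => ((y : F) : W)) h1
      simpa using h2
    · refine ⟨F.subtype.comp e.symm.toMonoidHom, ?_, ?_⟩
      · intro q q' hqq
        have h1 : e.symm q = e.symm q' := Subtype.ext hqq
        exact e.symm.injective h1
      · intro f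
        constructor
        · intro hf
          refine ⟨e ⟨f, hf⟩, ?_⟩
          simp
        · rintro ⟨q, rfl⟩
          exact (e.symm q).2

/-- generation of an invariant subgroup by its intersections with the four fixed point
subgroups -/
theorem gen_invariant {W : Type*} [Group W] [Finite W] (hW : IsPGroup 2 W) (a b : MulAut W)
    (hc : Commute a b) (ha : a ^ 3 = 1) (hb : b ^ 3 = 1) (C : Subgroup W)
    (hCa : ∀ x ∈ C, a x ∈ C) (hCb : ∀ x ∈ C, b x ∈ C) :
    C ≤ (C ⊓ fixSubgroup b) ⊔ (C ⊓ fixSubgroup a) ⊔ (C ⊓ fixSubgroup (a * b))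
      ⊔ (C ⊓ fixSubgroup (a * b ^ 2)) := by
  have h2 : Fact (Nat.Prime 2) := ⟨Nat.prime_two⟩
  have h3 : Fact (Nat.Prime 3) := ⟨Nat.prime_three⟩
  have hiff : ∀ s : MulAut W, s ^ 3 = 1 → (∀ x ∈ C, s x ∈ C) → ∀ x, x ∈ C ↔ s x ∈ C := by
    intro s hs hC x
    refine ⟨hC x, fun h => ?_⟩
    have h1 := hC _ (hC _ h)
    have h2 : s (s (s x)) = (s ^ 3) x := rfl
    rw [h2, hs] at h1
    exact h1
  set a' := resAut a C (hiff a ha hCa) with ha'
  set b' := resAut b C (hiff b hb hCb) with hb'
  have hc' : Commute a' b' := by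
    ext x
    show a (b x) = b (a x)
    have := congrArg (fun s : MulAut W => s (x : W)) hc.eq
    exact this
  have ha3 : a' ^ 3 = 1 := by
    ext x
    rw [resAut_pow, ha]; rfl
  have hb3 : b' ^ 3 = 1 := by
    ext x
    rw [resAut_pow, hb]; rfl
  have hCp : IsPGroup 2 ↥C := hW.to_subgroup C
  haveI : Group.IsNilpotent ↥C := hCp.isNilpotent
  have hnd : ¬ 3 ∣ Nat.card ↥C := by
    obtain ⟨m, hm⟩ := IsPGroup.iff_card.mp hCp
    rw [hm]
    intro h
    have := Nat.Prime.dvd_of_dvd_pow Nat.prime_three h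
    omega
  have hgen := nilpotent_generation (p := 3) hnd a' b' hc' ha3 hb3
  intro c hcC
  have hmem : (⟨c, hcC⟩ : C) ∈ (⊤ : Subgroup C) := trivial
  rw [← hgen] at hmem
  have hmap := Subgroup.mem_map_of_mem C.subtype hmem
  rw [Subgroup.map_sup, Subgroup.map_iSup] at hmap
  have hle : Subgroup.map C.subtype (fixSubgroup b') ⊔
      ⨆ i, Subgroup.map C.subtype (fixSubgroup (a' * b' ^ i)) ≤
      (C ⊓ fixSubgroup b) ⊔ (C ⊓ fixSubgroup a) ⊔ (C ⊓ fixSubgroup (a * b))
      ⊔ (C ⊓ fixSubgroup (a * b ^ 2)) := by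
    refine sup_le ?_ (iSup_le ?_)
    · rintro _ ⟨x, hx, rfl⟩
      exact Subgroup.mem_sup_left (Subgroup.mem_sup_left (Subgroup.mem_sup_left
        ⟨x.2, congrArg Subtype.val hx⟩))
    · intro i
      rintro _ ⟨x, hx, rfl⟩
      have hx1 : a ((b ^ i) (x : W)) = x := by
        have h1 := congrArg Subtype.val hx
        rw [MulAut.mul_apply, resAut_apply, resAut_pow] at h1
        exact h1
      rw [pow_eq_pow_mod i hb] at hx1
      have hlt : i % 3 < 3 := Nat.mod_lt _ (by norm_num)
      generalize i % 3 = r at hx1 hlt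
      interval_cases r
      · exact Subgroup.mem_sup_left (Subgroup.mem_sup_left (Subgroup.mem_sup_right
          ⟨x.2, (show a (x : W) = x by simpa using hx1)⟩))
      · exact Subgroup.mem_sup_left (Subgroup.mem_sup_right
          ⟨x.2, (show (a * b) (x : W) = x by simpa using hx1)⟩)
      · exact Subgroup.mem_sup_right ⟨x.2, hx1⟩
  exact hle hmap

end Cfsg.Agent.Lib.Helper73
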