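import Mathlib
import Cfsg.Agent.Lib.Helper73.FlvNil
import Cfsg.Agent.Lib.Helper91.Coprime2
import Cfsg.Agent.Lib.Helper97.FrobFormula
import Cfsg.Agent.Lib.Helper1.SZInternal

set_option autoImplicit false

/-!
Generation of fixed points (ambient form): the case of a trivial centre. A minimal normal
invariant subgroup `V` has an invariant complement `[h, P]`, the complements are conjugate,
and a count against the fixed point formula of a Frobenius group gives a contradiction.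
-/

namespace Cfsg.Agent.Lib.Helper73.Flv

open scoped commutatorElement
open Cfsg.Agent.Lib.Helper1

universe u

variable {G : Type u} [Group G]

theorem nconj {H N : Subgroup G} (h : H ≤ Subgroup.normalizer (N : Set G)) {g x : G}
    (hg : g ∈ H) (hx : x ∈ N) : g * x * g⁻¹ ∈ N :=
  (Subgroup.mem_normalizer_iff.mp (h hg) x).mp hx

theorem nconj' {H N : Subgroup G} (h : H ≤ Subgroup.normalizer (N : Set G)) {g x : G}
    (hg : g ∈ H) (hx : x ∈ N) : g⁻¹ * x * g ∈ N := by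
  have := nconj h (H.inv_mem hg) hx
  rwa [inv_inv] at this

theorem centralizer_le_normalizer_self (P : Subgroup G) :
    Subgroup.centralizer (P : Set G) ≤ Subgroup.normalizer (P : Set G) :=
  le_normalizer_of_le_centralizer (Subgroup.le_centralizer_iff.mp le_rfl)

theorem nilpotent_of_abelian {V : Subgroup G} (hab : ∀ a ∈ V, ∀ b ∈ V, a * b = b * a) :
    Group.IsNilpotent V := by
  letI : CommGroup V :=
    { (inferInstance : Group V) with mul_comm := fun a b => Subtype.ext (hab a a.2 b b.2) }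
  exact CommGroup.isNilpotent

/-- An abelian subgroup that is minimal among the nontrivial subgroups normalized by `H₁` and
`H₂` has prime exponent. -/
theorem exp_of_minimal [Finite G] {V H₁ H₂ : Subgroup G}
    (hab : ∀ a ∈ V, ∀ b ∈ V, a * b = b * a)
    (h1 : H₁ ≤ Subgroup.normalizer (V : Set G)) (h2 : H₂ ≤ Subgroup.normalizer (V : Set G))
    (hmin : ∀ W : Subgroup G, W ≤ V → W ≠ ⊥ → H₁ ≤ Subgroup.normalizer (W : Set G) →
      H₂ ≤ Subgroup.normalizer (W : Set G) → W = V)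
    {r : ℕ} (hr : r.Prime) (hdvd : r ∣ Nat.card V) : ∀ x ∈ V, x ^ r = 1 := by
  let W : Subgroup G :=
    { carrier := {x | x ∈ V ∧ x ^ r = 1}
      one_mem' := ⟨V.one_mem, one_pow r⟩
      mul_mem' := fun {a b} ha hb => ⟨V.mul_mem ha.1 hb.1, by
        have hc : Commute a b := hab a ha.1 b hb.1
        rw [hc.mul_pow, ha.2, hb.2, one_mul]⟩
      inv_mem' := fun {a} ha => ⟨V.inv_mem ha.1, by rw [inv_pow, ha.2, inv_one]⟩ }
  have hWV : W ≤ V := fun x hx => hx.1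
  have hWne : W ≠ ⊥ := by
    haveI : Fact r.Prime := ⟨hr⟩
    obtain ⟨x, hx⟩ := exists_prime_orderOf_dvd_card' (G := V) r hdvd
    intro hbot
    have hxW : (x : G) ∈ W := ⟨x.2, by
      have h3 : x ^ r = 1 := by rw [← hx]; exact pow_orderOf_eq_one x
      have h4 := congrArg Subtype.val h3
      simpa using h4⟩
    rw [hbot, Subgroup.mem_bot] at hxW
    have h5 : x = 1 := Subtype.ext hxW
    rw [h5, orderOf_one] at hx
    exact hr.one_lt.ne hx
  have hnorm : ∀ H : Subgroup G, H ≤ Subgroup.normalizer (V : Set G) →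
      H ≤ Subgroup.normalizer (W : Set G) := by
    intro H hH
    rw [Subgroup.le_normalizer_iff]
    intro g hg x hx
    exact ⟨nconj hH hg hx.1, by rw [conj_pow, hx.2]; simp⟩
  have hWe := hmin W hWV hWne (hnorm H₁ h1) (hnorm H₂ h2)
  intro x hx
  have h6 : x ∈ W := by rw [hWe]; exact hx
  exact h6.2

/-- The subgroup `(K ∩ V) [V, P]`. -/
def SS (P K V : Subgroup G) : Subgroup G := (K ⊓ V) ⊔ ⁅V, P⁆

/-- The elements `g` of `L` with `[V, g] ⊆ S`. -/
def TS (L V S : Subgroup G) (hLV : L ≤ Subgroup.normalizer (V : Set G)) : Subgroup G where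
  carrier := {g | g ∈ L ∧ ∀ v ∈ V, v⁻¹ * g⁻¹ * v * g ∈ S}
  one_mem' := ⟨L.one_mem, fun v _ => by simp [S.one_mem]⟩
  mul_mem' := by
    rintro g g' ⟨hg, hgS⟩ ⟨hg', hgS'⟩
    refine ⟨L.mul_mem hg hg', fun v hv => ?_⟩
    have hw : g⁻¹ * v * g ∈ V := nconj' hLV hg hv
    have e : v⁻¹ * (g * g')⁻¹ * v * (g * g')
        = (v⁻¹ * g⁻¹ * v * g) * ((g⁻¹ * v * g)⁻¹ * g'⁻¹ * (g⁻¹ * v * g) * g') := by group
    rw [e]; exact S.mul_mem (hgS v hv) (hgS' _ hw)
  inv_mem' := by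
    rintro g ⟨hg, hgS⟩
    refine ⟨L.inv_mem hg, fun v hv => ?_⟩
    have hw : g * v * g⁻¹ ∈ V := nconj hLV hg hv
    have e : v⁻¹ * g⁻¹⁻¹ * v * g⁻¹ = ((g * v * g⁻¹)⁻¹ * g⁻¹ * (g * v * g⁻¹) * g)⁻¹ := by group
    rw [e]; exact S.inv_mem (hgS _ hw)

/-- The context of the case of a trivial centre: `V` is a minimal normal `P`-invariant
subgroup of `L`. -/
structure Bet (p : ℕ) (P L K V : Subgroup G) : Prop where
  C : Cex p P L K
  hZ : zc L = ⊥
  hVL : V ≤ L
  hV : V ≠ ⊥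
  hLV : L ≤ Subgroup.normalizer (V : Set G)
  hPV : P ≤ Subgroup.normalizer (V : Set G)
  hmin : ∀ W : Subgroup G, W ≤ V → W ≠ ⊥ → L ≤ Subgroup.normalizer (W : Set G) →
    P ≤ Subgroup.normalizer (W : Set G) → W = V

namespace Bet

variable {p : ℕ} {P L K V : Subgroup G}

theorem hsolvV (B : Bet p P L K V) : Group.IsSolvable V := isSolvable_of_le B.hVL B.C.hsolv

theorem hab [Finite G] (B : Bet p P L K V) : ∀ a ∈ V, ∀ b ∈ V, a * b = b * a := by
  apply abelian_of_commutator_eq_bot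
  by_contra hne
  have h1 : ⁅V, V⁆ ≤ V := commutator_le_of_le_normalizer Subgroup.le_normalizer
  have h2 := B.hmin ⁅V, V⁆ h1 hne (le_normalizer_commutator B.hLV B.hLV)
    (le_normalizer_commutator B.hPV B.hPV)
  exact commutator_ne_self_of_solvable B.hsolvV B.hV h2

theorem V_le_normalizer [Finite G] (B : Bet p P L K V) {N : Subgroup G} (hN : N ≤ V) :
    V ≤ Subgroup.normalizer (N : Set G) := by
  apply le_normalizer_of_le_centralizer
  intro x hx
  rw [Subgroup.mem_centralizer_iff]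
  intro y hy
  exact B.hab y hy x (hN hx)

theorem not_central (B : Bet p P L K V) : ¬ V ≤ Subgroup.centralizer (L : Set G) := by
  intro h
  have h1 : V ≤ zc L := fun x hx => Subgroup.mem_inf.mpr ⟨B.hVL hx, h hx⟩
  rw [B.hZ] at h1
  exact B.hV (le_bot_iff.mp h1)

theorem comm_eq (B : Bet p P L K V) : ⁅V, L⁆ = V := by
  have h1 : ⁅V, L⁆ ≤ V := commutator_le_of_le_normalizer B.hLV
  have hne : ⁅V, L⁆ ≠ ⊥ := fun h =>
    B.not_central (Subgroup.commutator_eq_bot_iff_le_centralizer.mp h)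
  exact B.hmin _ h1 hne (le_normalizer_commutator B.hLV Subgroup.le_normalizer)
    (le_normalizer_commutator B.hPV B.C.hPL)

theorem SS_le (B : Bet p P L K V) : SS P K V ≤ V :=
  sup_le inf_le_right (commutator_le_of_le_normalizer B.hPV)

theorem SS_mem [Finite G] (B : Bet p P L K V) {L' : Subgroup G} (hL' : L' ≤ L) (hne : L' ≠ L)
    (hPL' : P ≤ Subgroup.normalizer (L' : Set G)) (hVL' : V ≤ L') {u : G} (huV : u ∈ V)
    (hu : u ∈ ⁅L', P⁆) : u ∈ SS P K V := by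
  obtain ⟨n, hn, hc⟩ := coprime_exists_commutator_mul P V B.hPV (B.C.hcopP_le B.hVL)
    (Or.inl B.C.hsolvP) u huV
  have hn' : n ∈ ⁅L', P⁆ := Subgroup.commutator_mono hVL' le_rfl hn
  have h1 : u * n ∈ K := B.C.T2 L' hL' hPL' hne
    (Subgroup.mem_inf.mpr ⟨Subgroup.mul_mem _ hu hn', (Subgroup.mem_inf.mp hc).2⟩)
  have e : u = (u * n) * n⁻¹ := by group
  rw [e]
  exact Subgroup.mul_mem _
    (le_sup_left (α := Subgroup G) (Subgroup.mem_inf.mpr ⟨h1, (Subgroup.mem_inf.mp hc).1⟩))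
    (le_sup_right (α := Subgroup G) (Subgroup.inv_mem _ hn))

theorem SS_ne [Finite G] (B : Bet p P L K V) : SS P K V ≠ V := by
  intro hS
  have hab := B.hab
  haveI : IsMulCommutative V := isMulCommutative_of_forall hab
  have h0 := abelian_centralizer_inf_commutator P V B.hPV (B.C.hcopP_le B.hVL)
  refine B.C.F1 V B.hVL B.hV B.hLV B.hPV ?_
  intro c hc
  have hcV := (Subgroup.mem_inf.mp hc).1
  have hcC := (Subgroup.mem_inf.mp hc).2
  have hWV : ⁅V, P⁆ ≤ V := commutator_le_of_le_normalizer B.hPV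
  have hnorm : ⁅V, P⁆ ≤ Subgroup.normalizer ((K ⊓ V : Subgroup G) : Set G) := by
    apply le_normalizer_of_le_centralizer
    intro x hx
    rw [Subgroup.mem_centralizer_iff]
    intro w hw
    exact hab w (hWV hw) x (Subgroup.mem_inf.mp hx).2
  have h2 : c ∈ ((K ⊓ V ⊔ ⁅V, P⁆ : Subgroup G) : Set G) := by
    have h3 : c ∈ SS P K V := by rw [hS]; exact hcV
    exact h3
  rw [Subgroup.coe_mul_of_right_le_normalizer_left _ _ hnorm] at h2
  obtain ⟨k, hk, w, hw, hkw⟩ := Set.mem_mul.mp h2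
  have hkK : k ∈ K := (Subgroup.mem_inf.mp hk).1
  have hwC : w ∈ Subgroup.centralizer (P : Set G) := by
    have h4 : w = k⁻¹ * c := by rw [← hkw]; group
    rw [h4]; exact Subgroup.mul_mem _ (Subgroup.inv_mem _ (B.C.hKC hkK)) hcC
  have hw1 : w ∈ (V ⊓ Subgroup.centralizer (P : Set G)) ⊓ ⁅V, P⁆ :=
    Subgroup.mem_inf.mpr ⟨Subgroup.mem_inf.mpr ⟨hWV hw, hwC⟩, hw⟩
  rw [h0] at hw1
  rw [Subgroup.mem_bot.mp hw1, mul_one] at hkw
  rw [← hkw]; exact hkK

theorem not_le_TS [Finite G] (B : Bet p P L K V) : ¬ L ≤ TS L V (SS P K V) B.hLV := by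
  intro hle
  apply B.SS_ne
  apply le_antisymm B.SS_le
  have h : ⁅V, L⁆ ≤ SS P K V := by
    rw [Subgroup.commutator_le]
    intro v hv g hg
    have h1 := (hle (L.inv_mem hg)).2 v⁻¹ (V.inv_mem hv)
    have e : ⁅v, g⁆ = v⁻¹⁻¹ * g⁻¹⁻¹ * v⁻¹ * g⁻¹ := by simp [commutatorElement_def]
    rw [e]; exact h1
  exact B.comm_eq.symm.trans_le h

theorem comm_le_TS [Finite G] (B : Bet p P L K V) {X : Subgroup G} (hXL : X ≤ L)
    (hPX : P ≤ Subgroup.normalizer (X : Set G)) (hne : V ⊔ X ≠ L) :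
    ⁅X, P⁆ ≤ TS L V (SS P K V) B.hLV := by
  intro g hg
  have hL' : V ⊔ X ≤ L := sup_le B.hVL hXL
  have hPL' : P ≤ Subgroup.normalizer ((V ⊔ X : Subgroup G) : Set G) :=
    le_normalizer_sup B.hPV hPX
  have hg' : g ∈ ⁅V ⊔ X, P⁆ := Subgroup.commutator_mono le_sup_right le_rfl hg
  have hgX : g ∈ X := commutator_le_of_le_normalizer hPX hg
  refine ⟨hXL hgX, fun v hv => ?_⟩
  have hvL' : v ∈ V ⊔ X := (le_sup_left : V ≤ V ⊔ X) hv
  have h1 : v⁻¹ * g⁻¹ * v * g ∈ V := by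
    have e : v⁻¹ * g⁻¹ * v * g = v⁻¹ * (g⁻¹ * v * g) := by group
    rw [e]; exact V.mul_mem (V.inv_mem hv) (nconj' B.hLV (hXL hgX) hv)
  have h2 : v⁻¹ * g⁻¹ * v * g ∈ ⁅V ⊔ X, P⁆ := by
    have hn := le_normalizer_commutator_left (V ⊔ X) P
    refine Subgroup.mul_mem _ ?_ hg'
    have e : v⁻¹ * g⁻¹ * v = v⁻¹ * g⁻¹ * v⁻¹⁻¹ := by group
    rw [e]; exact nconj hn (Subgroup.inv_mem _ hvL') (Subgroup.inv_mem _ hg')
  exact B.SS_mem hL' hne hPL' le_sup_left h1 h2

theorem exists_compl [Finite G] (B : Bet p P L K V) : ∃ h ∈ L, V ⊔ cmh P h = L := by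
  by_contra hcon
  apply B.not_le_TS
  have h1 : ⁅L, P⁆ ≤ TS L V (SS P K V) B.hLV := by
    apply commutator_le_of_cmh
    intro h hh
    have hne : V ⊔ cmh P h ≠ L := fun e => hcon ⟨h, hh, e⟩
    have h2 := B.comm_le_TS (cmh_le_of_mem B.C.hPL hh) (cmh_normalized P h) hne
    rwa [B.C.perfect hh] at h2
  have h3 : L = ⁅L, P⁆ := B.C.hLL.symm
  exact h3.trans_le h1

end Bet

/-- The context of an invariant complement `[h, P]` of `V`. -/
structure Cmp (p : ℕ) (P L K V : Subgroup G) (h : G) : Prop where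
  B : Bet p P L K V
  hh : h ∈ L
  hsup : V ⊔ cmh P h = L

namespace Cmp

variable {p : ℕ} {P L K V : Subgroup G} {h : G}

theorem hL0L (M : Cmp p P L K V h) : cmh P h ≤ L := cmh_le_of_mem M.B.C.hPL M.hh

theorem hL0V (M : Cmp p P L K V h) : cmh P h ≤ Subgroup.normalizer (V : Set G) :=
  M.hL0L.trans M.B.hLV

theorem L_le_normalizer (M : Cmp p P L K V h) {N : Subgroup G}
    (hV : V ≤ Subgroup.normalizer (N : Set G))
    (h0 : cmh P h ≤ Subgroup.normalizer (N : Set G)) :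
    L ≤ Subgroup.normalizer (N : Set G) := by
  have h1 := sup_le hV h0
  rwa [M.hsup] at h1

theorem inf_bot [Finite G] (M : Cmp p P L K V h) : V ⊓ cmh P h = ⊥ := by
  by_contra hne
  have hLN : L ≤ Subgroup.normalizer ((V ⊓ cmh P h : Subgroup G) : Set G) :=
    M.L_le_normalizer (M.B.V_le_normalizer inf_le_left)
      (le_normalizer_inf M.hL0V Subgroup.le_normalizer)
  have hPN : P ≤ Subgroup.normalizer ((V ⊓ cmh P h : Subgroup G) : Set G) :=
    le_normalizer_inf M.B.hPV (cmh_normalized P h)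
  exact M.B.C.F4h _ hne hLN hPN M.hh inf_le_right

theorem cent_bot [Finite G] (M : Cmp p P L K V h) :
    cmh P h ⊓ Subgroup.centralizer (V : Set G) = ⊥ := by
  by_contra hne
  have hLN : L ≤ Subgroup.normalizer
      ((cmh P h ⊓ Subgroup.centralizer (V : Set G) : Subgroup G) : Set G) :=
    M.L_le_normalizer (le_normalizer_of_le_centralizer inf_le_right)
      (le_normalizer_inf Subgroup.le_normalizer (le_normalizer_centralizer M.hL0V))
  have hPN : P ≤ Subgroup.normalizer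
      ((cmh P h ⊓ Subgroup.centralizer (V : Set G) : Subgroup G) : Set G) :=
    le_normalizer_inf (cmh_normalized P h) (le_normalizer_centralizer M.B.hPV)
  exact M.B.C.F4h _ hne hLN hPN M.hh inf_le_left

theorem card_eq [Finite G] (M : Cmp p P L K V h) :
    Nat.card L = Nat.card V * Nat.card (cmh P h) := by
  have h1 := Cfsg.Agent.Lib.Helper91.card_sup_mul_card_inf_of_le_normalizer V (cmh P h) M.hL0V
  rw [M.inf_bot, M.hsup, Subgroup.card_bot, mul_one] at h1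
  exact h1

theorem Z0_le_TS [Finite G] (M : Cmp p P L K V h) :
    cmh P h ⊓ Subgroup.centralizer (P : Set G) ≤ TS L V (SS P K V) M.B.hLV := by
  intro c hc
  have hcL : c ∈ L := M.hL0L (Subgroup.mem_inf.mp hc).1
  have hcC := (Subgroup.mem_inf.mp hc).2
  have hcK : c ∈ K := M.B.C.hcmh h M.hh hc
  refine ⟨hcL, fun v hv => ?_⟩
  obtain ⟨n, hn, hw⟩ := coprime_exists_commutator_mul P V M.B.hPV (M.B.C.hcopP_le M.B.hVL)
    (Or.inl M.B.C.hsolvP) v hv
  obtain ⟨w, hwdef⟩ : ∃ w, w = v * n := ⟨_, rfl⟩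
  rw [← hwdef] at hw
  have hwV := (Subgroup.mem_inf.mp hw).1
  have hwC := (Subgroup.mem_inf.mp hw).2
  have hnV : n ∈ V := commutator_le_of_le_normalizer M.B.hPV hn
  have hv' : v = w * n⁻¹ := by rw [hwdef]; group
  have hccV : w⁻¹ * (c⁻¹ * w * c) ∈ V :=
    V.mul_mem (V.inv_mem hwV) (nconj' M.B.hLV hcL hwV)
  have e : v⁻¹ * c⁻¹ * v * c = (w⁻¹ * c⁻¹ * w * c) * (n * (c⁻¹ * n⁻¹ * c)) := by
    rw [hv']
    have h3 : n * (w⁻¹ * (c⁻¹ * w * c)) = (w⁻¹ * (c⁻¹ * w * c)) * n :=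
      M.B.hab n hnV _ hccV
    calc (w * n⁻¹)⁻¹ * c⁻¹ * (w * n⁻¹) * c
        = (n * (w⁻¹ * (c⁻¹ * w * c))) * (c⁻¹ * n⁻¹ * c) := by group
      _ = (w⁻¹ * (c⁻¹ * w * c)) * n * (c⁻¹ * n⁻¹ * c) := by rw [h3]
      _ = _ := by group
  rw [e]
  refine Subgroup.mul_mem _ (le_sup_left (α := Subgroup G) (Subgroup.mem_inf.mpr ⟨?_, ?_⟩))
    (le_sup_right (α := Subgroup G) ?_)
  · have h4 := M.B.C.T1 w (M.B.hVL hwV) hwC c hcK
    have e2 : w⁻¹ * c⁻¹ * w * c = (w⁻¹ * c * w)⁻¹ * c := by group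
    rw [e2]; exact K.mul_mem (K.inv_mem h4) hcK
  · have e2 : w⁻¹ * c⁻¹ * w * c = w⁻¹ * (c⁻¹ * w * c) := by group
    rw [e2]; exact hccV
  · have hH : L ⊓ Subgroup.centralizer (P : Set G)
        ≤ Subgroup.normalizer ((⁅V, P⁆ : Subgroup G) : Set G) :=
      le_normalizer_commutator (inf_le_left.trans M.B.hLV)
        (inf_le_right.trans (centralizer_le_normalizer_self P))
    exact Subgroup.mul_mem _ hn
      (nconj' hH (Subgroup.mem_inf.mpr ⟨hcL, hcC⟩) (Subgroup.inv_mem _ hn))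

theorem proper_le_TS [Finite G] (M : Cmp p P L K V h) {X : Subgroup G} (hX : X ≤ cmh P h)
    (hne : X ≠ cmh P h) (hPX : P ≤ Subgroup.normalizer (X : Set G)) :
    X ≤ TS L V (SS P K V) M.B.hLV := by
  have hXL : X ≤ L := hX.trans M.hL0L
  have hcopX := M.B.C.hcopP_le hXL
  have hdec := coprime_commutator_sup_centralizer P X hPX hcopX (Or.inl M.B.C.hsolvP)
  have hne' : V ⊔ X ≠ L := by
    intro e
    have h1 := Cfsg.Agent.Lib.Helper91.card_sup_mul_card_inf_of_le_normalizer V X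
      (hXL.trans M.B.hLV)
    rw [e, M.card_eq] at h1
    have h2 : Nat.card X < Nat.card (cmh P h) := card_lt_card_of_lt (lt_of_le_of_ne hX hne)
    have h3 : 0 < Nat.card (V ⊓ X : Subgroup G) := Nat.card_pos
    have h4 : 0 < Nat.card V := Nat.card_pos
    have h5 : Nat.card V * Nat.card X < Nat.card V * Nat.card (cmh P h) :=
      Nat.mul_lt_mul_of_pos_left h2 h4
    have h6 : Nat.card V * Nat.card (cmh P h)
        ≤ Nat.card V * Nat.card (cmh P h) * Nat.card (V ⊓ X : Subgroup G) :=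
      Nat.le_mul_of_pos_right _ h3
    rw [h1] at h6
    exact absurd h5 (not_lt.mpr h6)
  exact hdec.symm.trans_le
    (sup_le (M.B.comm_le_TS hXL hPX hne') ((inf_le_inf_right _ hX).trans M.Z0_le_TS))

theorem gl [Finite G] (M : Cmp p P L K V h) {X : Subgroup G} (hX : X ≤ cmh P h)
    (hXT : X ≤ TS L V (SS P K V) M.B.hLV)
    (hLX : cmh P h ≤ Subgroup.normalizer (X : Set G))
    (hPX : P ≤ Subgroup.normalizer (X : Set G)) : X = ⊥ := by
  have hXL := hX.trans M.hL0L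
  have hW : ⁅V, X⁆ ≤ SS P K V := by
    rw [Subgroup.commutator_le]
    intro v hv g hg
    have h1 := (hXT (X.inv_mem hg)).2 v⁻¹ (V.inv_mem hv)
    have e : ⁅v, g⁆ = v⁻¹⁻¹ * g⁻¹⁻¹ * v⁻¹ * g⁻¹ := by simp [commutatorElement_def]
    rw [e]; exact h1
  have hWV : ⁅V, X⁆ ≤ V := commutator_le_of_le_normalizer (hXL.trans M.B.hLV)
  have hWbot : ⁅V, X⁆ = ⊥ := by
    by_contra hne
    have hLN : L ≤ Subgroup.normalizer ((⁅V, X⁆ : Subgroup G) : Set G) :=
      M.L_le_normalizer (M.B.V_le_normalizer hWV) (le_normalizer_commutator M.hL0V hLX)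
    have hPN : P ≤ Subgroup.normalizer ((⁅V, X⁆ : Subgroup G) : Set G) :=
      le_normalizer_commutator M.B.hPV hPX
    have h2 := M.B.hmin _ hWV hne hLN hPN
    rw [h2] at hW
    exact M.B.SS_ne (le_antisymm M.B.SS_le hW)
  have h2 : X ≤ Subgroup.centralizer (V : Set G) :=
    Subgroup.le_centralizer_iff.mp (Subgroup.commutator_eq_bot_iff_le_centralizer.mp hWbot)
  have h3 : X ≤ cmh P h ⊓ Subgroup.centralizer (V : Set G) := le_inf hX h2
  rw [M.cent_bot] at h3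
  exact le_bot_iff.mp h3

theorem irr [Finite G] (M : Cmp p P L K V h) {X : Subgroup G} (hX : X ≤ cmh P h)
    (hLX : cmh P h ≤ Subgroup.normalizer (X : Set G))
    (hPX : P ≤ Subgroup.normalizer (X : Set G)) (hne : X ≠ cmh P h) : X = ⊥ :=
  M.gl hX (M.proper_le_TS hX hne hPX) hLX hPX

theorem L0_ne_bot [Finite G] (M : Cmp p P L K V h) : cmh P h ≠ ⊥ := by
  intro e
  have h1 : V = L := by
    have h2 := M.hsup
    rwa [e, sup_bot_eq] at h2
  apply M.B.C.not_abelian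
  intro x hx
  rw [Subgroup.mem_centralizer_iff]
  intro y hy
  have hxV : x ∈ V := by rw [h1]; exact hx
  have hyV : y ∈ V := by rw [h1]; exact hy
  exact M.B.hab y hyV x hxV

theorem L0_ab [Finite G] (M : Cmp p P L K V h) :
    ∀ a ∈ cmh P h, ∀ b ∈ cmh P h, a * b = b * a := by
  apply abelian_of_commutator_eq_bot
  have hsolv : Group.IsSolvable (cmh P h) := isSolvable_of_le M.hL0L M.B.C.hsolv
  exact M.irr (commutator_le_of_le_normalizer Subgroup.le_normalizer)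
    (le_normalizer_commutator Subgroup.le_normalizer Subgroup.le_normalizer)
    (le_normalizer_commutator (cmh_normalized P h) (cmh_normalized P h))
    (commutator_ne_self_of_solvable hsolv M.L0_ne_bot)

theorem Z0_bot [Finite G] (M : Cmp p P L K V h) :
    cmh P h ⊓ Subgroup.centralizer (P : Set G) = ⊥ := by
  apply M.irr inf_le_left
  · apply le_normalizer_of_le_centralizer
    intro x hx
    rw [Subgroup.mem_centralizer_iff]
    intro y hy
    exact M.L0_ab y hy x (Subgroup.mem_inf.mp hx).1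
  · exact le_normalizer_inf (cmh_normalized P h) (le_normalizer_centralizer Subgroup.le_normalizer)
  · intro e
    have h1 : cmh P h ≤ Subgroup.centralizer (P : Set G) := inf_eq_left.mp e
    have h2 : ⁅cmh P h, P⁆ = ⊥ := Subgroup.commutator_eq_bot_iff_le_centralizer.mpr h1
    rw [M.B.C.perfect M.hh] at h2
    exact M.L0_ne_bot h2

theorem V_cent_bot [Finite G] (M : Cmp p P L K V h) :
    V ⊓ Subgroup.centralizer (cmh P h : Set G) = ⊥ := by
  by_contra hne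
  have hLN : L ≤ Subgroup.normalizer
      ((V ⊓ Subgroup.centralizer (cmh P h : Set G) : Subgroup G) : Set G) :=
    M.L_le_normalizer (M.B.V_le_normalizer inf_le_left)
      (le_normalizer_inf M.hL0V (le_normalizer_centralizer Subgroup.le_normalizer))
  have hPN : P ≤ Subgroup.normalizer
      ((V ⊓ Subgroup.centralizer (cmh P h : Set G) : Subgroup G) : Set G) :=
    le_normalizer_inf M.B.hPV (le_normalizer_centralizer (cmh_normalized P h))
  have h1 := M.B.hmin _ inf_le_left hne hLN hPN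
  have h2 : V ≤ Subgroup.centralizer (cmh P h : Set G) := inf_eq_left.mp h1
  apply M.B.not_central
  have h3 : L ≤ Subgroup.centralizer (V : Set G) := by
    have h4 : V ⊔ cmh P h ≤ Subgroup.centralizer (V : Set G) :=
      sup_le (fun x hx => by
        rw [Subgroup.mem_centralizer_iff]
        intro y hy
        exact M.B.hab y hy x hx) (Subgroup.le_centralizer_iff.mp h2)
    rwa [M.hsup] at h4
  exact Subgroup.le_centralizer_iff.mp h3

theorem coprime [Finite G] (M : Cmp p P L K V h) :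
    (Nat.card (cmh P h)).Coprime (Nat.card V) := by
  by_contra hnc
  obtain ⟨r, hr, hr1, hr2⟩ := Nat.Prime.not_coprime_iff_dvd.mp hnc
  haveI : Fact r.Prime := ⟨hr⟩
  have hV := exp_of_minimal M.B.hab M.B.hLV M.B.hPV M.B.hmin hr hr2
  have hL0 := exp_of_minimal M.L0_ab Subgroup.le_normalizer (cmh_normalized P h)
    (fun W hW hWne h1 h2 => by
      by_contra hne
      exact hWne (M.irr hW h1 h2 hne)) hr hr1
  have hpV : IsPGroup r V := fun g =>
    ⟨1, by rw [pow_one]; exact Subtype.ext (by simpa using hV g g.2)⟩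
  have hpL0 : IsPGroup r (cmh P h) := fun g =>
    ⟨1, by rw [pow_one]; exact Subtype.ext (by simpa using hL0 g g.2)⟩
  obtain ⟨a, ha⟩ := IsPGroup.iff_card.mp hpV
  obtain ⟨b, hb⟩ := IsPGroup.iff_card.mp hpL0
  have hL : IsPGroup r L := IsPGroup.of_card (n := a + b) (by rw [M.card_eq, ha, hb, pow_add])
  exact M.B.C.false_of_pgroup hL

theorem card_V [Finite G] (M : Cmp p P L K V h) :
    Nat.card V = Nat.card (V ⊓ Subgroup.centralizer (P : Set G) : Subgroup G) ^ p := by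
  have hfpf : ∀ e ∈ P, e ≠ 1 → ∀ u ∈ cmh P h, e * u = u * e → u = 1 := by
    intro e he he1 u hu hcomm
    have huC : u ∈ Subgroup.centralizer (P : Set G) := by
      haveI : Fact p.Prime := ⟨M.B.C.hp⟩
      have htop : Subgroup.zpowers (⟨e, he⟩ : P) = ⊤ :=
        zpowers_eq_top_of_prime_card M.B.C.hP (by
          intro h1; exact he1 (congrArg Subtype.val h1))
      rw [Subgroup.mem_centralizer_iff]
      intro a ha
      have h2 : (⟨a, ha⟩ : P) ∈ Subgroup.zpowers (⟨e, he⟩ : P) := by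
        rw [htop]; exact Subgroup.mem_top _
      obtain ⟨k, hk⟩ := Subgroup.mem_zpowers_iff.mp h2
      have hak : a = e ^ k := by
        have h3 := congrArg Subtype.val hk
        simpa using h3.symm
      rw [hak]
      exact (Commute.zpow_left (show Commute e u from hcomm) k).eq
    have h4 : u ∈ cmh P h ⊓ Subgroup.centralizer (P : Set G) := Subgroup.mem_inf.mpr ⟨hu, huC⟩
    rw [M.Z0_bot] at h4
    exact Subgroup.mem_bot.mp h4
  have hnil : Group.IsNilpotent (cmh P h) := nilpotent_of_abelian M.L0_ab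
  have hGH : cmh P h ⊔ P ≤ Subgroup.normalizer (V : Set G) := sup_le M.hL0V M.B.hPV
  have hcop : (Nat.card V).Coprime (Nat.card (cmh P h ⊔ P : Subgroup G)) := by
    have h1 := Cfsg.Agent.Lib.Helper91.card_sup_mul_card_inf_of_le_normalizer (cmh P h) P
      (cmh_normalized P h)
    have h2 : Nat.card (cmh P h ⊔ P : Subgroup G) ∣ Nat.card (cmh P h) * Nat.card P :=
      Dvd.intro _ h1
    apply Nat.Coprime.coprime_dvd_right h2
    exact Nat.Coprime.mul_right M.coprime.symm (M.B.C.hcopP_le M.B.hVL).symm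
  have hf := Cfsg.Agent.Lib.Helper97.FrobFormula.frob_formula (cmh P h) P V
    (fun e he u hu => nconj (cmh_normalized P h) he hu) hfpf hnil hGH M.B.hsolvV hcop
  have h3 : V ⊓ Subgroup.centralizer ((cmh P h ⊔ P : Subgroup G) : Set G) = ⊥ := by
    apply le_bot_iff.mp
    rw [← M.V_cent_bot]
    exact inf_le_inf_left _ (Subgroup.centralizer_le (SetLike.coe_subset_coe.mpr le_sup_left))
  rw [h3, M.V_cent_bot, Subgroup.card_bot, one_pow, one_mul, mul_one, M.B.C.hP] at hf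
  exact hf

theorem sup_mul [Finite G] (M : Cmp p P L K V h) {v : G} (hv : v ∈ V) :
    Cmp p P L K V (h * v) := by
  have hhv : h * v ∈ L := L.mul_mem M.hh (M.B.hVL hv)
  refine ⟨M.B, hhv, ?_⟩
  apply le_antisymm (sup_le M.B.hVL (cmh_le_of_mem M.B.C.hPL hhv))
  have h1 : cmh P h ≤ V ⊔ cmh P (h * v) := by
    apply cmh_le
    intro a ha
    have e : h⁻¹ * a * h * a⁻¹
        = v * ((h * v)⁻¹ * a * (h * v) * a⁻¹) * (a * v⁻¹ * a⁻¹) := by group
    rw [e]
    exact Subgroup.mul_mem _ (Subgroup.mul_mem _ (le_sup_left (α := Subgroup G) hv)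
      (le_sup_right (α := Subgroup G) (cmh_gen_mem P (h * v) ha)))
      (le_sup_left (α := Subgroup G) (nconj M.B.hPV ha (V.inv_mem hv)))
  exact M.hsup.symm.trans_le (sup_le le_sup_left h1)

theorem decomp [Finite G] (M : Cmp p P L K V h) {v : G} (hv : v ∈ V) :
    ∃ f₁ ∈ V ⊓ Subgroup.centralizer (P : Set G), ∃ f₂ ∈ V ⊓ Subgroup.centralizer (P : Set G),
      v = h⁻¹ * f₁ * h * f₂ := by
  have M' := M.sup_mul hv
  have hcard : Nat.card (cmh P (h * v)) = Nat.card (cmh P h) := by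
    have hVpos : 0 < Nat.card V := Nat.card_pos
    exact Nat.eq_of_mul_eq_mul_left hVpos (M'.card_eq.symm.trans M.card_eq)
  have hB : cmh P (h * v) ≤ V ⊔ cmh P h := by rw [M.hsup]; exact M'.hL0L
  obtain ⟨n, hn, hconj⟩ := Cfsg.Agent.Lib.Helper91.coprime_conj_eq (cmh P h) V M.hL0V M.coprime
    (Or.inr M.B.hsolvV) (cmh P (h * v)) hB hcard
  have hmem : ∀ y ∈ cmh P (h * v), n * y * n⁻¹ ∈ cmh P h := by
    intro y hy
    rw [← hconj, mem_conj_smul]
    have e : n⁻¹ * (n * y * n⁻¹) * n = y := by group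
    rw [e]; exact hy
  have hmem' : ∀ x ∈ cmh P h, n⁻¹ * x * n ∈ cmh P (h * v) := by
    intro x hx
    rw [← hconj, mem_conj_smul] at hx
    exact hx
  have hnC : n ∈ Subgroup.centralizer (P : Set G) := by
    rw [Subgroup.mem_centralizer_iff]
    intro a ha
    have huV : n⁻¹ * (a * n * a⁻¹) ∈ V := V.mul_mem (V.inv_mem hn) (nconj M.B.hPV ha hn)
    have huC : n⁻¹ * (a * n * a⁻¹) ∈ Subgroup.centralizer (cmh P (h * v) : Set G) := by
      rw [Subgroup.mem_centralizer_iff]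
      intro y hy
      have h1 : a⁻¹ * y * a ∈ cmh P (h * v) := nconj' (cmh_normalized P (h * v)) ha hy
      have h2 := hmem _ h1
      have h3 : a * (n * (a⁻¹ * y * a) * n⁻¹) * a⁻¹ ∈ cmh P h := nconj (cmh_normalized P h) ha h2
      have h4 := hmem' _ h3
      have h5 : (n⁻¹ * (a * n * a⁻¹)) * y * (n⁻¹ * (a * n * a⁻¹))⁻¹ * y⁻¹ ∈ cmh P (h * v) := by
        have e : (n⁻¹ * (a * n * a⁻¹)) * y * (n⁻¹ * (a * n * a⁻¹))⁻¹ * y⁻¹
            = (n⁻¹ * (a * (n * (a⁻¹ * y * a) * n⁻¹) * a⁻¹) * n) * y⁻¹ := by group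
        rw [e]; exact Subgroup.mul_mem _ h4 (Subgroup.inv_mem _ hy)
      have h6 : (n⁻¹ * (a * n * a⁻¹)) * y * (n⁻¹ * (a * n * a⁻¹))⁻¹ * y⁻¹ ∈ V := by
        have e : (n⁻¹ * (a * n * a⁻¹)) * y * (n⁻¹ * (a * n * a⁻¹))⁻¹ * y⁻¹
            = (n⁻¹ * (a * n * a⁻¹)) * (y * (n⁻¹ * (a * n * a⁻¹))⁻¹ * y⁻¹) := by group
        rw [e]
        exact V.mul_mem huV (nconj M.B.hLV (M'.hL0L hy) (V.inv_mem huV))
      have h7 : (n⁻¹ * (a * n * a⁻¹)) * y * (n⁻¹ * (a * n * a⁻¹))⁻¹ * y⁻¹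
          ∈ V ⊓ cmh P (h * v) := Subgroup.mem_inf.mpr ⟨h6, h5⟩
      rw [M'.inf_bot, Subgroup.mem_bot] at h7
      have h8 : (n⁻¹ * (a * n * a⁻¹)) * y = y * (n⁻¹ * (a * n * a⁻¹)) := by
        have e : (n⁻¹ * (a * n * a⁻¹)) * y
            = ((n⁻¹ * (a * n * a⁻¹)) * y * (n⁻¹ * (a * n * a⁻¹))⁻¹ * y⁻¹)
              * (y * (n⁻¹ * (a * n * a⁻¹))) := by group
        rw [e, h7, one_mul]
      exact h8.symm
    have h9 : n⁻¹ * (a * n * a⁻¹) ∈ V ⊓ Subgroup.centralizer (cmh P (h * v) : Set G) :=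
      Subgroup.mem_inf.mpr ⟨huV, huC⟩
    rw [M'.V_cent_bot, Subgroup.mem_bot] at h9
    have h10 : a * n * a⁻¹ = n := by
      have e : a * n * a⁻¹ = n * (n⁻¹ * (a * n * a⁻¹)) := by group
      rw [e, h9, mul_one]
    calc a * n = (a * n * a⁻¹) * a := by group
      _ = n * a := by rw [h10]
  obtain ⟨u, hudef⟩ : ∃ u, u = (h⁻¹ * n * h) * v * n⁻¹ := ⟨_, rfl⟩
  have huV : u ∈ V := by
    rw [hudef]
    exact V.mul_mem (V.mul_mem (nconj' M.B.hLV M.hh hn) hv) (V.inv_mem hn)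
  have hfC : h * u * h⁻¹ ∈ Subgroup.centralizer (P : Set G) := by
    rw [Subgroup.mem_centralizer_iff]
    intro a ha
    have han : a * n = n * a := Subgroup.mem_centralizer_iff.mp hnC a ha
    have hg : h⁻¹ * a * h * a⁻¹ ∈ cmh P h := cmh_gen_mem P h ha
    have hx : n * ((h * v)⁻¹ * a * (h * v) * a⁻¹) * n⁻¹ ∈ cmh P h :=
      hmem _ (cmh_gen_mem P (h * v) ha)
    have hx2 : n * ((h * v)⁻¹ * a * (h * v) * a⁻¹) * n⁻¹
        = u⁻¹ * (h⁻¹ * a * h * a⁻¹) * (a * u * a⁻¹) := by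
      have e1 : a⁻¹ * n⁻¹ = n⁻¹ * a⁻¹ := by rw [← mul_inv_rev, ← mul_inv_rev, han]
      have e3 : n⁻¹ * a * n = a := by rw [mul_assoc, han, inv_mul_cancel_left]
      have lhs : n * ((h * v)⁻¹ * a * (h * v) * a⁻¹) * n⁻¹
          = n * v⁻¹ * h⁻¹ * a * h * v * (a⁻¹ * n⁻¹) := by group
      have rhs : u⁻¹ * (h⁻¹ * a * h * a⁻¹) * (a * u * a⁻¹)
          = n * v⁻¹ * h⁻¹ * (n⁻¹ * a * n) * h * v * (n⁻¹ * a⁻¹) := by rw [hudef]; group
      rw [lhs, rhs, e3, e1]
    rw [hx2] at hx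
    have h5 : (h⁻¹ * a * h * a⁻¹)⁻¹ * u⁻¹ * (h⁻¹ * a * h * a⁻¹) * (a * u * a⁻¹) ∈ cmh P h := by
      have e : (h⁻¹ * a * h * a⁻¹)⁻¹ * u⁻¹ * (h⁻¹ * a * h * a⁻¹) * (a * u * a⁻¹)
          = (h⁻¹ * a * h * a⁻¹)⁻¹ * (u⁻¹ * (h⁻¹ * a * h * a⁻¹) * (a * u * a⁻¹)) := by group
      rw [e]; exact Subgroup.mul_mem _ (Subgroup.inv_mem _ hg) hx
    have h6 : (h⁻¹ * a * h * a⁻¹)⁻¹ * u⁻¹ * (h⁻¹ * a * h * a⁻¹) * (a * u * a⁻¹) ∈ V :=
      V.mul_mem (nconj' M.B.hLV (M.hL0L hg) (V.inv_mem huV)) (nconj M.B.hPV ha huV)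
    have h7 : (h⁻¹ * a * h * a⁻¹)⁻¹ * u⁻¹ * (h⁻¹ * a * h * a⁻¹) * (a * u * a⁻¹)
        ∈ V ⊓ cmh P h := Subgroup.mem_inf.mpr ⟨h6, h5⟩
    rw [M.inf_bot, Subgroup.mem_bot] at h7
    have h8 : a * u * a⁻¹ = (h⁻¹ * a * h * a⁻¹)⁻¹ * u * (h⁻¹ * a * h * a⁻¹) := by
      have e9 : a * u * a⁻¹
          = ((h⁻¹ * a * h * a⁻¹)⁻¹ * u⁻¹ * (h⁻¹ * a * h * a⁻¹))⁻¹ :=
        eq_inv_of_mul_eq_one_right h7
      rw [e9]; group
    calc a * (h * u * h⁻¹)
        = h * ((h⁻¹ * a * h * a⁻¹) * (a * u * a⁻¹) * (h⁻¹ * a * h * a⁻¹)⁻¹) * h⁻¹ * a := by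
          group
      _ = h * u * h⁻¹ * a := by rw [h8]; group
  have hfV : h * u * h⁻¹ ∈ V := nconj M.B.hLV M.hh huV
  refine ⟨n⁻¹ * (h * u * h⁻¹), Subgroup.mem_inf.mpr ⟨V.mul_mem (V.inv_mem hn) hfV,
    Subgroup.mul_mem _ (Subgroup.inv_mem _ hnC) hfC⟩, n, Subgroup.mem_inf.mpr ⟨hn, hnC⟩, ?_⟩
  rw [hudef]; group

theorem card_le [Finite G] (M : Cmp p P L K V h) :
    Nat.card V ≤ Nat.card (V ⊓ Subgroup.centralizer (P : Set G) : Subgroup G)
      * Nat.card (V ⊓ Subgroup.centralizer (P : Set G) : Subgroup G) := by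
  let φ : (V ⊓ Subgroup.centralizer (P : Set G) : Subgroup G)
      × (V ⊓ Subgroup.centralizer (P : Set G) : Subgroup G) → V := fun x =>
    ⟨h⁻¹ * x.1 * h * x.2, V.mul_mem (nconj' M.B.hLV M.hh (Subgroup.mem_inf.mp x.1.2).1)
      (Subgroup.mem_inf.mp x.2.2).1⟩
  have hsurj : Function.Surjective φ := by
    intro v
    obtain ⟨f₁, hf₁, f₂, hf₂, e⟩ := M.decomp v.2
    exact ⟨(⟨f₁, hf₁⟩, ⟨f₂, hf₂⟩), Subtype.ext e.symm⟩
  have h1 := Nat.card_le_card_of_surjective φ hsurj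
  rwa [Nat.card_prod] at h1

theorem false [Finite G] (M : Cmp p P L K V h) : False := by
  have h1 := M.card_V
  have h2 := M.card_le
  rw [h1] at h2
  have hp3 : 3 ≤ p := by
    have h3 := M.B.C.hp.two_le
    have h4 := M.B.C.hp2
    omega
  obtain ⟨f, hf⟩ : ∃ f, f = Nat.card (V ⊓ Subgroup.centralizer (P : Set G) : Subgroup G) :=
    ⟨_, rfl⟩
  rw [← hf] at h1 h2
  have hfpos : 0 < f := by rw [hf]; exact Nat.card_pos
  have hf1 : f = 1 := by
    by_contra hne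
    have hf2 : 2 ≤ f := by omega
    have h3 : f ^ 3 ≤ f ^ p := Nat.pow_le_pow_right hfpos hp3
    have h4 : f ^ 3 = f * f * f := by ring
    have h5 : f * f * 2 ≤ f * f * f := Nat.mul_le_mul_left _ hf2
    have h6 : 0 < f * f := Nat.mul_pos hfpos hfpos
    rw [h4] at h3
    have h7 : f * f * 2 ≤ f * f := h5.trans (h3.trans h2)
    omega
  rw [hf1, one_pow] at h1
  exact M.B.hV (Subgroup.card_eq_one.mp h1)

end Cmp

/-- The minimal counterexample has a nontrivial centre. -/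
theorem Cex.false_of_center_bot [Finite G] {p : ℕ} {P L K : Subgroup G} (C : Cex p P L K)
    (hZ : zc L = ⊥) : False := by
  obtain ⟨V, ⟨hVL, hV, hLV, hPV⟩, hmin⟩ := exists_minimal_subgroup
    {N : Subgroup G | N ≤ L ∧ N ≠ ⊥ ∧ L ≤ Subgroup.normalizer (N : Set G) ∧
      P ≤ Subgroup.normalizer (N : Set G)} ⟨L, le_rfl, C.hL, Subgroup.le_normalizer, C.hPL⟩
  have B : Bet p P L K V := ⟨C, hZ, hVL, hV, hLV, hPV, fun W hW hWne h1 h2 =>
    hmin W ⟨hW.trans hVL, hWne, h1, h2⟩ hW⟩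
  obtain ⟨h, hh, hsup⟩ := B.exists_compl
  exact (⟨B, hh, hsup⟩ : Cmp p P L K V h).false

end Cfsg.Agent.Lib.Helper73.Flv
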