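import Mathlib
import Cfsg.Agent.Lib.Helper73.FlvTr
import Cfsg.Agent.Lib.Helper73.FlvBeta
import Cfsg.Agent.S0022

set_option autoImplicit false

/-!
Generation of fixed points (ambient form): for a subgroup `P` of odd prime order `p`
normalizing a solvable subgroup `L` of order prime to `p`, the fixed points of `P` on `[L, P]`
are generated by the fixed points of `P` on the subgroups `[h, P]`, `h ∈ L`.
-/

namespace Cfsg.Agent.Lib.Helper73.Flv

open scoped commutatorElement
open Cfsg.Agent.Lib.Helper1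

universe u

variable {G : Type u} [Group G]

/-- The minimal counterexample does not exist. -/
theorem Cex.false [Finite G] {p : ℕ} {P L K : Subgroup G} (C : Cex p P L K) : False := by
  by_cases hZ : zc L = ⊥
  · exact C.false_of_center_bot hZ
  · obtain ⟨z, hz, hz1⟩ : ∃ z ∈ zc L, z ≠ 1 := by
      by_contra hcon
      apply hZ
      rw [eq_bot_iff]
      intro x hx
      by_contra hx1
      exact hcon ⟨x, hx, fun h => hx1 (by rw [h]; exact Subgroup.one_mem _)⟩
    have ho : orderOf z ≠ 1 := fun h => hz1 (orderOf_eq_one_iff.mp h)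
    obtain ⟨q, hq, hqdvd⟩ := Nat.exists_prime_and_dvd ho
    haveI : Fact q.Prime := ⟨hq⟩
    have hopos : orderOf z ≠ 0 := (orderOf_pos z).ne'
    have hvq : orderOf (z ^ (orderOf z / q)) = q := orderOf_pow_orderOf_div hopos hqdvd
    have hvZ : z ^ (orderOf z / q) ∈ zc L := Subgroup.pow_mem _ hz _
    have hvZ' : z ^ (orderOf z / q) ∈ L ⊓ Subgroup.centralizer (L : Set G) := hvZ
    exact C.false_of_central (Subgroup.mem_inf.mp hvZ').1 (Subgroup.mem_inf.mp hvZ').2
      (C.zc_le_centralizer hvZ) hvq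

/-- Images of the generating fixed points are generating fixed points. -/
theorem KK_map_le' {G' : Type*} [Group G'] (f : G →* G') (P L : Subgroup G) :
    (KK P L).map f ≤ KK (P.map f) (L.map f) := by
  rw [Subgroup.map_le_iff_le_comap]
  apply KK_le
  intro h hh x hx
  rw [Subgroup.mem_comap]
  apply cmh_inf_le_KK (Subgroup.mem_map_of_mem f hh)
  refine Subgroup.mem_inf.mpr ⟨?_, ?_⟩
  · rw [← cmh_map]; exact Subgroup.mem_map_of_mem f (Subgroup.mem_inf.mp hx).1
  · rw [Subgroup.mem_centralizer_iff]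
    rintro _ ⟨a, ha, rfl⟩
    have h1 := Subgroup.mem_centralizer_iff.mp (Subgroup.mem_inf.mp hx).2 a ha
    rw [← map_mul, ← map_mul, h1]

/-- Generating fixed points of a homomorphic image lift (coprime action). -/
theorem KK_map_ge [Finite G] {Q : Type*} [Group Q] (f : G →* Q) (P L : Subgroup G)
    (hPL : P ≤ Subgroup.normalizer (L : Set G)) (hcop : (Nat.card P).Coprime (Nat.card L))
    (hsolv : Group.IsSolvable L) :
    KK (P.map f) (L.map f) ≤ (KK P L).map f := by
  apply KK_le
  rintro _ ⟨h, hh, rfl⟩ x' hx'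
  have hx1 := (Subgroup.mem_inf.mp hx').1
  have hx2 := (Subgroup.mem_inf.mp hx').2
  rw [← cmh_map] at hx1
  obtain ⟨x, hx, rfl⟩ := hx1
  have hDL : cmh P h ≤ L := cmh_le_of_mem hPL hh
  have hker : ∀ H : Subgroup G, H ≤ Subgroup.normalizer ((f.ker : Subgroup G) : Set G) := by
    intro H g _
    rw [Subgroup.mem_normalizer_iff]
    intro y
    simp [MonoidHom.mem_ker]
  have hfix : ∀ a ∈ P, a * x * a⁻¹ * x⁻¹ ∈ f.ker ⊓ cmh P h := by
    intro a ha
    refine Subgroup.mem_inf.mpr ⟨?_, ?_⟩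
    · rw [MonoidHom.mem_ker]
      have h1 : f a * f x = f x * f a :=
        Subgroup.mem_centralizer_iff.mp hx2 (f a) (Subgroup.mem_map_of_mem f ha)
      simp only [map_mul, map_inv]
      rw [h1]; group
    · exact Subgroup.mul_mem _ (nconj (cmh_normalized P h) ha hx) (Subgroup.inv_mem _ hx)
  obtain ⟨c, hc, hcx⟩ := Cfsg.Agent.S0022.result P (cmh P h) (cmh_normalized P h)
    (Nat.Coprime.coprime_dvd_right (Subgroup.card_dvd_of_le hDL) hcop)
    (Or.inr (isSolvable_of_le hDL hsolv)) (f.ker ⊓ cmh P h) inf_le_right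
    (le_normalizer_inf (hker _) Subgroup.le_normalizer)
    (le_normalizer_inf (hker _) (cmh_normalized P h)) x hx hfix
  refine ⟨c, cmh_inf_le_KK hh hc, ?_⟩
  have h2 : f (x⁻¹ * c) = 1 := MonoidHom.mem_ker.mp (Subgroup.mem_inf.mp hcx).1
  rw [map_mul, map_inv, inv_mul_eq_one] at h2
  exact h2.symm

theorem card_map_lt {G₁ Q : Type*} [Group G₁] [Group Q] [Finite G₁] (f : G₁ →* Q)
    (H : Subgroup G₁) {x : G₁} (hx : x ∈ H) (hx1 : x ≠ 1) (hfx : f x = 1) :
    Nat.card (H.map f) < Nat.card H := by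
  have hle : Nat.card (H.map f) ≤ Nat.card H :=
    Nat.le_of_dvd Nat.card_pos (Subgroup.card_map_dvd H f)
  refine lt_of_le_of_ne hle ?_
  intro heq
  have hbij := (f.subgroupMap_surjective H).bijective_of_nat_card_le heq.ge
  have h1 : (f.subgroupMap H) ⟨x, hx⟩ = (f.subgroupMap H) 1 := by
    apply Subtype.ext
    rw [map_one]
    exact hfx
  have h2 := hbij.1 h1
  exact hx1 (congrArg Subtype.val h2)

/-- The quotient step, inside a subgroup `G₁` in which `N` is normal. -/
theorem T3_aux [Finite G] {p : ℕ} {P L : Subgroup G} (hPp : Nat.card P ∣ p)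
    (hPL : P ≤ Subgroup.normalizer (L : Set G)) (hcop : (Nat.card L).Coprime p)
    (hsolv : Group.IsSolvable L) (hLL : ⁅L, P⁆ = L)
    (IH : ∀ (Q : Type u) [Group Q] [Finite Q] (P' L' : Subgroup Q), Nat.card L' < Nat.card L →
      Nat.card P' ∣ p → P' ≤ Subgroup.normalizer (L' : Set Q) → (Nat.card L').Coprime p →
      Group.IsSolvable L' → ⁅L', P'⁆ ⊓ Subgroup.centralizer (P' : Set Q) ≤ KK P' L')
    (N : Subgroup G) (hNL : N ≤ L) (hN : N ≠ ⊥)
    (G₁ : Subgroup G) (hLG : L ≤ G₁) (hPG : P ≤ G₁) [hn : (N.subgroupOf G₁).Normal]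
    (c : G) (hcL : c ∈ L)
    (hcC : c ∈ Subgroup.centralizer (P : Set G)) : ∃ k ∈ KK P L, ∃ n ∈ N, c = k * n := by
  have hNG : N ≤ G₁ := hNL.trans hLG
  have hker : (QuotientGroup.mk' (N.subgroupOf G₁)).ker = N.subgroupOf G₁ :=
    QuotientGroup.ker_mk' _
  have hmapL : (L.subgroupOf G₁).map G₁.subtype = L := Subgroup.map_subgroupOf_eq_of_le hLG
  have hmapP : (P.subgroupOf G₁).map G₁.subtype = P := Subgroup.map_subgroupOf_eq_of_le hPG
  have hcardL : Nat.card (L.subgroupOf G₁) = Nat.card L := by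
    have h1 := Subgroup.card_map_of_injective (K := L.subgroupOf G₁)
      (Subgroup.subtype_injective G₁)
    rw [hmapL] at h1
    exact h1.symm
  have hcardP : Nat.card (P.subgroupOf G₁) = Nat.card P := by
    have h1 := Subgroup.card_map_of_injective (K := P.subgroupOf G₁)
      (Subgroup.subtype_injective G₁)
    rw [hmapP] at h1
    exact h1.symm
  have hLL₁ : ⁅L.subgroupOf G₁, P.subgroupOf G₁⁆ = L.subgroupOf G₁ := by
    apply Subgroup.map_injective (Subgroup.subtype_injective G₁)
    rw [Subgroup.map_commutator, hmapL, hmapP, hLL]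
  have hPL₁ : P.subgroupOf G₁ ≤ Subgroup.normalizer ((L.subgroupOf G₁ : Subgroup G₁) : Set G₁) := by
    rw [Subgroup.le_normalizer_iff]
    intro a ha l hl
    rw [Subgroup.mem_subgroupOf] at ha hl ⊢
    exact nconj hPL ha hl
  have hsolv₁ : Group.IsSolvable (L.subgroupOf G₁) := by
    haveI := hsolv
    exact Group.isSolvable_of_isSolvable_injective (f := (Subgroup.subgroupOfEquivOfLe hLG).toMonoidHom)
      (Subgroup.subgroupOfEquivOfLe hLG).injective
  have hcard_lt : Nat.card ((L.subgroupOf G₁).map (QuotientGroup.mk' (N.subgroupOf G₁)))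
      < Nat.card L := by
    obtain ⟨n, hn, hn1⟩ : ∃ n ∈ N, n ≠ 1 := by
      by_contra hcon
      apply hN
      rw [eq_bot_iff]
      intro x hx
      by_contra hx1
      exact hcon ⟨x, hx, fun h => hx1 (by rw [h]; exact Subgroup.one_mem _)⟩
    rw [← hcardL]
    apply card_map_lt (QuotientGroup.mk' (N.subgroupOf G₁)) (L.subgroupOf G₁)
      (x := ⟨n, hNG hn⟩)
    · exact Subgroup.mem_subgroupOf.mpr (hNL hn)
    · intro h; exact hn1 (congrArg Subtype.val h)
    · rw [← MonoidHom.mem_ker, hker]; exact Subgroup.mem_subgroupOf.mpr hn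
  have hP' : Nat.card ((P.subgroupOf G₁).map (QuotientGroup.mk' (N.subgroupOf G₁))) ∣ p :=
    (Subgroup.card_map_dvd _ _).trans (hcardP ▸ hPp)
  have hPL' : (P.subgroupOf G₁).map (QuotientGroup.mk' (N.subgroupOf G₁))
      ≤ Subgroup.normalizer (((L.subgroupOf G₁).map (QuotientGroup.mk' (N.subgroupOf G₁))
        : Subgroup (G₁ ⧸ N.subgroupOf G₁)) : Set (G₁ ⧸ N.subgroupOf G₁)) := by
    rw [Subgroup.le_normalizer_iff]
    rintro _ ⟨a, ha, rfl⟩ _ ⟨l, hl, rfl⟩
    exact ⟨a * l * a⁻¹, nconj hPL₁ ha hl, by simp⟩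
  have hcop' : (Nat.card ((L.subgroupOf G₁).map (QuotientGroup.mk' (N.subgroupOf G₁)))).Coprime
      p := by
    apply Nat.Coprime.coprime_dvd_left _ hcop
    rw [← hcardL]; exact Subgroup.card_map_dvd _ _
  have hsolv' : Group.IsSolvable ((L.subgroupOf G₁).map (QuotientGroup.mk' (N.subgroupOf G₁))) := by
    haveI := hsolv₁
    exact Group.isSolvable_of_surjective
      ((QuotientGroup.mk' (N.subgroupOf G₁)).subgroupMap_surjective (L.subgroupOf G₁))
  have key := IH (G₁ ⧸ N.subgroupOf G₁) _ _ hcard_lt hP' hPL' hcop' hsolv'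
  have hcopPL₁ : (Nat.card (P.subgroupOf G₁)).Coprime (Nat.card (L.subgroupOf G₁)) := by
    rw [hcardL, hcardP]
    exact (Nat.Coprime.coprime_dvd_right hPp hcop).symm
  have key2 := key.trans (KK_map_ge (QuotientGroup.mk' (N.subgroupOf G₁)) (P.subgroupOf G₁)
    (L.subgroupOf G₁) hPL₁ hcopPL₁ hsolv₁)
  have hc₁ : (⟨c, hLG hcL⟩ : G₁) ∈ L.subgroupOf G₁ := Subgroup.mem_subgroupOf.mpr hcL
  have hπc : (QuotientGroup.mk' (N.subgroupOf G₁)) ⟨c, hLG hcL⟩ ∈
      ⁅(L.subgroupOf G₁).map (QuotientGroup.mk' (N.subgroupOf G₁)),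
        (P.subgroupOf G₁).map (QuotientGroup.mk' (N.subgroupOf G₁))⁆ ⊓
      Subgroup.centralizer (((P.subgroupOf G₁).map (QuotientGroup.mk' (N.subgroupOf G₁))
        : Subgroup (G₁ ⧸ N.subgroupOf G₁)) : Set (G₁ ⧸ N.subgroupOf G₁)) := by
    refine Subgroup.mem_inf.mpr ⟨?_, ?_⟩
    · rw [← Subgroup.map_commutator, hLL₁]; exact Subgroup.mem_map_of_mem _ hc₁
    · rw [Subgroup.mem_centralizer_iff]
      rintro _ ⟨a, ha, rfl⟩
      rw [← map_mul, ← map_mul]
      congr 1
      apply Subtype.ext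
      exact Subgroup.mem_centralizer_iff.mp hcC a (Subgroup.mem_subgroupOf.mp ha)
  obtain ⟨k₁, hk₁, hk₁c⟩ := key2 hπc
  have hk : (k₁ : G) ∈ KK P L := by
    have h1 : (k₁ : G) ∈ (KK (P.subgroupOf G₁) (L.subgroupOf G₁)).map G₁.subtype :=
      ⟨k₁, hk₁, rfl⟩
    have h2 := KK_map_le' G₁.subtype _ _ h1
    rwa [hmapP, hmapL] at h2
  refine ⟨k₁, hk, (k₁ : G)⁻¹ * c, ?_, by group⟩
  have h3 : k₁⁻¹ * (⟨c, hLG hcL⟩ : G₁) ∈ N.subgroupOf G₁ := by
    rw [← hker, MonoidHom.mem_ker, map_mul, map_inv, hk₁c]; simp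
  exact Subgroup.mem_subgroupOf.mp h3

theorem flavell_aux {p : ℕ} (hp : p.Prime) (hp2 : p ≠ 2) : ∀ n : ℕ, ∀ (G : Type u) [Group G]
    [Finite G] (P L : Subgroup G), Nat.card L ≤ n → Nat.card P ∣ p →
    P ≤ Subgroup.normalizer (L : Set G) → (Nat.card L).Coprime p → Group.IsSolvable L →
    ⁅L, P⁆ ⊓ Subgroup.centralizer (P : Set G) ≤ KK P L := by
  intro n
  induction n with
  | zero =>
    intro G _ _ P L hn
    have h0 : 0 < Nat.card L := Nat.card_pos
    omega
  | succ n ih =>
    intro G _ _ P L hn hPp hPL hcop hsolv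
    rcases (Nat.dvd_prime hp).mp hPp with h1 | hP
    · have h2 : P = ⊥ := Subgroup.card_eq_one.mp h1
      rw [h2, Subgroup.commutator_bot_right]
      exact inf_le_left.trans bot_le
    have hcopP : (Nat.card P).Coprime (Nat.card L) := by rw [hP]; exact hcop.symm
    have hsolvP : Group.IsSolvable P := solvable_of_prime_card hp hP
    by_cases hLL : ⁅L, P⁆ = L
    · by_contra hK
      rw [hLL] at hK
      have C : Cex p P L (KK P L) :=
        { hp := hp
          hp2 := hp2
          hP := hP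
          hPL := hPL
          hcop := hcop
          hsolv := hsolv
          hLL := hLL
          hKL := by
            have h3 := KK_le_commutator P L
            rwa [hLL] at h3
          hKC := KK_le_centralizer P L
          hcmh := fun h hh => cmh_inf_le_KK hh
          T1 := fun c hcL hcC k hk => KK_conj hcL hcC hk
          T2 := fun L' hL' hPL' hne => by
            have hlt : Nat.card L' < Nat.card L := card_lt_card_of_lt (lt_of_le_of_ne hL' hne)
            exact (ih G P L' (by omega) hPp hPL'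
              (Nat.Coprime.coprime_dvd_left (Subgroup.card_dvd_of_le hL') hcop)
              (isSolvable_of_le hL' hsolv)).trans (KK_mono hL')
          T3 := fun N hNL hN hLN hPN c hcL hcC =>
            T3_aux hPp hPL hcop hsolv hLL
              (fun Q _ _ P' L' hlt => ih Q P' L' (by omega)) N hNL hN
              (Subgroup.normalizer (N : Set G)) hLN hPN c hcL hcC
          hK := hK }
      exact C.false
    · have hlt : ⁅L, P⁆ < L := lt_of_le_of_ne (commutator_le_of_le_normalizer hPL) hLL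
      have hcard := card_lt_card_of_lt hlt
      have h1 := ih G P ⁅L, P⁆ (by omega) hPp (le_normalizer_commutator_right L P)
        (Nat.Coprime.coprime_dvd_left (Subgroup.card_dvd_of_le hlt.le) hcop)
        (isSolvable_of_le hlt.le hsolv)
      rw [coprime_commutator_commutator P L hPL hcopP (Or.inl hsolvP)] at h1
      exact h1.trans (KK_mono hlt.le)

/-- **Generation of fixed points.** For a subgroup `P` of order dividing an odd prime `p`
normalizing a solvable subgroup `L` of order prime to `p`, the fixed points of `P` on `[L, P]`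
are generated by the fixed points of `P` on the subgroups `[h, P]`, `h ∈ L`. -/
theorem flavell {p : ℕ} (hp : p.Prime) (hp2 : p ≠ 2) [Finite G] (P L : Subgroup G)
    (hP : Nat.card P ∣ p) (hPL : P ≤ Subgroup.normalizer (L : Set G))
    (hcop : (Nat.card L).Coprime p) (hsolv : Group.IsSolvable L) :
    ⁅L, P⁆ ⊓ Subgroup.centralizer (P : Set G) ≤ KK P L :=
  flavell_aux hp hp2 (Nat.card L) G P L le_rfl hP hPL hcop hsolv

end Cfsg.Agent.Lib.Helper73.Flv
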