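import Mathlib

/-!
# The quaternion group of order eight and its automorphisms
-/

set_option autoImplicit false

namespace Cfsg.Agent.Lib.Helper73

open QuaternionGroup

/-- evaluation of the endomorphism sending `a 1` to `u` and `xa 0` to `v` -/
def q8ev (u v : QuaternionGroup 2) : QuaternionGroup 2 → QuaternionGroup 2
  | a k => u ^ k.val
  | xa k => v * u ^ k.val

/-- the automorphism of order three -/
def q8c : QuaternionGroup 2 → QuaternionGroup 2 := q8ev (xa 0) (xa 3)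

/-- the involutory automorphism -/
def q8t : QuaternionGroup 2 → QuaternionGroup 2 := q8ev (a 3) (xa 1)

theorem q8_a_eq : ∀ k : ZMod (2 * 2), (a k : QuaternionGroup 2) = a 1 ^ k.val := by decide

theorem q8_xa_eq : ∀ k : ZMod (2 * 2), (xa k : QuaternionGroup 2) = xa 0 * a 1 ^ k.val := by
  decide

theorem q8_hom_eval {H : Type*} [Group H] (σ : QuaternionGroup 2 →* H) (x : QuaternionGroup 2) :
    σ x = match x with
      | a k => σ (a 1) ^ k.val
      | xa k => σ (xa 0) * σ (a 1) ^ k.val := by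
  cases x with
  | a k => conv_lhs => rw [q8_a_eq k, map_pow]
  | xa k => conv_lhs => rw [q8_xa_eq k, map_mul, map_pow]

theorem q8_aut_eval (σ : MulAut (QuaternionGroup 2)) (x : QuaternionGroup 2) :
    σ x = q8ev (σ (a 1)) (σ (xa 0)) x := by
  have h := q8_hom_eval σ.toMonoidHom x
  cases x with
  | a k => exact h
  | xa k => exact h

theorem q8_pow_four : ∀ x : QuaternionGroup 2, x ^ 4 = 1 := by decide

theorem q8_center : ∀ x : QuaternionGroup 2, (∀ y, x * y = y * x) → x = 1 ∨ x = a 2 := by decide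

theorem q8_central : ∀ y : QuaternionGroup 2, a 2 * y * (a 2)⁻¹ = y := by decide

theorem q8_invol : ∀ x : QuaternionGroup 2, x ^ 2 = 1 → x = 1 ∨ x = a 2 := by decide

theorem q8_a2_ne : (a 2 : QuaternionGroup 2) ≠ 1 := by decide

theorem q8_a2_sq : (a 2 : QuaternionGroup 2) ^ 2 = 1 := by decide

theorem q8_a1_sq : (a 1 : QuaternionGroup 2) ^ 2 = a 2 := by decide

theorem q8_pairs_card :
    Fintype.card {p : QuaternionGroup 2 × QuaternionGroup 2 //
      p.1 ^ 2 = p.2 ^ 2 ∧ p.1 ^ 2 ≠ 1 ∧ p.2 * p.1 * p.2⁻¹ = p.1⁻¹} = 24 := by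
  decide

theorem q8_gen : ∀ x : QuaternionGroup 2, ∃ m n : Fin 4,
    x = a 1 ^ (m : ℕ) * xa 0 ^ (n : ℕ) := by decide

theorem q8_rel : (a 1 : QuaternionGroup 2) ^ 4 = 1 ∧ (xa 0 : QuaternionGroup 2) ^ 2 = a 1 ^ 2 ∧
    (xa 0 : QuaternionGroup 2) * a 1 * (xa 0)⁻¹ = (a 1)⁻¹ ∧ (a 1 : QuaternionGroup 2) ^ 2 ≠ 1 := by
  decide

theorem q8_vals : (xa 3 : QuaternionGroup 2) = a 1 * xa 0 ∧ (a 3 : QuaternionGroup 2) = (a 1)⁻¹ ∧
    (xa 1 : QuaternionGroup 2) = (a 1 * xa 0)⁻¹ := by decide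

theorem q8c_cube : ∀ x : QuaternionGroup 2, q8c (q8c (q8c x)) = x := by decide

theorem q8t_sq : ∀ x : QuaternionGroup 2, q8t (q8t x) = x := by decide

theorem q8_ctc : ∀ x : QuaternionGroup 2, q8c (q8t (q8c x)) = q8t x := by decide

theorem q8_no_invol : ∀ d : Fin 3, ∀ x : QuaternionGroup 2, x * q8c^[d] (q8t x) ≠ a 2 := by
  decide

theorem q8_ne_one : ∀ y : QuaternionGroup 2, y ≠ 1 → y = a 2 ∨ y ^ 2 = a 2 := by decide

end Cfsg.Agent.Lib.Helper73
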