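import Mathlib
import Cfsg.Agent.Lib.Helper73.Q8Aut
import Cfsg.Agent.Lib.Helper73.CyclicIndexTwo
import Cfsg.Agent.Lib.Helper48.Generation

/-!
# Four commuting automorphisms of order three whose fixed points are quaternion or central
-/

set_option autoImplicit false

namespace Cfsg.Agent.Lib.Helper73

open Cfsg.Agent.Lib.Helper48 (fixSubgroup mem_fixSubgroup)
open QuaternionGroup
open scoped commutatorElement

/-- four coset representatives of the centre in the quaternion group -/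
def qV : Fin 4 → QuaternionGroup 2
  | 0 => 1
  | 1 => a 1
  | 2 => xa 0
  | 3 => a 1 * xa 0

theorem q8_a2_comm : ∀ q : QuaternionGroup 2, a 2 * q = q * a 2 := by decide

theorem q8_sq : ∀ q : QuaternionGroup 2, q = 1 ∨ q = a 2 ∨ q * q = a 2 := by decide

theorem q8_cen : ∀ q : QuaternionGroup 2, q * a 1 = a 1 * q → q * xa 0 = xa 0 * q →
    q = 1 ∨ q = a 2 := by decide

theorem q8_rep : ∀ e₁ e₂ : QuaternionGroup 2, (e₁ = 1 ∨ e₁ = a 2) → (e₂ = 1 ∨ e₂ = a 2) →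
    ∃ i : Fin 4, (qV i)⁻¹ * e₁ * a 1 = a 1 * (qV i)⁻¹ ∧
      (qV i)⁻¹ * e₂ * xa 0 = xa 0 * (qV i)⁻¹ := by decide

theorem q8_qV_inj : ∀ i i' : Fin 4,
    ((qV i')⁻¹ * qV i = 1 ∨ (qV i')⁻¹ * qV i = a 2) → i = i' := by decide

theorem q8_nc : ⁅(a 1 : QuaternionGroup 2), (xa 0 : QuaternionGroup 2)⁆ ≠ 1 := by decide

theorem q8_ne : (a 1 : QuaternionGroup 2) ≠ 1 ∧ (a 1 : QuaternionGroup 2) ≠ a 2 ∧
    (xa 0 : QuaternionGroup 2) ≠ 1 ∧ (xa 0 : QuaternionGroup 2) ≠ a 2 ∧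
    (a 1 * xa 0 : QuaternionGroup 2) ≠ 1 ∧ (a 1 * xa 0 : QuaternionGroup 2) ≠ a 2 := by decide

/-- the configuration: four commuting automorphisms of order three, the fixed points of any two
of them being `{1, z}`, and each having fixed points `{1, z}` or a quaternion group -/
structure QCfg (W : Type*) [Group W] where
  g : Fin 4 → MulAut W
  z : W
  z_ne : z ≠ 1
  z_sq : z * z = 1
  comm : ∀ i j x, g i (g j x) = g j (g i x)
  cube : ∀ j x, g j (g j (g j x)) = x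
  fix_z : ∀ j, g j z = z
  fix_inf : ∀ i j, i ≠ j → ∀ x, g i x = x → g j x = x → x = 1 ∨ x = z
  gen : ∀ C : Subgroup W, (∀ j, ∀ x ∈ C, g j x ∈ C) → C ≤ ⨆ j, C ⊓ fixSubgroup (g j)
  typ : ∀ j, (∀ x, g j x = x → x = 1 ∨ x = z) ∨
    (Nat.card (fixSubgroup (g j)) = 8 ∧ ∃ ι : QuaternionGroup 2 →* W,
      Function.Injective ι ∧ ι (a 2) = z ∧ ∀ f, g j f = f ↔ ∃ q, ι q = f)

namespace QCfg

variable {W : Type*} [Group W] (c : QCfg W)

/-- the fixed points of the `j`-th automorphism are the image of `ι` -/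
def IsQ (j : Fin 4) (ι : QuaternionGroup 2 →* W) : Prop :=
  Nat.card (fixSubgroup (c.g j)) = 8 ∧ Function.Injective ι ∧ ι (a 2) = c.z ∧
    ∀ f, c.g j f = f ↔ ∃ q, ι q = f

theorem z_comm (w : W) : c.z * w = w * c.z := by
  have h : (⊤ : Subgroup W) ≤ Subgroup.centralizer {c.z} := by
    refine (c.gen ⊤ (fun _ _ _ => trivial)).trans (iSup_le fun j => ?_)
    rintro f ⟨-, hf⟩
    rw [Subgroup.mem_centralizer_iff]
    intro h hh
    rw [Set.mem_singleton_iff] at hh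
    rw [hh]
    rcases c.typ j with h1 | ⟨-, ι, hinj, hz, hall⟩
    · rcases h1 f hf with h2 | h2 <;> rw [h2]
      simp
    · obtain ⟨q, rfl⟩ := (hall f).mp hf
      rw [← hz, ← map_mul, ← map_mul, q8_a2_comm]
  have h1 := h (Subgroup.mem_top w)
  rw [Subgroup.mem_centralizer_iff] at h1
  exact h1 c.z rfl

/-- the subgroup `{1, z}` -/
def Zs : Subgroup W := Subgroup.zpowers c.z

theorem mem_Zs (x : W) : x ∈ c.Zs ↔ x = 1 ∨ x = c.z := by
  constructor
  · intro h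
    obtain ⟨k, rfl⟩ := Subgroup.mem_zpowers_iff.mp h
    exact zpow_eq_one_or_self_of_sq (by rw [pow_two]; exact c.z_sq) k
  · rintro (rfl | rfl)
    · exact one_mem _
    · exact Subgroup.mem_zpowers _

theorem Zs_comm {ζ : W} (h : ζ ∈ c.Zs) (w : W) : ζ * w = w * ζ := by
  rcases (c.mem_Zs ζ).mp h with rfl | rfl
  · simp
  · exact c.z_comm w

theorem card_Zs : Nat.card c.Zs = 2 := by
  have : Fact (Nat.Prime 2) := ⟨Nat.prime_two⟩
  rw [Zs, Nat.card_zpowers]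
  exact orderOf_eq_prime (by rw [pow_two]; exact c.z_sq) c.z_ne

theorem fix_inv (i j : Fin 4) {x : W} (h : c.g j x = x) : c.g j (c.g i x) = c.g i x := by
  rw [c.comm j i, h]

theorem comm_z {x v : W} (h : ⁅x, v⁆ = c.z) : v * x = c.z * (x * v) := by
  have h1 : x * v = c.z * (v * x) := by rw [← h, commutatorElement_def]; group
  rw [h1, ← mul_assoc, c.z_sq, one_mul]

variable {c}

theorem IsQ.mem {j : Fin 4} {ι : QuaternionGroup 2 →* W} (h : c.IsQ j ι)
    (q : QuaternionGroup 2) : c.g j (ι q) = ι q := (h.2.2.2 _).mpr ⟨q, rfl⟩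

theorem IsQ.sq {j : Fin 4} {ι : QuaternionGroup 2 →* W} (h : c.IsQ j ι) {f : W}
    (hf : c.g j f = f) (h1 : f ≠ 1) (hz : f ≠ c.z) : f * f = c.z := by
  obtain ⟨q, rfl⟩ := (h.2.2.2 f).mp hf
  rcases q8_sq q with rfl | rfl | hq
  · exact absurd (map_one ι) h1
  · exact absurd h.2.2.1 hz
  · rw [← map_mul, hq, h.2.2.1]

theorem IsQ.center {j : Fin 4} {ι : QuaternionGroup 2 →* W} (h : c.IsQ j ι) {f : W}
    (hf : c.g j f = f) (hx : f * ι (a 1) = ι (a 1) * f) (hy : f * ι (xa 0) = ι (xa 0) * f) :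
    f = 1 ∨ f = c.z := by
  obtain ⟨q, rfl⟩ := (h.2.2.2 f).mp hf
  rw [← map_mul, ← map_mul] at hx hy
  rcases q8_cen q (h.2.1 hx) (h.2.1 hy) with rfl | rfl
  · left; exact map_one ι
  · right; exact h.2.2.1

theorem IsQ.comm_all {j : Fin 4} {ι : QuaternionGroup 2 →* W} (_h : c.IsQ j ι) {d : W}
    (hx : d * ι (a 1) = ι (a 1) * d) (hy : d * ι (xa 0) = ι (xa 0) * d)
    (q : QuaternionGroup 2) : d * ι q = ι q * d := by
  obtain ⟨m, n, rfl⟩ := q8_gen q
  rw [map_mul, map_pow, map_pow]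
  have h1 : Commute d (ι (a 1)) := hx
  have h2 : Commute d (ι (xa 0)) := hy
  exact ((h1.pow_right _).mul_right (h2.pow_right _)).eq

theorem IsQ.ne {j : Fin 4} {ι : QuaternionGroup 2 →* W} (h : c.IsQ j ι) :
    ι (a 1) ≠ 1 ∧ ι (a 1) ≠ c.z ∧ ι (xa 0) ≠ 1 ∧ ι (xa 0) ≠ c.z ∧
    ι (a 1 * xa 0) ≠ 1 ∧ ι (a 1 * xa 0) ≠ c.z := by
  have hinj := h.2.1
  have hz := h.2.2.1
  obtain ⟨h1, h2, h3, h4, h5, h6⟩ := q8_ne
  refine ⟨fun e => h1 (hinj (e.trans (map_one ι).symm)), fun e => h2 (hinj (e.trans hz.symm)),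
    fun e => h3 (hinj (e.trans (map_one ι).symm)), fun e => h4 (hinj (e.trans hz.symm)),
    fun e => h5 (hinj (e.trans (map_one ι).symm)), fun e => h6 (hinj (e.trans hz.symm))⟩

/-- an invariant subgroup meeting a quaternion fixed point subgroup outside `{1, z}` contains
it -/
theorem IsQ.irr [Finite W] {j : Fin 4} {ι : QuaternionGroup 2 →* W} (h : c.IsQ j ι) {i : Fin 4}
    (hij : i ≠ j) (T : Subgroup W) (hT : ∀ x ∈ T, c.g i x ∈ T) {t : W} (htT : t ∈ T)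
    (htF : c.g j t = t) (ht1 : t ≠ 1) (htz : t ≠ c.z) : fixSubgroup (c.g j) ≤ T := by
  classical
  set S := T ⊓ fixSubgroup (c.g j) with hS
  have hsq := h.sq htF ht1 htz
  have hsS : c.g i t ∈ S := ⟨hT t htT, c.fix_inv i j htF⟩
  have htS : t ∈ S := ⟨htT, htF⟩
  have hzS : c.z ∈ S := by rw [← hsq]; exact S.mul_mem htS htS
  have hs1 : c.g i t ≠ 1 := by
    intro h1; apply ht1
    apply (c.g i).injective
    rw [h1, map_one]
  have hsz : c.g i t ≠ c.z := by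
    intro h1; apply htz; apply (c.g i).injective; rw [c.fix_z]; exact h1
  have hst : c.g i t ≠ t := by
    intro h1
    rcases c.fix_inf i j hij t h1 htF with h2 | h2
    · exact ht1 h2
    · exact htz h2
  have hszt : c.g i t ≠ c.z * t := by
    intro h1
    have h2 : c.g i (c.g i t) = t := by
      rw [h1, map_mul, c.fix_z, h1, ← mul_assoc, c.z_sq, one_mul]
    have h3 : c.g i (c.g i (c.g i t)) = t := c.cube i t
    rw [h2] at h3
    exact hst h3
  have hzt1 : c.z * t ≠ 1 := by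
    intro h1
    apply htz
    have : t = c.z * (c.z * t) := by rw [← mul_assoc, c.z_sq, one_mul]
    rw [this, h1, mul_one]
  have h5 : 5 ≤ Nat.card S := by
    have hsub : (({1, t, c.z, c.z * t, c.g i t} : Finset W) : Set W) ⊆ (S : Set W) := by
      intro w hw
      simp only [Finset.coe_insert, Finset.coe_singleton, Set.mem_insert_iff,
        Set.mem_singleton_iff] at hw
      rcases hw with rfl | rfl | rfl | rfl | rfl
      · exact S.one_mem
      · exact htS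
      · exact hzS
      · exact S.mul_mem hzS htS
      · exact hsS
    have hcard : ({1, t, c.z, c.z * t, c.g i t} : Finset W).card = 5 := by
      rw [Finset.card_insert_of_notMem, Finset.card_insert_of_notMem,
        Finset.card_insert_of_notMem, Finset.card_insert_of_notMem, Finset.card_singleton]
      · simp only [Finset.mem_singleton]
        exact fun h => hszt h.symm
      · simp only [Finset.mem_insert, Finset.mem_singleton, not_or]
        exact ⟨fun h => ht1 (by simpa using h), fun h => hsz h.symm⟩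
      · simp only [Finset.mem_insert, Finset.mem_singleton, not_or]
        exact ⟨htz, fun h => c.z_ne (by simpa using h), fun h => hst h.symm⟩
      · simp only [Finset.mem_insert, Finset.mem_singleton, not_or]
        exact ⟨fun h => ht1 h.symm, fun h => c.z_ne h.symm, fun h => hzt1 h.symm,
          fun h => hs1 h.symm⟩
    calc 5 = ({1, t, c.z, c.z * t, c.g i t} : Finset W).card := hcard.symm
      _ = ((({1, t, c.z, c.z * t, c.g i t} : Finset W) : Set W)).ncard :=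
        (Set.ncard_coe_finset _).symm
      _ ≤ (S : Set W).ncard := Set.ncard_le_ncard hsub (Set.toFinite _)
      _ = Nat.card S := Nat.card_coe_set_eq _
  have hdvd : Nat.card S ∣ 8 := by rw [← h.1]; exact Subgroup.card_dvd_of_le inf_le_right
  have h8 : Nat.card S = 8 := by
    have key : ∀ n : ℕ, 5 ≤ n → n ∣ 8 → n = 8 := by
      intro n h1 h2
      have hle : n ≤ 8 := Nat.le_of_dvd (by norm_num) h2
      interval_cases n <;> omega
    exact key _ h5 hdvd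
  have hSF : S = fixSubgroup (c.g j) :=
    Subgroup.eq_of_le_of_card_ge inf_le_right (by rw [h8, h.1])
  rw [← hSF]; exact inf_le_left

/-- elements of another fixed point subgroup which commute with a quaternion fixed point
subgroup modulo `{1, z}` commute with it -/
theorem IsQ.comm_lines [Finite W] {j₀ : Fin 4} {ι : QuaternionGroup 2 →* W} (hQ : c.IsQ j₀ ι)
    {j : Fin 4} (hj : j ≠ j₀) {t : W} (ht : c.g j t = t) (hcomm : ∀ q, ⁅ι q, t⁆ ∈ c.Zs) :
    ∀ f ∈ fixSubgroup (c.g j₀), f * t = t * f := by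
  set K := fixSubgroup (c.g j₀) ⊓ Subgroup.centralizer {t} with hK
  have hKinv : ∀ x ∈ K, c.g j x ∈ K := by
    intro x hx
    obtain ⟨hx1, hx2⟩ := Subgroup.mem_inf.mp hx
    refine Subgroup.mem_inf.mpr ⟨c.fix_inv j j₀ hx1, ?_⟩
    rw [Subgroup.mem_centralizer_iff] at hx2 ⊢
    intro h hh
    rw [Set.mem_singleton_iff] at hh
    have h1 := hx2 t rfl
    have h2 := congrArg (c.g j) h1
    rw [map_mul, map_mul, ht] at h2
    rw [hh]; exact h2
  have hmemK : ∀ q, ι q * t = t * ι q → ι q ∈ K := by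
    intro q hq
    refine Subgroup.mem_inf.mpr ⟨hQ.mem q, ?_⟩
    rw [Subgroup.mem_centralizer_iff]
    intro h hh
    rw [Set.mem_singleton_iff] at hh
    rw [hh]; exact hq.symm
  obtain ⟨n1, n2, n3, n4, n5, n6⟩ := hQ.ne
  have hex : ∃ k ∈ K, c.g j₀ k = k ∧ k ≠ 1 ∧ k ≠ c.z := by
    rcases (c.mem_Zs _).mp (hcomm (a 1)) with hx | hx
    · exact ⟨ι (a 1), hmemK _ (commutatorElement_eq_one_iff_mul_comm.mp hx), hQ.mem _, n1, n2⟩
    rcases (c.mem_Zs _).mp (hcomm (xa 0)) with hy | hy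
    · exact ⟨ι (xa 0), hmemK _ (commutatorElement_eq_one_iff_mul_comm.mp hy), hQ.mem _, n3, n4⟩
    refine ⟨ι (a 1 * xa 0), hmemK _ ?_, hQ.mem _, n5, n6⟩
    have h1 := c.comm_z hx
    have h2 := c.comm_z hy
    rw [map_mul]
    calc ι (a 1) * ι (xa 0) * t = ι (a 1) * (ι (xa 0) * t) := mul_assoc _ _ _
      _ = ι (a 1) * (c.z * (t * ι (xa 0))) := by
        rw [h2, ← mul_assoc c.z, c.z_sq, one_mul]
      _ = c.z * (ι (a 1) * t) * ι (xa 0) := by
        rw [← mul_assoc (ι (a 1)), ← c.z_comm (ι (a 1))]; simp only [mul_assoc]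
      _ = c.z * (c.z * (t * ι (a 1))) * ι (xa 0) := by
        rw [h1, ← mul_assoc c.z (c.z) (ι (a 1) * t), c.z_sq, one_mul]
      _ = t * (ι (a 1) * ι (xa 0)) := by
        rw [← mul_assoc c.z, c.z_sq, one_mul, mul_assoc]
  obtain ⟨k, hkK, hkF, hk1, hkz⟩ := hex
  have hle := hQ.irr hj K hKinv hkK hkF hk1 hkz
  intro f hf
  have h1 := (Subgroup.mem_inf.mp (hle hf)).2
  rw [Subgroup.mem_centralizer_iff] at h1
  exact (h1 t rfl).symm

/-- a representative making an element commute with a quaternion fixed point subgroup -/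
theorem IsQ.exists_rep {j : Fin 4} {ι : QuaternionGroup 2 →* W} (hQ : c.IsQ j ι) (v : W)
    (hcx : ⁅ι (a 1), v⁆ ∈ c.Zs) (hcy : ⁅ι (xa 0), v⁆ ∈ c.Zs) :
    ∃ i : Fin 4, ∀ h ∈ fixSubgroup (c.g j), h * ((ι (qV i))⁻¹ * v) = (ι (qV i))⁻¹ * v * h := by
  have hz := hQ.2.2.1
  have key : ∀ s : QuaternionGroup 2, ⁅ι s, v⁆ ∈ c.Zs →
      ∃ e : QuaternionGroup 2, (e = 1 ∨ e = a 2) ∧ v * ι s = ι e * (ι s * v) := by
    intro s hs
    rcases (c.mem_Zs _).mp hs with h | h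
    · exact ⟨1, Or.inl rfl, by
        rw [map_one, one_mul]; exact (commutatorElement_eq_one_iff_mul_comm.mp h).symm⟩
    · exact ⟨a 2, Or.inr rfl, by rw [hz]; exact c.comm_z h⟩
  obtain ⟨e₁, he₁, hvx⟩ := key _ hcx
  obtain ⟨e₂, he₂, hvy⟩ := key _ hcy
  obtain ⟨i, hi1, hi2⟩ := q8_rep e₁ e₂ he₁ he₂
  refine ⟨i, ?_⟩
  have hdx : (ι (qV i))⁻¹ * v * ι (a 1) = ι (a 1) * ((ι (qV i))⁻¹ * v) := by
    calc (ι (qV i))⁻¹ * v * ι (a 1) = (ι (qV i))⁻¹ * (v * ι (a 1)) := mul_assoc _ _ _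
      _ = (ι (qV i))⁻¹ * (ι e₁ * (ι (a 1) * v)) := by rw [hvx]
      _ = ι ((qV i)⁻¹ * e₁ * a 1) * v := by
        rw [map_mul, map_mul, map_inv]; simp only [mul_assoc]
      _ = ι (a 1 * (qV i)⁻¹) * v := by rw [hi1]
      _ = ι (a 1) * ((ι (qV i))⁻¹ * v) := by rw [map_mul, map_inv]; simp only [mul_assoc]
  have hdy : (ι (qV i))⁻¹ * v * ι (xa 0) = ι (xa 0) * ((ι (qV i))⁻¹ * v) := by
    calc (ι (qV i))⁻¹ * v * ι (xa 0) = (ι (qV i))⁻¹ * (v * ι (xa 0)) := mul_assoc _ _ _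
      _ = (ι (qV i))⁻¹ * (ι e₂ * (ι (xa 0) * v)) := by rw [hvy]
      _ = ι ((qV i)⁻¹ * e₂ * xa 0) * v := by
        rw [map_mul, map_mul, map_inv]; simp only [mul_assoc]
      _ = ι (xa 0 * (qV i)⁻¹) * v := by rw [hi2]
      _ = ι (xa 0) * ((ι (qV i))⁻¹ * v) := by rw [map_mul, map_inv]; simp only [mul_assoc]
  intro h hh
  obtain ⟨q, rfl⟩ := (hQ.2.2.2 h).mp hh
  exact (hQ.comm_all hdx hdy q).symm

variable (c)

/-- the elements of `C` which commute with `C` modulo `{1, z}` -/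
def Ysub (C : Subgroup W) : Subgroup W where
  carrier := {u | u ∈ C ∧ ∀ v ∈ C, ⁅u, v⁆ ∈ c.Zs}
  one_mem' := ⟨C.one_mem, fun v _ => by rw [commutatorElement_one_left]; exact one_mem _⟩
  mul_mem' := by
    rintro u u' ⟨hu, hu2⟩ ⟨hu', hu2'⟩
    refine ⟨C.mul_mem hu hu', fun v hv => ?_⟩
    have e : ⁅u * u', v⁆ = u * ⁅u', v⁆ * u⁻¹ * ⁅u, v⁆ := by
      simp only [commutatorElement_def]; group
    rw [e, ← c.Zs_comm (hu2' v hv) u, mul_inv_cancel_right]
    exact c.Zs.mul_mem (hu2' v hv) (hu2 v hv)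
  inv_mem' := by
    rintro u ⟨hu, hu2⟩
    refine ⟨C.inv_mem hu, fun v hv => ?_⟩
    have e : ⁅u⁻¹, v⁆ = u⁻¹ * ⁅u, v⁆⁻¹ * u := by
      simp only [commutatorElement_def]; group
    rw [e, ← c.Zs_comm (c.Zs.inv_mem (hu2 v hv)) u⁻¹, inv_mul_cancel_right]
    exact c.Zs.inv_mem (hu2 v hv)

theorem mem_Ysub (C : Subgroup W) (u : W) :
    u ∈ c.Ysub C ↔ u ∈ C ∧ ∀ v ∈ C, ⁅u, v⁆ ∈ c.Zs := Iff.rfl

/-- the centralizer in `C` of the `j`-th fixed point subgroup -/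
def Dsub (C : Subgroup W) (j : Fin 4) : Subgroup W :=
  C ⊓ Subgroup.centralizer (fixSubgroup (c.g j) : Set W)

theorem mem_Dsub (C : Subgroup W) (j : Fin 4) (d : W) :
    d ∈ c.Dsub C j ↔ d ∈ C ∧ ∀ h ∈ fixSubgroup (c.g j), h * d = d * h := by
  rw [Dsub, Subgroup.mem_inf, Subgroup.mem_centralizer_iff]; rfl

theorem Dsub_inv (C : Subgroup W) (j : Fin 4) (hinv : ∀ i, ∀ x ∈ C, c.g i x ∈ C) :
    ∀ i, ∀ x ∈ c.Dsub C j, c.g i x ∈ c.Dsub C j := by
  intro i x hx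
  rw [mem_Dsub] at hx ⊢
  refine ⟨hinv i x hx.1, fun h hh => ?_⟩
  have h' : c.g i (c.g i h) ∈ fixSubgroup (c.g j) := c.fix_inv i j (c.fix_inv i j hh)
  have h1 := hx.2 _ h'
  have h2 := congrArg (c.g i) h1
  rw [map_mul, map_mul, c.cube] at h2
  exact h2

theorem z_mem_Dsub (C : Subgroup W) (j : Fin 4) (hz : c.z ∈ C) : c.z ∈ c.Dsub C j := by
  rw [mem_Dsub]
  exact ⟨hz, fun h _ => (c.z_comm h).symm⟩

variable {c}

theorem IsQ.Dsub_fix {j : Fin 4} {ι : QuaternionGroup 2 →* W} (hQ : c.IsQ j ι) (C : Subgroup W)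
    {t : W} (ht : t ∈ c.Dsub C j) (htF : c.g j t = t) : t = 1 ∨ t = c.z := by
  rw [mem_Dsub] at ht
  exact hQ.center htF (ht.2 _ (hQ.mem _)).symm (ht.2 _ (hQ.mem _)).symm

theorem IsQ.card_split {j : Fin 4} {ι : QuaternionGroup 2 →* W} (hQ : c.IsQ j ι)
    (C : Subgroup W) (hιC : ∀ q, ι q ∈ C)
    (hrep : ∀ v ∈ C, ∃ i : Fin 4, (ι (qV i))⁻¹ * v ∈ c.Dsub C j) :
    Nat.card C = 4 * Nat.card (c.Dsub C j) := by
  have hDC : c.Dsub C j ≤ C := inf_le_left
  let φ : Fin 4 × ↥(c.Dsub C j) → ↥C := fun p => ⟨ι (qV p.1) * p.2, C.mul_mem (hιC _) (hDC p.2.2)⟩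
  have hinj : Function.Injective φ := by
    rintro ⟨i, d⟩ ⟨i', d'⟩ h
    have h1 : ι (qV i) * (d : W) = ι (qV i') * d' := congrArg Subtype.val h
    have h2 : ι ((qV i')⁻¹ * qV i) = (d' : W) * (d : W)⁻¹ := by
      rw [map_mul, map_inv, eq_mul_inv_iff_mul_eq, mul_assoc, h1, inv_mul_cancel_left]
    have h3 : (d' : W) * (d : W)⁻¹ ∈ c.Dsub C j := (c.Dsub C j).mul_mem d'.2 ((c.Dsub C j).inv_mem d.2)
    rw [← h2] at h3
    have h4 := hQ.Dsub_fix C h3 (hQ.mem _)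
    have h5 : (qV i')⁻¹ * qV i = 1 ∨ (qV i')⁻¹ * qV i = a 2 := by
      rcases h4 with h4 | h4
      · exact Or.inl (hQ.2.1 (h4.trans (map_one ι).symm))
      · exact Or.inr (hQ.2.1 (h4.trans hQ.2.2.1.symm))
    have h6 : i = i' := q8_qV_inj i i' h5
    subst h6
    have h7 : (d : W) = d' := mul_left_cancel h1
    exact Prod.ext rfl (Subtype.ext h7)
  have hsurj : Function.Surjective φ := by
    rintro ⟨v, hv⟩
    obtain ⟨i, hi⟩ := hrep v hv
    exact ⟨(i, ⟨_, hi⟩), Subtype.ext (mul_inv_cancel_left _ _)⟩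
  rw [← Nat.card_congr (Equiv.ofBijective φ ⟨hinj, hsurj⟩), Nat.card_prod, Nat.card_fin]

end QCfg

end Cfsg.Agent.Lib.Helper73
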