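import Mathlib
import Cfsg.Agent.Lib.Helper73.QCfg

/-!
# The central product decomposition in a quaternion configuration
-/

set_option autoImplicit false

namespace Cfsg.Agent.Lib.Helper73

open Cfsg.Agent.Lib.Helper48 (fixSubgroup mem_fixSubgroup)
open QuaternionGroup
open scoped commutatorElement

namespace QCfg

variable {W : Type*} [Group W] (c : QCfg W)

/-- a non-central element of `C` commuting with `C` modulo `{1, z}` -/
theorem exists_second_center [Finite W] (hW : IsPGroup 2 W) (C : Subgroup W) {t₀ : W}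
    (ht₀ : t₀ ∈ C) (h1 : t₀ ≠ 1) (hz : t₀ ≠ c.z) : ∃ u ∈ c.Ysub C, u ≠ 1 ∧ u ≠ c.z := by
  have h2 : Fact (Nat.Prime 2) := ⟨Nat.prime_two⟩
  haveI hn : c.Zs.Normal := by
    refine ⟨fun ζ hζ w => ?_⟩
    rw [← c.Zs_comm hζ w, mul_inv_cancel_right]
    exact hζ
  set π := QuotientGroup.mk' c.Zs with hπ
  have hker : ∀ w : W, π w = 1 ↔ (w = 1 ∨ w = c.z) := by
    intro w
    rw [hπ, QuotientGroup.mk'_apply, QuotientGroup.eq_one_iff, c.mem_Zs]
  have hCb : IsPGroup 2 ↥(C.map π) := (hW.to_subgroup C).map π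
  haveI : Nontrivial ↥(C.map π) := by
    refine ⟨⟨⟨π t₀, Subgroup.mem_map_of_mem π ht₀⟩, 1, ?_⟩⟩
    intro h
    have h' : π t₀ = 1 := congrArg Subtype.val h
    rcases (hker t₀).mp h' with h' | h'
    · exact h1 h'
    · exact hz h'
  haveI := hCb.center_nontrivial
  obtain ⟨q, hq⟩ := exists_ne (1 : Subgroup.center ↥(C.map π))
  obtain ⟨u, huC, hu⟩ := Subgroup.mem_map.mp q.1.2
  have hqu : ∀ w : W, w = 1 ∨ w = c.z → u = w → False := by
    intro w hw huw
    apply hq
    apply Subtype.ext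
    apply Subtype.ext
    rw [← hu, huw]
    exact (hker w).mpr hw
  refine ⟨u, ⟨huC, fun v hv => ?_⟩, fun h => hqu 1 (Or.inl rfl) h, fun h => hqu c.z (Or.inr rfl) h⟩
  have hcomm := Subgroup.mem_center_iff.mp q.2 ⟨π v, Subgroup.mem_map_of_mem π hv⟩
  have hcomm' : π v * π u = π u * π v := by
    rw [hu]; exact congrArg Subtype.val hcomm
  have h3 : π ⁅u, v⁆ = 1 := by
    rw [map_commutatorElement, commutatorElement_eq_one_iff_mul_comm]; exact hcomm'.symm
  exact (c.mem_Zs _).mpr ((hker _).mp h3)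

theorem Ysub_inv (C : Subgroup W) (hinv : ∀ j, ∀ x ∈ C, c.g j x ∈ C) :
    ∀ j, ∀ x ∈ c.Ysub C, c.g j x ∈ c.Ysub C := by
  intro j x hx
  rw [mem_Ysub] at hx ⊢
  refine ⟨hinv j x hx.1, fun v hv => ?_⟩
  have hv' : c.g j (c.g j v) ∈ C := hinv j _ (hinv j v hv)
  have h3 := hx.2 _ hv'
  have e : ⁅c.g j x, v⁆ = c.g j ⁅x, c.g j (c.g j v)⁆ := by
    rw [map_commutatorElement, c.cube]
  rw [e]
  rcases (c.mem_Zs _).mp h3 with h4 | h4 <;> rw [h4]
  · rw [map_one]; exact one_mem _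
  · rw [c.fix_z]; exact (c.mem_Zs _).mpr (Or.inr rfl)

/-- some quaternion fixed point subgroup lies in `Ysub C` -/
theorem exists_central_line [Finite W] (hW : IsPGroup 2 W) (C : Subgroup W)
    (hinv : ∀ j, ∀ x ∈ C, c.g j x ∈ C) {t₀ : W} (ht₀ : t₀ ∈ C) (h1 : t₀ ≠ 1) (hz : t₀ ≠ c.z) :
    ∃ j ι, c.IsQ j ι ∧ ∀ q, ι q ∈ c.Ysub C := by
  obtain ⟨u, huY, hu1, huz⟩ := c.exists_second_center hW C ht₀ h1 hz
  have hYinv := c.Ysub_inv C hinv
  have hgen := c.gen (c.Ysub C) hYinv huY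
  have hex : ∃ j, ∃ t ∈ c.Ysub C, c.g j t = t ∧ t ≠ 1 ∧ t ≠ c.z := by
    by_contra hcon
    have hle : (⨆ j, c.Ysub C ⊓ fixSubgroup (c.g j)) ≤ c.Zs := by
      refine iSup_le fun j => ?_
      intro t ht
      obtain ⟨htY, htF⟩ := Subgroup.mem_inf.mp ht
      rw [c.mem_Zs]
      by_contra h3
      exact hcon ⟨j, t, htY, htF, fun h => h3 (Or.inl h), fun h => h3 (Or.inr h)⟩
    rcases (c.mem_Zs u).mp (hle hgen) with h | h
    · exact hu1 h
    · exact huz h
  obtain ⟨j, t, htY, htF, ht1, htz⟩ := hex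
  rcases c.typ j with h3 | ⟨h8, ι, hinj, hz', hall⟩
  · rcases h3 t htF with h | h
    · exact absurd h ht1
    · exact absurd h htz
  · have hQ : c.IsQ j ι := ⟨h8, hinj, hz', hall⟩
    obtain ⟨i, hij⟩ : ∃ i : Fin 4, i ≠ j := by
      by_cases h : j = 0
      · exact ⟨1, by rw [h]; decide⟩
      · exact ⟨0, fun h' => h h'.symm⟩
    have hle := hQ.irr hij (c.Ysub C) (hYinv i) htY htF ht1 htz
    exact ⟨j, ι, hQ, fun q => hle (hQ.mem q)⟩

open Classical in
/-- the main induction: every invariant subgroup containing `z` is a central product of the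
quaternion fixed point subgroups it contains -/
theorem main_ind [Finite W] (hW : IsPGroup 2 W) : ∀ n : ℕ, ∀ C : Subgroup W, Nat.card C = n →
    (∀ j, ∀ x ∈ C, c.g j x ∈ C) → c.z ∈ C →
    (∀ u ∈ C, ∀ v ∈ C, ⁅u, v⁆ ∈ c.Zs) ∧
    Nat.card C = 2 * 4 ^ (Finset.univ.filter
      (fun j => ∃ t ∈ C, c.g j t = t ∧ t ≠ 1 ∧ t ≠ c.z)).card := by
  classical
  intro n
  induction n using Nat.strong_induction_on with
  | _ n ih =>
    intro C hn hinv hz
    by_cases hCZ : ∀ t ∈ C, t = 1 ∨ t = c.z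
    · have hCeq : C = c.Zs := by
        apply le_antisymm
        · intro t ht
          exact (c.mem_Zs t).mpr (hCZ t ht)
        · intro t ht
          rcases (c.mem_Zs t).mp ht with rfl | rfl
          · exact C.one_mem
          · exact hz
      refine ⟨?_, ?_⟩
      · intro u hu v hv
        rcases hCZ u hu with rfl | rfl
        · rw [commutatorElement_one_left]; exact one_mem _
        · rw [commutatorElement_eq_one_iff_mul_comm.mpr (c.z_comm v)]; exact one_mem _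
      · have hf : Finset.univ.filter (fun j => ∃ t ∈ C, c.g j t = t ∧ t ≠ 1 ∧ t ≠ c.z) = ∅ := by
          rw [Finset.filter_eq_empty_iff]
          rintro j - ⟨t, ht, -, h1, h2⟩
          rcases hCZ t ht with h | h
          · exact h1 h
          · exact h2 h
        rw [hf, Finset.card_empty, pow_zero, mul_one, hCeq]
        exact c.card_Zs
    · obtain ⟨t₀, ht₀C, ht₀⟩ : ∃ t₀ ∈ C, ¬ (t₀ = 1 ∨ t₀ = c.z) := by
        by_contra h
        exact hCZ (fun t ht => by by_contra h2; exact h ⟨t, ht, h2⟩)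
      obtain ⟨j₀, ι, hQ, hιY⟩ := c.exists_central_line hW C hinv ht₀C
        (fun h => ht₀ (Or.inl h)) (fun h => ht₀ (Or.inr h))
      have hιC : ∀ q, ι q ∈ C := fun q => ((c.mem_Ysub C _).mp (hιY q)).1
      have hιZ : ∀ q, ∀ v ∈ C, ⁅ι q, v⁆ ∈ c.Zs := fun q => ((c.mem_Ysub C _).mp (hιY q)).2
      have hDC : c.Dsub C j₀ ≤ C := inf_le_left
      have hrep : ∀ v ∈ C, ∃ i : Fin 4, (ι (qV i))⁻¹ * v ∈ c.Dsub C j₀ := by
        intro v hv
        obtain ⟨i, hi⟩ := hQ.exists_rep v (hιZ _ v hv) (hιZ _ v hv)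
        exact ⟨i, (c.mem_Dsub C j₀ _).mpr ⟨C.mul_mem (C.inv_mem (hιC _)) hv, hi⟩⟩
      have hcard := hQ.card_split C hιC hrep
      have hDpos : 0 < Nat.card (c.Dsub C j₀) := Nat.card_pos
      obtain ⟨hDcomm, hDcard⟩ := ih (Nat.card (c.Dsub C j₀)) (by omega) (c.Dsub C j₀) rfl
        (c.Dsub_inv C j₀ hinv) (c.z_mem_Dsub C j₀ hz)
      have hDY : ∀ d ∈ c.Dsub C j₀, d ∈ c.Ysub C := by
        intro d hd
        refine (c.mem_Ysub C d).mpr ⟨hDC hd, fun v hv => ?_⟩
        obtain ⟨i, hi⟩ := hrep v hv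
        have hv' : v = ι (qV i) * ((ι (qV i))⁻¹ * v) := (mul_inv_cancel_left _ _).symm
        have hdq : d * ι (qV i) = ι (qV i) * d :=
          (((c.mem_Dsub C j₀ d).mp hd).2 _ (hQ.mem _)).symm
        have hζ := hDcomm d hd _ hi
        have e : ⁅d, ι (qV i) * ((ι (qV i))⁻¹ * v)⁆
            = ι (qV i) * ⁅d, (ι (qV i))⁻¹ * v⁆ * (ι (qV i))⁻¹ := by
          generalize (ι (qV i))⁻¹ * v = d' at *
          generalize ι (qV i) = w at *
          calc ⁅d, w * d'⁆ = (d * w) * d' * d⁻¹ * d'⁻¹ * w⁻¹ := by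
                simp only [commutatorElement_def]; group
            _ = (w * d) * d' * d⁻¹ * d'⁻¹ * w⁻¹ := by rw [hdq]
            _ = w * ⁅d, d'⁆ * w⁻¹ := by simp only [commutatorElement_def]; group
        rw [hv', e, ← c.Zs_comm hζ (ι (qV i)), mul_inv_cancel_right]
        exact hζ
      refine ⟨?_, ?_⟩
      · intro u hu v hv
        obtain ⟨i, hi⟩ := hrep u hu
        have hu' : u = ι (qV i) * ((ι (qV i))⁻¹ * u) := (mul_inv_cancel_left _ _).symm
        have huY : u ∈ c.Ysub C := by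
          rw [hu']
          exact (c.Ysub C).mul_mem (hιY _) (hDY _ hi)
        exact ((c.mem_Ysub C u).mp huY).2 v hv
      · have hfilt : Finset.univ.filter (fun j => ∃ t ∈ C, c.g j t = t ∧ t ≠ 1 ∧ t ≠ c.z)
            = insert j₀ (Finset.univ.filter
              (fun j => ∃ t ∈ c.Dsub C j₀, c.g j t = t ∧ t ≠ 1 ∧ t ≠ c.z)) := by
          ext j
          simp only [Finset.mem_filter, Finset.mem_univ, true_and, Finset.mem_insert]
          constructor
          · rintro ⟨t, ht, htF, h1, h2⟩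
            by_cases hj : j = j₀
            · exact Or.inl hj
            · right
              refine ⟨t, (c.mem_Dsub C j₀ t).mpr ⟨ht, ?_⟩, htF, h1, h2⟩
              exact hQ.comm_lines hj htF (fun q => hιZ q t ht)
          · rintro (rfl | ⟨t, ht, htF, h1, h2⟩)
            · exact ⟨ι (a 1), hιC _, hQ.mem _, hQ.ne.1, hQ.ne.2.1⟩
            · exact ⟨t, hDC ht, htF, h1, h2⟩
        have hnot : j₀ ∉ Finset.univ.filter
            (fun j => ∃ t ∈ c.Dsub C j₀, c.g j t = t ∧ t ≠ 1 ∧ t ≠ c.z) := by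
          simp only [Finset.mem_filter, Finset.mem_univ, true_and]
          rintro ⟨t, ht, htF, h1, h2⟩
          rcases hQ.Dsub_fix C ht htF with h | h
          · exact h1 h
          · exact h2 h
        rw [hfilt, Finset.card_insert_of_notMem hnot, pow_succ, hcard, hDcard]
        ring

open Classical in
/-- the number of quaternion fixed point subgroups -/
noncomputable def kq : ℕ :=
  (Finset.univ.filter (fun j => ∃ t, c.g j t = t ∧ t ≠ 1 ∧ t ≠ c.z)).card

theorem top_facts [Finite W] (hW : IsPGroup 2 W) :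
    (∀ u v : W, ⁅u, v⁆ ∈ c.Zs) ∧ Nat.card W = 2 * 4 ^ c.kq := by
  classical
  obtain ⟨h1, h2⟩ := c.main_ind hW _ ⊤ rfl (fun _ _ _ => trivial) trivial
  refine ⟨fun u v => h1 u trivial v trivial, ?_⟩
  rw [Subgroup.card_top] at h2
  simp only [Subgroup.mem_top, true_and] at h2
  rw [h2, kq]

theorem center_le : Subgroup.center W ≤ c.Zs := by
  have hinv : ∀ j, ∀ x ∈ Subgroup.center W, c.g j x ∈ Subgroup.center W := by
    intro j x hx
    rw [Subgroup.mem_center_iff] at hx ⊢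
    intro w
    have h1 := hx (c.g j (c.g j w))
    have h2 := congrArg (c.g j) h1
    rwa [map_mul, map_mul, c.cube] at h2
  refine (c.gen _ hinv).trans (iSup_le fun j => ?_)
  intro f hf
  obtain ⟨hfc, hfF⟩ := Subgroup.mem_inf.mp hf
  rw [c.mem_Zs]
  rw [Subgroup.mem_center_iff] at hfc
  rcases c.typ j with h1 | ⟨h8, ι, hinj, hz, hall⟩
  · exact h1 f hfF
  · exact IsQ.center (c := c) (j := j) ⟨h8, hinj, hz, hall⟩ hfF (hfc _).symm (hfc _).symm

theorem mem_center_iff' (w : W) : w ∈ Subgroup.center W ↔ w = 1 ∨ w = c.z := by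
  constructor
  · intro h
    exact (c.mem_Zs w).mp (c.center_le h)
  · rintro (rfl | rfl)
    · exact one_mem _
    · rw [Subgroup.mem_center_iff]
      intro g
      exact (c.z_comm g).symm

theorem card_center (c : QCfg W) : Nat.card (Subgroup.center W) = 2 := by
  have h : Subgroup.center W = c.Zs := by
    ext w
    rw [c.mem_center_iff', c.mem_Zs]
  rw [h, c.card_Zs]

theorem two_le_kq (hne : ∀ j, ∃ x, c.g j x ≠ x) : 2 ≤ c.kq := by
  classical
  by_contra hk
  have hk1 : (Finset.univ.filter (fun j => ∃ t, c.g j t = t ∧ t ≠ 1 ∧ t ≠ c.z)).card ≤ 1 := by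
    have : c.kq ≤ 1 := by omega
    simpa [kq] using this
  obtain ⟨j₀, hsub⟩ := Finset.card_le_one_iff_subset_singleton.mp hk1
  have hle : ∀ j, fixSubgroup (c.g j) ≤ fixSubgroup (c.g j₀) := by
    intro j f hf
    by_cases hj : j = j₀
    · rw [← hj]; exact hf
    · have hnot : ¬ ∃ t, c.g j t = t ∧ t ≠ 1 ∧ t ≠ c.z := by
        intro h
        exact hj (Finset.mem_singleton.mp (hsub (Finset.mem_filter.mpr ⟨Finset.mem_univ _, h⟩)))
      have hf' : f = 1 ∨ f = c.z := by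
        by_contra h3
        exact hnot ⟨f, hf, fun h => h3 (Or.inl h), fun h => h3 (Or.inr h)⟩
      rcases hf' with rfl | rfl
      · exact one_mem _
      · exact c.fix_z j₀
  have htop : (⊤ : Subgroup W) ≤ fixSubgroup (c.g j₀) :=
    (c.gen ⊤ (fun _ _ _ => trivial)).trans (iSup_le fun j => inf_le_right.trans (hle j))
  obtain ⟨x, hx⟩ := hne j₀
  exact hx (htop (Subgroup.mem_top x))

theorem kq_le : c.kq ≤ 4 := by
  classical
  rw [kq]
  exact (Finset.card_filter_le _ _).trans (by simp)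

/-- two commuting elements of order four from different quaternion fixed point subgroups -/
theorem exists_pair [Finite W] (hW : IsPGroup 2 W) (hne : ∀ j, ∃ x, c.g j x ≠ x) :
    ∃ (j j' : Fin 4) (t t' : W), c.g j t = t ∧ c.g j' t' = t' ∧ t ≠ 1 ∧ t ≠ c.z ∧
      t' ≠ 1 ∧ t' ≠ c.z ∧ t * t = c.z ∧ t' * t' = c.z ∧ t * t' = t' * t ∧
      Nat.card (fixSubgroup (c.g j)) = 8 ∧ Nat.card (fixSubgroup (c.g j')) = 8 ∧
      (∀ x, c.g j x = x → c.g j' x = x → x = 1 ∨ x = c.z) ∧
      ∃ u v : W, ⁅u, v⁆ ≠ 1 := by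
  classical
  have hk := c.two_le_kq hne
  rw [kq] at hk
  obtain ⟨j, hj, j', hj', hjj⟩ := Finset.one_lt_card.mp (by omega :
    1 < (Finset.univ.filter (fun j => ∃ t, c.g j t = t ∧ t ≠ 1 ∧ t ≠ c.z)).card)
  obtain ⟨t, htF, ht1, htz⟩ := (Finset.mem_filter.mp hj).2
  obtain ⟨t', htF', ht1', htz'⟩ := (Finset.mem_filter.mp hj').2
  rcases c.typ j with h3 | ⟨h8, ι, hinj, hz, hall⟩
  · rcases h3 t htF with h | h
    · exact absurd h ht1
    · exact absurd h htz
  rcases c.typ j' with h3 | ⟨h8', ι', hinj', hz', hall'⟩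
  · rcases h3 t' htF' with h | h
    · exact absurd h ht1'
    · exact absurd h htz'
  have hQ : c.IsQ j ι := ⟨h8, hinj, hz, hall⟩
  have hQ' : c.IsQ j' ι' := ⟨h8', hinj', hz', hall'⟩
  have hcomm := hQ'.comm_lines hjj htF (fun q => (c.top_facts hW).1 _ _) t' htF'
  refine ⟨j, j', t, t', htF, htF', ht1, htz, ht1', htz', hQ.sq htF ht1 htz,
    hQ'.sq htF' ht1' htz', hcomm.symm, h8, h8', c.fix_inf j j' hjj, ι (a 1), ι (xa 0), ?_⟩
  rw [← map_commutatorElement]
  intro h
  exact q8_nc (hinj (h.trans (map_one ι).symm))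

end QCfg

end Cfsg.Agent.Lib.Helper73
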