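import Mathlib
import Cfsg.Agent.S0016
import Cfsg.Agent.Lib.Helper73.FixAct
import Cfsg.Agent.Lib.Helper73.QMain

/-!
# Building the quaternion configuration from a non-cyclic abelian group of automorphisms
-/

set_option autoImplicit false

namespace Cfsg.Agent.Lib.Helper73

open Cfsg.Agent.Lib.Helper48 (fixSubgroup mem_fixSubgroup nilpotent_generation)
open scoped commutatorElement

/-- a non-cyclic `p`-group, `p` odd, has two elements of order `p` spanning different
subgroups -/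
theorem exists_ab {A : Type*} [Group A] [Finite A] {p : ℕ} [Fact p.Prime] (hp : p ≠ 2)
    (hA : IsPGroup p A) (hnc : ¬ IsCyclic A) :
    ∃ a b : A, a ^ p = 1 ∧ b ^ p = 1 ∧ b ≠ 1 ∧ ∀ i : ℕ, a * b ^ i ≠ 1 := by
  have hpp : p.Prime := Fact.out
  have hne : ¬ ∀ H K : Subgroup A, Nat.card H = p → Nat.card K = p → H = K := by
    intro h
    rcases Cfsg.Agent.S0016.result p hA h with hc | ⟨h2, -⟩
    · exact hnc hc
    · exact hp h2
  have hex : ∃ H K : Subgroup A, Nat.card H = p ∧ Nat.card K = p ∧ H ≠ K := by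
    by_contra hcon
    apply hne
    intro H K hH hK
    by_contra hHK
    exact hcon ⟨H, K, hH, hK, hHK⟩
  obtain ⟨H, K, hH, hK, hHK⟩ := hex
  have key : ∀ H : Subgroup A, Nat.card H = p →
      ∃ x : A, orderOf x = p ∧ H = Subgroup.zpowers x := by
    intro H hH
    obtain ⟨x, hx⟩ := exists_prime_orderOf_dvd_card' (G := H) p (by rw [hH])
    have hx' : orderOf (x : A) = p := by rw [Subgroup.orderOf_coe]; exact hx
    refine ⟨x, hx', ?_⟩
    symm
    apply Subgroup.eq_of_le_of_card_ge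
    · rw [Subgroup.zpowers_le]; exact x.2
    · rw [hH, Nat.card_zpowers, hx']
  obtain ⟨a, ha, rfl⟩ := key H hH
  obtain ⟨b, hb, rfl⟩ := key K hK
  refine ⟨a, b, by rw [← ha]; exact pow_orderOf_eq_one a,
    by rw [← hb]; exact pow_orderOf_eq_one b, ?_, ?_⟩
  · rintro rfl
    rw [orderOf_one] at hb
    exact hpp.one_lt.ne hb
  · intro i h
    apply hHK
    apply Subgroup.eq_of_le_of_card_ge
    · rw [Subgroup.zpowers_le]
      have : a = (b ^ i)⁻¹ := eq_inv_of_mul_eq_one_left h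
      rw [this]
      exact Subgroup.inv_mem _ (Subgroup.pow_mem _ (Subgroup.mem_zpowers b) i)
    · rw [Nat.card_zpowers, Nat.card_zpowers, ha, hb]

theorem q8_a2_order : orderOf (QuaternionGroup.a 2 : QuaternionGroup 2) = 2 := by
  have : Fact (Nat.Prime 2) := ⟨Nat.prime_two⟩
  exact orderOf_eq_prime (by decide) (by decide)

/-- the configuration attached to a non-cyclic abelian `p`-group of automorphisms of a
`2`-group all of whose non-trivial elements fix at most one involution -/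
theorem build {W : Type*} [Group W] [Finite W] (hW : IsPGroup 2 W) {p : ℕ} [Fact p.Prime]
    (hp : p ≠ 2) (E : Subgroup (MulAut W)) (hE : IsPGroup p ↥E) (hab : IsMulCommutative ↥E)
    (hnc : ¬ IsCyclic ↥E)
    (hfix : ∀ e ∈ E, e ≠ 1 → ∀ x y : W, orderOf x = 2 → orderOf y = 2 → e x = x → e y = y →
      x = y) :
    p = 3 ∧ ∃ c : QCfg W, (∀ j, c.g j ∈ E) ∧ (∀ j, ∃ x, c.g j x ≠ x) ∧
      (∀ e ∈ E, e c.z = c.z) ∧ (∀ x, (∀ e ∈ E, e x = x) → x = 1 ∨ x = c.z) := by
  have h2 : Fact (Nat.Prime 2) := ⟨Nat.prime_two⟩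
  have hpp : p.Prime := Fact.out
  obtain ⟨α', β', hα', hβ', hβ1', hline'⟩ := exists_ab hp hE hnc
  obtain ⟨α, hαE⟩ := α'
  obtain ⟨β, hβE⟩ := β'
  have hαp : α ^ p = 1 := congrArg Subtype.val hα'
  have hβp : β ^ p = 1 := congrArg Subtype.val hβ'
  have hβ1 : β ≠ 1 := fun h => hβ1' (Subtype.ext h)
  have hline : ∀ i : ℕ, α * β ^ i ≠ 1 := fun i h => hline' i (Subtype.ext h)
  have hcomE : ∀ e ∈ E, ∀ f ∈ E, ∀ x, e (f x) = f (e x) := by
    intro e he f hf x
    have h1 := hab.is_comm.comm (⟨e, he⟩ : E) ⟨f, hf⟩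
    have h3 := congrArg (fun s : E => (s : MulAut W) x) h1
    exact h3
  have hcommab : Commute α β := MulEquiv.ext fun x => hcomE α hαE β hβE x
  -- the lines
  let L : MulAut W → Prop := fun g => g = β ∨ ∃ i : ℕ, g = α * β ^ i
  have hLE : ∀ g, L g → g ∈ E ∧ g ≠ 1 := by
    rintro g (rfl | ⟨i, rfl⟩)
    · exact ⟨hβE, hβ1⟩
    · exact ⟨E.mul_mem hαE (E.pow_mem hβE i), hline i⟩
  have hpowfix : ∀ (i : ℕ) (x : W), β x = x → (β ^ i) x = x := by
    intro i x hx
    induction i with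
    | zero => rfl
    | succ i ih => rw [pow_succ, MulAut.mul_apply, hx, ih]
  have hfixab : ∀ g, L g → ∀ x, α x = x → β x = x → g x = x := by
    rintro g (rfl | ⟨i, rfl⟩) x hxa hxb
    · exact hxb
    · rw [MulAut.mul_apply, hpowfix i x hxb, hxa]
  have hdich : ∀ g, L g → ∀ σ ∈ E, σ ^ p = 1 → (∀ x, g x = x → σ x = x) ∨
      (p = 3 ∧ Nat.card (fixSubgroup g) = 8 ∧ (∀ x, g x = x → σ x = x → x ^ 2 = 1) ∧
        ∃ ι : QuaternionGroup 2 →* W, Function.Injective ι ∧ ∀ f, g f = f ↔ ∃ q, ι q = f) := by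
    intro g hg σ hσ hσp
    obtain ⟨hgE, hg1⟩ := hLE g hg
    exact fix_dichotomy hW hp (fixSubgroup g)
      (fun x hx y hy hox hoy => hfix g hgE hg1 x y hox hoy hx hy) σ hσp
      (fun x => ⟨fun hx => (by
          show g (σ x) = σ x
          rw [hcomE g hgE σ hσ, show g x = x from hx]),
        fun hx => σ.injective (by rw [← hcomE g hgE σ hσ]; exact hx)⟩)
  haveI : Group.IsNilpotent W := hW.isNilpotent
  have hnd : ¬ p ∣ Nat.card W := by
    obtain ⟨m, hm⟩ := IsPGroup.iff_card.mp hW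
    rw [hm]
    intro h
    exact hp ((Nat.prime_dvd_prime_iff_eq hpp Nat.prime_two).mp (hpp.dvd_of_dvd_pow h))
  have hnontriv : ∃ g, L g ∧ ∃ σ, (σ = α ∨ σ = β) ∧ ¬ (∀ x, g x = x → σ x = x) := by
    by_contra hcon
    have hall : ∀ g, L g → ∀ x, g x = x → α x = x := by
      intro g hg x hx
      by_contra h
      exact hcon ⟨g, hg, α, Or.inl rfl, fun hh => h (hh x hx)⟩
    have hgen := nilpotent_generation (p := p) hnd α β hcommab hαp hβp
    have htop : (⊤ : Subgroup W) ≤ fixSubgroup α := by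
      rw [← hgen]
      exact sup_le (fun x hx => hall β (Or.inl rfl) x hx)
        (iSup_le fun i x hx => hall _ (Or.inr ⟨i, rfl⟩) x hx)
    have h1 : α = 1 := by
      ext x
      exact htop (Subgroup.mem_top x)
    exact hline 0 (by rw [pow_zero, mul_one]; exact h1)
  obtain ⟨g₁, hg₁, σ₁, hσ₁, hnt⟩ := hnontriv
  have hσ₁E : σ₁ ∈ E ∧ σ₁ ^ p = 1 := by
    rcases hσ₁ with rfl | rfl
    · exact ⟨hαE, hαp⟩
    · exact ⟨hβE, hβp⟩
  rcases hdich g₁ hg₁ σ₁ hσ₁E.1 hσ₁E.2 with h | ⟨hp3, h8, hsq, ι₁, hinj₁, hall₁⟩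
  · exact absurd h hnt
  subst hp3
  refine ⟨rfl, ?_⟩
  -- the involution
  set z : W := ι₁ (QuaternionGroup.a 2) with hzdef
  have hz2 : z * z = 1 := by
    rw [hzdef, ← map_mul, show (QuaternionGroup.a 2 * QuaternionGroup.a 2 : QuaternionGroup 2) = 1
      from by decide, map_one]
  have hz1 : z ≠ 1 := by
    intro h
    exact q8_a2_ne (hinj₁ (h.trans (map_one ι₁).symm))
  have hzo : orderOf z = 2 := orderOf_eq_prime (by rw [pow_two]; exact hz2) hz1
  have hzg₁ : g₁ z = z := (hall₁ z).mpr ⟨_, rfl⟩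
  have hEz : ∀ e ∈ E, e z = z := by
    intro e he
    obtain ⟨hg₁E, hg₁1⟩ := hLE g₁ hg₁
    have h1 : g₁ (e z) = e z := by rw [hcomE g₁ hg₁E e he, hzg₁]
    have h3 : orderOf (e z) = 2 := by rw [MulEquiv.orderOf_eq]; exact hzo
    exact hfix g₁ hg₁E hg₁1 (e z) z h3 hzo h1 hzg₁
  have huniq : ∀ e ∈ E, e ≠ 1 → ∀ x, e x = x → x * x = 1 → x = 1 ∨ x = z := by
    intro e he he1 x hx hxx
    by_cases h1 : x = 1
    · exact Or.inl h1
    · exact Or.inr (hfix e he he1 x z (orderOf_eq_prime (by rw [pow_two]; exact hxx) h1) hzo hx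
        (hEz e he))
  have hZ : ∀ x, α x = x → β x = x → x = 1 ∨ x = z := by
    intro x hxa hxb
    have h1 : g₁ x = x := hfixab g₁ hg₁ x hxa hxb
    have h3 : σ₁ x = x := by
      rcases hσ₁ with rfl | rfl
      · exact hxa
      · exact hxb
    have h4 := hsq x h1 h3
    exact huniq g₁ (hLE g₁ hg₁).1 (hLE g₁ hg₁).2 x h1 (by rw [← pow_two]; exact h4)
  have hL3 : ∀ g, L g → g ^ 3 = 1 := by
    rintro g (rfl | ⟨i, rfl⟩)
    · exact hβp
    · rw [(hcommab.pow_right i).mul_pow, hαp, ← pow_mul, mul_comm, pow_mul, hβp, one_pow,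
        one_mul]
  -- the four automorphisms
  let g : Fin 4 → MulAut W := fun j => match j with
    | 0 => β
    | 1 => α
    | 2 => α * β
    | 3 => α * β ^ 2
  have hgL : ∀ j, L (g j) := by
    intro j
    fin_cases j
    · exact Or.inl rfl
    · exact Or.inr ⟨0, by rw [pow_zero, mul_one]⟩
    · exact Or.inr ⟨1, by rw [pow_one]⟩
    · exact Or.inr ⟨2, rfl⟩
  have hgE : ∀ j, g j ∈ E := fun j => (hLE _ (hgL j)).1
  have hg1 : ∀ j, g j ≠ 1 := fun j => (hLE _ (hgL j)).2
  have hcube : ∀ j x, g j (g j (g j x)) = x := by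
    intro j x
    have h1 : g j (g j (g j x)) = (g j ^ 3) x := rfl
    rw [h1, hL3 _ (hgL j)]; rfl
  have hβ3 : ∀ x, β (β (β x)) = x := hcube 0
  have h01 : ∀ x, g 0 x = x → g 1 x = x → α x = x ∧ β x = x := fun x h0 h1 => ⟨h1, h0⟩
  have h02 : ∀ x, g 0 x = x → g 2 x = x → α x = x ∧ β x = x := by
    intro x h0 h1
    have h0' : β x = x := h0
    have h1' : α (β x) = x := h1
    rw [h0'] at h1'
    exact ⟨h1', h0'⟩
  have h03 : ∀ x, g 0 x = x → g 3 x = x → α x = x ∧ β x = x := by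
    intro x h0 h1
    have h0' : β x = x := h0
    have h1' : α (β (β x)) = x := h1
    rw [h0', h0'] at h1'
    exact ⟨h1', h0'⟩
  have h12 : ∀ x, g 1 x = x → g 2 x = x → α x = x ∧ β x = x := by
    intro x h0 h1
    have h0' : α x = x := h0
    have h1' : α (β x) = x := h1
    refine ⟨h0', α.injective (h1'.trans h0'.symm)⟩
  have h13 : ∀ x, g 1 x = x → g 3 x = x → α x = x ∧ β x = x := by
    intro x h0 h1
    have h0' : α x = x := h0
    have h1' : α (β (β x)) = x := h1
    have h3 : β (β x) = x := α.injective (h1'.trans h0'.symm)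
    have h4 := hβ3 x
    rw [h3] at h4
    exact ⟨h0', h4⟩
  have h23 : ∀ x, g 2 x = x → g 3 x = x → α x = x ∧ β x = x := by
    intro x h0 h1
    have h0' : α (β x) = x := h0
    have h1' : α (β (β x)) = x := h1
    have h3 : β (β x) = β x := α.injective (h1'.trans h0'.symm)
    have h4 : β x = x := β.injective h3
    rw [h4] at h0'
    exact ⟨h0', h4⟩
  have hfixinf : ∀ i j, i ≠ j → ∀ x, g i x = x → g j x = x → x = 1 ∨ x = z := by
    intro i j hij x hi hj
    have key : α x = x ∧ β x = x := by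
      fin_cases i <;> fin_cases j
      · exact absurd rfl hij
      · exact h01 x hi hj
      · exact h02 x hi hj
      · exact h03 x hi hj
      · exact h01 x hj hi
      · exact absurd rfl hij
      · exact h12 x hi hj
      · exact h13 x hi hj
      · exact h02 x hj hi
      · exact h12 x hj hi
      · exact absurd rfl hij
      · exact h23 x hi hj
      · exact h03 x hj hi
      · exact h13 x hj hi
      · exact h23 x hj hi
      · exact absurd rfl hij
    exact hZ x key.1 key.2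
  have hgen : ∀ C : Subgroup W, (∀ j, ∀ x ∈ C, g j x ∈ C) →
      C ≤ ⨆ j, C ⊓ fixSubgroup (g j) := by
    intro C hC
    refine (gen_invariant hW α β hcommab hαp hβp C (hC 1) (hC 0)).trans ?_
    refine sup_le (sup_le (sup_le ?_ ?_) ?_) ?_
    · exact le_iSup (fun j => C ⊓ fixSubgroup (g j)) 0
    · exact le_iSup (fun j => C ⊓ fixSubgroup (g j)) 1
    · exact le_iSup (fun j => C ⊓ fixSubgroup (g j)) 2
    · exact le_iSup (fun j => C ⊓ fixSubgroup (g j)) 3
  have hιz : ∀ j (ι : QuaternionGroup 2 →* W), Function.Injective ι →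
      (∀ f, g j f = f ↔ ∃ q, ι q = f) → ι (QuaternionGroup.a 2) = z := by
    intro j ι hinj hall
    have h1 : g j (ι (QuaternionGroup.a 2)) = ι (QuaternionGroup.a 2) := (hall _).mpr ⟨_, rfl⟩
    have h3 : orderOf (ι (QuaternionGroup.a 2)) = 2 := by
      rw [orderOf_injective ι hinj, q8_a2_order]
    exact hfix (g j) (hgE j) (hg1 j) _ z h3 hzo h1 (hEz _ (hgE j))
  have htyp : ∀ j, (∀ x, g j x = x → x = 1 ∨ x = z) ∨
      (Nat.card (fixSubgroup (g j)) = 8 ∧ ∃ ι : QuaternionGroup 2 →* W,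
        Function.Injective ι ∧ ι (QuaternionGroup.a 2) = z ∧ ∀ f, g j f = f ↔ ∃ q, ι q = f) := by
    intro j
    rcases hdich (g j) (hgL j) α hαE hαp with h1 | ⟨-, h8, -, ι, hinj, hall⟩
    · rcases hdich (g j) (hgL j) β hβE hβp with h3 | ⟨-, h8, -, ι, hinj, hall⟩
      · left
        intro x hx
        exact hZ x (h1 x hx) (h3 x hx)
      · right
        exact ⟨h8, ι, hinj, hιz j ι hinj hall, hall⟩
    · right
      exact ⟨h8, ι, hinj, hιz j ι hinj hall, hall⟩
  refine ⟨⟨g, z, hz1, hz2, fun i j x => hcomE _ (hgE i) _ (hgE j) x, hcube,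
    fun j => hEz _ (hgE j), hfixinf, hgen, htyp⟩, hgE, ?_, hEz, ?_⟩
  · intro j
    by_contra hcon
    apply hg1 j
    ext x
    by_contra hx
    exact hcon ⟨x, hx⟩
  · intro x hx
    exact hZ x (hx α hαE) (hx β hβE)

/-- orbits of a `3`-group of automorphisms on the non-central elements of an invariant
subgroup of order eight have at most three elements -/
theorem orbit_le_three {W : Type*} [Group W] [Finite W] (E : Subgroup (MulAut W))
    (hE : IsPGroup 3 ↥E) (F : Subgroup W) (hF : Nat.card F = 8) (z s : W) (hz : z ≠ 1)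
    (hzF : z ∈ F) (hinv : ∀ e ∈ E, ∀ x ∈ F, e x ∈ F) (hEz : ∀ e ∈ E, e z = z) (hs : s ∈ F)
    (hs1 : s ≠ 1) (hsz : s ≠ z) : Nat.card (MulAction.orbit ↥E s) ≤ 3 := by
  have h3 : Fact (Nat.Prime 3) := ⟨Nat.prime_three⟩
  obtain ⟨n, hn⟩ := hE.card_orbit s
  have hsub : MulAction.orbit ↥E s ⊆ (F : Set W) \ {1, z} := by
    rintro _ ⟨e, rfl⟩
    show (e : MulAut W) s ∈ (F : Set W) \ {1, z}
    refine ⟨hinv _ e.2 s hs, ?_⟩
    intro h
    rcases h with h | h
    · exact hs1 ((e : MulAut W).injective (h.trans (map_one _).symm))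
    · rw [Set.mem_singleton_iff] at h
      exact hsz ((e : MulAut W).injective (h.trans (hEz _ e.2).symm))
  have h6 : (MulAction.orbit ↥E s).ncard ≤ 6 := by
    have hpair : ({1, z} : Set W) ⊆ (F : Set W) := by
      rintro x (rfl | hx)
      · exact F.one_mem
      · rw [Set.mem_singleton_iff] at hx; rw [hx]; exact hzF
    calc (MulAction.orbit ↥E s).ncard ≤ ((F : Set W) \ {1, z}).ncard :=
          Set.ncard_le_ncard hsub (Set.toFinite _)
      _ = (F : Set W).ncard - ({1, z} : Set W).ncard := Set.ncard_sdiff hpair (Set.toFinite _)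
      _ = 6 := by
        rw [Set.ncard_pair hz.symm]
        have : (F : Set W).ncard = 8 := hF
        rw [this]
  rw [Nat.card_coe_set_eq] at hn ⊢
  rw [hn] at h6 ⊢
  have hn1 : n ≤ 1 := by
    by_contra hcon
    have : 3 ^ 2 ≤ 3 ^ n := Nat.pow_le_pow_right (by norm_num) (by omega)
    omega
  interval_cases n <;> norm_num

end Cfsg.Agent.Lib.Helper73
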