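import Mathlib
import Cfsg.Agent.Lib.Helper73.D8S5
import Cfsg.Agent.S0215
import Cfsg.Agent.S0494

/-!
# Groups with an involution whose centralizer is a four-group
-/

set_option autoImplicit false

namespace Cfsg.Agent.Lib.Helper73

/-- two non-conjugate involutions commute with a common involution -/
theorem invol_pair_central {G : Type*} [Group G] [Finite G] (x t : G) (hx : x * x = 1)
    (ht : t * t = 1) (hne : ¬ IsConj x t) :
    ∃ w : G, w ≠ 1 ∧ w * w = 1 ∧ w * x = x * w ∧ w * t = t * w := by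
  have hxinv : x⁻¹ = x := inv_eq_of_mul_eq_one_left hx
  have htinv : t⁻¹ = t := inv_eq_of_mul_eq_one_left ht
  obtain ⟨r, hr⟩ : ∃ r : G, r = x * t := ⟨_, rfl⟩
  have hrinv : r⁻¹ = t * x := by rw [hr, mul_inv_rev, hxinv, htinv]
  have hxr : ∀ n : ℕ, x * r ^ n * x⁻¹ = (r ^ n)⁻¹ := by
    intro n
    have h1 : MulAut.conj x r = r⁻¹ := by
      rw [MulAut.conj_apply, hrinv, hr, hxinv]
      calc x * (x * t) * x = (x * x) * t * x := by group
        _ = t * x := by rw [hx, one_mul]
    have h2 := map_pow (MulAut.conj x) r n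
    rw [h1, MulAut.conj_apply, inv_pow] at h2
    exact h2
  have htr : ∀ n : ℕ, t * r ^ n * t⁻¹ = (r ^ n)⁻¹ := by
    intro n
    have h1 : MulAut.conj t r = r⁻¹ := by
      rw [MulAut.conj_apply, hrinv, hr, htinv]
      calc t * (x * t) * t = t * x * (t * t) := by group
        _ = t * x := by rw [ht, mul_one]
    have h2 := map_pow (MulAut.conj t) r n
    rw [h1, MulAut.conj_apply, inv_pow] at h2
    exact h2
  have hpos : 0 < orderOf r := orderOf_pos r
  rcases Nat.even_or_odd' (orderOf r) with ⟨n, hn | hn⟩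
  · -- even order: the central involution
    have hn0 : n ≠ 0 := by omega
    have hw1 : r ^ n ≠ 1 := pow_ne_one_of_lt_orderOf hn0 (by omega)
    have hw2 : r ^ n * r ^ n = 1 := by
      rw [← pow_add, ← two_mul, ← hn, pow_orderOf_eq_one]
    have hwinv : (r ^ n)⁻¹ = r ^ n := inv_eq_of_mul_eq_one_left hw2
    refine ⟨r ^ n, hw1, hw2, ?_, ?_⟩
    · have := hxr n
      rw [hwinv, mul_inv_eq_iff_eq_mul] at this
      exact this.symm
    · have := htr n
      rw [hwinv, mul_inv_eq_iff_eq_mul] at this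
      exact this.symm
  · -- odd order: the two involutions are conjugate
    exfalso
    apply hne
    refine isConj_iff.mpr ⟨r ^ n, ?_⟩
    have h1 : (r ^ n)⁻¹ = x * r ^ n * x⁻¹ := (hxr n).symm
    have h2 : r ^ n * r ^ n = r⁻¹ := by
      have h3 : r ^ n * r ^ n * r = 1 := by
        rw [← pow_add, ← pow_succ, ← two_mul, ← hn, pow_orderOf_eq_one]
      exact eq_inv_of_mul_eq_one_left h3
    calc r ^ n * x * (r ^ n)⁻¹ = r ^ n * x * (x * r ^ n * x⁻¹) := by rw [h1]
      _ = r ^ n * (x * x) * r ^ n * x⁻¹ := by group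
      _ = r ^ n * r ^ n * x := by rw [hx, mul_one, hxinv]
      _ = t := by rw [h2, hrinv, mul_assoc, hx, mul_one]

/-- the `Z*`-theorem for an involution commuting with none of its other conjugates -/
theorem zstar_commute {G : Type*} [Group G] [Finite G] (t : G) (ht : orderOf t = 2)
    (hiso : ∀ g : G, Commute t (g * t * g⁻¹) → g * t * g⁻¹ = t) :
    ∃ N : Subgroup G, N.Normal ∧ Odd (Nat.card N) ∧ ∀ g : G, t * g * t⁻¹ * g⁻¹ ∈ N :=
  Cfsg.Agent.Lib.Helper53.zstar_of_BS
    (fun H _ _ S t ht htS huniq =>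
      Cfsg.Agent.Lib.Helper3.bs_unique_involution_of_q8
        (fun S e => Cfsg.Agent.Lib.Helper73.q8_exists_proper_normal S e) S t ht htS huniq)
    t ht hiso

/-- the factorization coming from the `Z*`-theorem -/
theorem zstar_factor {G : Type*} [Group G] [Finite G] (t : G) (ht2 : t * t = 1)
    (N : Subgroup G) (hNodd : Odd (Nat.card N)) (hNc : ∀ g : G, t * g * t⁻¹ * g⁻¹ ∈ N)
    (g : G) : ∃ v ∈ N, (v * g) * t = t * (v * g) := by
  have htinv : t⁻¹ = t := inv_eq_of_mul_eq_one_left ht2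
  obtain ⟨u, hu⟩ : ∃ u : G, u = g * t * g⁻¹ := ⟨_, rfl⟩
  have hu2 : u * u = 1 := by
    rw [hu]
    calc g * t * g⁻¹ * (g * t * g⁻¹) = g * (t * t) * g⁻¹ := by group
      _ = 1 := by rw [ht2]; group
  obtain ⟨w, hw⟩ : ∃ w : G, w = t * u := ⟨_, rfl⟩
  have hwN : w ∈ N := by
    have := hNc g
    rw [htinv] at this
    rw [hw, hu]
    convert this using 1
    group
  have hwodd : Odd (orderOf w) := hNodd.of_dvd_nat (Subgroup.orderOf_dvd_natCard N hwN)
  obtain ⟨k, hk⟩ := hwodd
  have htw : t * w * t = w⁻¹ := by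
    rw [hw]
    have : (t * u)⁻¹ = u * t := by
      rw [mul_inv_rev]
      rw [inv_eq_of_mul_eq_one_left hu2, htinv]
    rw [this]
    calc t * (t * u) * t = (t * t) * u * t := by group
      _ = u * t := by rw [ht2, one_mul]
  obtain ⟨v, hv⟩ : ∃ v : G, v = w ^ (k + 1) := ⟨_, rfl⟩
  have hvN : v ∈ N := by rw [hv]; exact N.pow_mem hwN _
  have hvv : v * v = w := by
    rw [hv, ← pow_add]
    have : k + 1 + (k + 1) = orderOf w + 1 := by omega
    rw [this, pow_succ, pow_orderOf_eq_one, one_mul]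
  have htv : t * v * t = v⁻¹ := by
    rw [hv, ← inv_pow, ← htw]
    have : ∀ n : ℕ, t * w ^ n * t = (t * w * t) ^ n := by
      intro n
      induction n with
      | zero => simp [ht2]
      | succ n ih =>
        rw [pow_succ, pow_succ, ← ih]
        calc t * (w ^ n * w) * t = t * w ^ n * (1 * w) * t := by group
          _ = t * w ^ n * (t * t * w) * t := by rw [ht2]
          _ = t * w ^ n * t * (t * w * t) := by group
    exact this _
  have hvt : v⁻¹ * t * v = u := by
    have h1 : v⁻¹ * t = t * v := by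
      rw [← htv]
      calc t * v * t * t = t * v * (t * t) := by group
        _ = t * v := by rw [ht2, mul_one]
    rw [h1, mul_assoc, hvv, hw, ← mul_assoc, ht2, one_mul]
  refine ⟨v, hvN, ?_⟩
  have h2 : v * g * t * (v * g)⁻¹ = t := by
    calc v * g * t * (v * g)⁻¹ = v * (g * t * g⁻¹) * v⁻¹ := by group
      _ = v * (v⁻¹ * t * v) * v⁻¹ := by rw [← hu, hvt]
      _ = t := by group
  calc v * g * t = v * g * t * (v * g)⁻¹ * (v * g) := by group
    _ = t * (v * g) := by rw [h2]

/-- the configuration: `x` is an involution with centralizer `{1, x, a, x * a}` -/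
structure V4Ctx {G : Type*} [Group G] (x a : G) : Prop where
  hx : orderOf x = 2
  ha : orderOf a = 2
  hax : a * x = x * a
  hne : a ≠ x
  cent : ∀ c : G, c * x = x * c → c = 1 ∨ c = x ∨ c = a ∨ c = x * a

section Ctx

variable {G : Type*} [Group G] [Finite G] {x a : G}

theorem V4Ctx.x_sq (c : V4Ctx x a) : x * x = 1 := by
  rw [← pow_two, ← c.hx, pow_orderOf_eq_one]

theorem V4Ctx.a_sq (c : V4Ctx x a) : a * a = 1 := by
  rw [← pow_two, ← c.ha, pow_orderOf_eq_one]

theorem V4Ctx.x_ne_one (c : V4Ctx x a) : x ≠ 1 := by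
  intro h
  have := c.hx
  rw [h, orderOf_one] at this
  omega

theorem V4Ctx.a_ne_one (c : V4Ctx x a) : a ≠ 1 := by
  intro h
  have := c.ha
  rw [h, orderOf_one] at this
  omega

theorem V4Ctx.xa_sq (c : V4Ctx x a) : (x * a) * (x * a) = 1 := by
  calc x * a * (x * a) = x * (a * x) * a := by group
    _ = x * (x * a) * a := by rw [c.hax]
    _ = (x * x) * (a * a) := by group
    _ = 1 := by rw [c.x_sq, c.a_sq, one_mul]

theorem V4Ctx.xa_ne_one (c : V4Ctx x a) : x * a ≠ 1 := by
  intro h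
  apply c.hne
  have h1 : a = x⁻¹ := (eq_inv_of_mul_eq_one_right h)
  rw [h1, inv_eq_of_mul_eq_one_left c.x_sq]

theorem V4Ctx.xa_order (c : V4Ctx x a) : orderOf (x * a) = 2 :=
  orderOf_eq_prime (by rw [pow_two]; exact c.xa_sq) c.xa_ne_one

/-- the configuration with the other two involutions swapped -/
theorem V4Ctx.swap (c : V4Ctx x a) : V4Ctx x (x * a) where
  hx := c.hx
  ha := c.xa_order
  hax := by rw [mul_assoc, c.hax]
  hne := by
    intro h
    exact c.a_ne_one (mul_eq_left.mp h)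
  cent := by
    intro d hd
    have h1 : x * (x * a) = a := by rw [← mul_assoc, c.x_sq, one_mul]
    rw [h1]
    rcases c.cent d hd with h | h | h | h
    · exact Or.inl h
    · exact Or.inr (Or.inl h)
    · exact Or.inr (Or.inr (Or.inr h))
    · exact Or.inr (Or.inr (Or.inl h))

/-- centralizers of conjugates of `x` have exponent two -/
theorem V4Ctx.cent_conj (c : V4Ctx x a) (u : G) (hu : IsConj x u) (d : G)
    (hd : d * u = u * d) : d * d = 1 := by
  obtain ⟨g, hg⟩ := isConj_iff.mp hu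
  have hct : g⁻¹ * d * g * x = x * (g⁻¹ * d * g) := by
    have h1 : x = g⁻¹ * u * g := by rw [← hg]; group
    rw [h1]
    calc g⁻¹ * d * g * (g⁻¹ * u * g) = g⁻¹ * (d * u) * g := by group
      _ = g⁻¹ * (u * d) * g := by rw [hd]
      _ = g⁻¹ * u * g * (g⁻¹ * d * g) := by group
  have h2 : (g⁻¹ * d * g) * (g⁻¹ * d * g) = 1 := by
    rcases c.cent _ hct with h | h | h | h <;> rw [h]
    · rw [one_mul]
    · exact c.x_sq
    · exact c.a_sq
    · exact c.xa_sq
  calc d * d = g * ((g⁻¹ * d * g) * (g⁻¹ * d * g)) * g⁻¹ := by group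
    _ = 1 := by rw [h2]; group

/-- the isolated case: a normal `2`-complement -/
theorem V4Ctx.caseC (c : V4Ctx x a) (h1 : ¬ IsConj x a) (h2 : ¬ IsConj x (x * a)) :
    Cfsg.HasNormalPComplement 2 G := by
  haveI : Fact (Nat.Prime 2) := ⟨Nat.prime_two⟩
  have hiso : ∀ g : G, Commute x (g * x * g⁻¹) → g * x * g⁻¹ = x := by
    intro g hg
    rcases c.cent _ hg.eq.symm with h | h | h | h
    · exfalso
      apply c.x_ne_one
      calc x = g⁻¹ * (g * x * g⁻¹) * g := by group
        _ = 1 := by rw [h]; group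
    · exact h
    · exact absurd (isConj_iff.mpr ⟨g, h⟩) h1
    · exact absurd (isConj_iff.mpr ⟨g, h⟩) h2
  obtain ⟨N, hN, hNodd, hNc⟩ := zstar_commute x c.hx hiso
  have hV : IsPGroup 2 (Subgroup.centralizer ({x} : Set G)) := by
    intro d
    refine ⟨1, ?_⟩
    have hd := Subgroup.mem_centralizer_singleton_iff.mp d.2
    apply Subtype.ext
    rw [pow_one, pow_two]
    show (d : G) * (d : G) = 1
    exact c.cent_conj x (IsConj.refl x) _ hd
  obtain ⟨P, hP⟩ := hV.exists_le_sylow
  refine ⟨P, N, hN, Subgroup.isComplement'_of_disjoint_and_mul_eq_univ ?_ ?_⟩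
  · apply Subgroup.disjoint_of_coprime_natCard
    obtain ⟨k, hk⟩ := IsPGroup.iff_card.mp P.isPGroup'
    rw [hk]
    exact Nat.Coprime.pow_right k (Nat.coprime_two_right.mpr hNodd)
  · rw [Set.eq_univ_iff_forall]
    intro g
    obtain ⟨v, hvN, hv⟩ := zstar_factor x c.x_sq N hNodd hNc g
    refine ⟨v⁻¹, N.inv_mem hvN, v * g, ?_, by group⟩
    apply hP
    rw [Subgroup.mem_centralizer_singleton_iff]
    exact hv

end Ctx

end Cfsg.Agent.Lib.Helper73
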