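import Mathlib
import Cfsg.Agent.Lib.Helper73.V4Main

/-!
# Groups with an involution whose centralizer is a four-group: the case of two classes
-/

set_option autoImplicit false

namespace Cfsg.Agent.Lib.Helper73

section Ctx

variable {G : Type*} [Group G] [Finite G] {x a : G}

/-- if `x` is conjugate to `a` but not to `z = x * a`, then `z` commutes with its conjugates -/
theorem V4Ctx.z_commute (c : V4Ctx x a) (h1 : IsConj x a) (h2 : ¬ IsConj x (x * a))
    (t : G) (ht : IsConj (x * a) t) : t * (x * a) = (x * a) * t := by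
  have hzx : (x * a) * x = x * (x * a) := by rw [mul_assoc, c.hax]
  have hza : (x * a) * a = a * (x * a) := by rw [← mul_assoc, c.hax]
  -- conjugates of `z` commuting with `x`
  have P1 : ∀ s : G, IsConj (x * a) s → s * x = x * s → s = x * a := by
    intro s hs hsx
    rcases c.cent s hsx with h | h | h | h
    · exfalso
      rw [h] at hs
      exact c.xa_ne_one (isConj_one_right.mp hs.symm)
    · exfalso
      rw [h] at hs
      exact h2 hs.symm
    · exfalso
      rw [h] at hs
      exact h2 (h1.trans hs.symm)
    · exact h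
  -- conjugates of `z` commuting with `a`
  have P2 : ∀ s : G, IsConj (x * a) s → s * a = a * s → s = x * a := by
    intro s hs hsa
    obtain ⟨h, hh⟩ := isConj_iff.mp h1
    have key : ∀ s : G, IsConj (x * a) s → s * a = a * s → h⁻¹ * s * h = x * a := by
      intro s hs hsa
      apply P1
      · refine hs.trans (isConj_iff.mpr ⟨h⁻¹, ?_⟩)
        rw [inv_inv]
      · have hx' : x = h⁻¹ * a * h := by rw [← hh]; group
        calc h⁻¹ * s * h * x = h⁻¹ * s * h * (h⁻¹ * a * h) := by rw [← hx']
          _ = h⁻¹ * (s * a) * h := by group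
          _ = h⁻¹ * (a * s) * h := by rw [hsa]
          _ = h⁻¹ * a * h * (h⁻¹ * s * h) := by group
          _ = x * (h⁻¹ * s * h) := by rw [← hx']
    have e1 := key s hs hsa
    have e2 := key (x * a) (IsConj.refl _) hza
    calc s = h * (h⁻¹ * s * h) * h⁻¹ := by group
      _ = h * (h⁻¹ * (x * a) * h) * h⁻¹ := by rw [e1, e2]
      _ = x * a := by group
  have ht2 : t * t = 1 := by
    obtain ⟨g, hg⟩ := isConj_iff.mp ht
    rw [← hg]
    calc g * (x * a) * g⁻¹ * (g * (x * a) * g⁻¹) = g * ((x * a) * (x * a)) * g⁻¹ := by group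
      _ = 1 := by rw [c.xa_sq]; group
  have hxt : ¬ IsConj x t := fun h => h2 (h.trans ht.symm)
  obtain ⟨w, hw1, -, hwx, hwt⟩ := invol_pair_central x t c.x_sq ht2 hxt
  rcases c.cent w hwx with h | h | h | h
  · exact absurd h hw1
  · rw [h] at hwt
    rw [P1 t ht hwt.symm]
  · rw [h] at hwt
    rw [P2 t ht hwt.symm]
  · rw [h] at hwt
    exact hwt.symm

/-- if `x` is conjugate to `a` but not to `x * a`, then there is a normal elementary abelian
subgroup of order two or four -/
theorem V4Ctx.caseB (c : V4Ctx x a) (h1 : IsConj x a) (h2 : ¬ IsConj x (x * a)) :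
    ∃ E : Subgroup G, E.Normal ∧ Cfsg.IsElementaryAbelian 2 E ∧
      (Nat.card E = 2 ∨ Nat.card E = 4) := by
  haveI : Fact (Nat.Prime 2) := ⟨Nat.prime_two⟩
  obtain ⟨z, hz⟩ : ∃ z : G, z = x * a := ⟨_, rfl⟩
  have hzc : ∀ t : G, IsConj z t → t * z = z * t := by
    rw [hz]; exact c.z_commute h1 h2
  have hz2 : z * z = 1 := by rw [hz]; exact c.xa_sq
  have hz1 : z ≠ 1 := by rw [hz]; exact c.xa_ne_one
  have hzx : z * x = x * z := by rw [hz, mul_assoc, c.hax]
  have hxinv : x⁻¹ = x := inv_eq_of_mul_eq_one_left c.x_sq
  obtain ⟨E, hE⟩ : ∃ E : Subgroup G, E = Subgroup.normalClosure ({z} : Set G) := ⟨_, rfl⟩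
  have hEn : E.Normal := by rw [hE]; exact Subgroup.normalClosure_normal
  have hzE : z ∈ E := by rw [hE]; exact Subgroup.subset_normalClosure (Set.mem_singleton z)
  -- the generators commute pairwise
  have hgen : ∀ s ∈ Group.conjugatesOfSet ({z} : Set G),
      ∀ t ∈ Group.conjugatesOfSet ({z} : Set G), s * t = t * s := by
    intro s hs t ht
    rw [Group.mem_conjugatesOfSet_iff] at hs ht
    obtain ⟨z', hz', hs⟩ := hs
    obtain ⟨z'', hz'', ht⟩ := ht
    rw [Set.mem_singleton_iff] at hz' hz''
    rw [hz'] at hs
    rw [hz''] at ht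
    obtain ⟨g, hg⟩ := isConj_iff.mp hs
    have h3 : IsConj z (g⁻¹ * t * g) := by
      refine ht.trans (isConj_iff.mpr ⟨g⁻¹, ?_⟩)
      rw [inv_inv]
    have h4 := hzc _ h3
    rw [← hg]
    calc g * z * g⁻¹ * t = g * (z * (g⁻¹ * t * g)) * g⁻¹ := by group
      _ = g * ((g⁻¹ * t * g) * z) * g⁻¹ := by rw [h4]
      _ = t * (g * z * g⁻¹) := by group
  have hEcomm : IsMulCommutative E := by
    rw [hE]
    exact Subgroup.isMulCommutative_closure hgen
  have hcomm : ∀ e₁ ∈ E, ∀ e₂ ∈ E, e₁ * e₂ = e₂ * e₁ := by
    intro e₁ h₁ e₂ h₂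
    have := hEcomm.is_comm.comm (⟨e₁, h₁⟩ : E) ⟨e₂, h₂⟩
    exact congrArg Subtype.val this
  have hexp : ∀ e ∈ E, e * e = 1 := by
    intro e he
    have he' := he
    rw [hE] at he'
    have hcl : ∀ y ∈ Subgroup.closure (Group.conjugatesOfSet ({z} : Set G)), y ∈ E := by
      intro y hy; rw [hE]; exact hy
    refine Subgroup.closure_induction (p := fun y _ => y * y = 1) ?_ ?_ ?_ ?_ he'
    · intro s hs
      rw [Group.mem_conjugatesOfSet_iff] at hs
      obtain ⟨z', hz', hs⟩ := hs
      rw [Set.mem_singleton_iff] at hz'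
      rw [hz'] at hs
      obtain ⟨g, hg⟩ := isConj_iff.mp hs
      rw [← hg]
      calc g * z * g⁻¹ * (g * z * g⁻¹) = g * (z * z) * g⁻¹ := by group
        _ = 1 := by rw [hz2]; group
    · exact one_mul 1
    · intro y₁ y₂ hy₁ hy₂ ih₁ ih₂
      calc y₁ * y₂ * (y₁ * y₂) = y₁ * (y₂ * y₁) * y₂ := by group
        _ = y₁ * (y₁ * y₂) * y₂ := by rw [hcomm y₂ (hcl y₂ hy₂) y₁ (hcl y₁ hy₁)]
        _ = (y₁ * y₁) * (y₂ * y₂) := by group
        _ = 1 := by rw [ih₁, ih₂, one_mul]
    · intro y hy ih
      have : y⁻¹ = y := inv_eq_of_mul_eq_one_left ih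
      rw [this, ih]
  have hel : Cfsg.IsElementaryAbelian 2 E :=
    ⟨hEcomm, fun e he => by rw [pow_two]; exact hexp e he⟩
  -- the order of `E` is at most four
  have hsub : ∃ p q r s : G, ∀ e ∈ E, e = p ∨ e = q ∨ e = r ∨ e = s := by
    by_cases hxE : x ∈ E
    · refine ⟨1, x, a, x * a, fun e he => ?_⟩
      exact c.cent e (hcomm e he x hxE)
    · have haE : a ∉ E := by
        intro haE
        apply hxE
        have : x = z * a := by
          rw [hz, mul_assoc, c.a_sq, mul_one]
        rw [this]
        exact E.mul_mem hzE haE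
      have hzE' : x * a ∈ E := by rw [← hz]; exact hzE
      -- fixed points of `x` on `E`
      have hfix : ∀ e ∈ E, e * x = x * e → e = 1 ∨ e = z := by
        intro e he hex
        rcases c.cent e hex with h | h | h | h
        · exact Or.inl h
        · exact absurd (h ▸ he) hxE
        · exact absurd (h ▸ he) haE
        · exact Or.inr (h.trans hz.symm)
      have hmv : ∀ e ∈ E, x * e * x = e ∨ x * e * x = e * z := by
        intro e he
        have hf : x * e * x ∈ E := by
          have := hEn.conj_mem e he x
          rwa [hxinv] at this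
        have hprod : (e * (x * e * x)) * x = x * (e * (x * e * x)) := by
          calc e * (x * e * x) * x = e * x * e * (x * x) := by group
            _ = e * x * e := by rw [c.x_sq, mul_one]
            _ = (x * x) * e * x * e := by rw [c.x_sq, one_mul]
            _ = x * ((x * e * x) * e) := by group
            _ = x * (e * (x * e * x)) := by rw [hcomm _ hf e he]
        rcases hfix _ (E.mul_mem he hf) hprod with h | h
        · left
          have : x * e * x = e⁻¹ := eq_inv_of_mul_eq_one_right h
          rw [this, inv_eq_of_mul_eq_one_left (hexp e he)]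
        · right
          have : x * e * x = e⁻¹ * z := by rw [← h]; group
          rw [this, inv_eq_of_mul_eq_one_left (hexp e he)]
      have hfix' : ∀ e ∈ E, x * e * x = e → e = 1 ∨ e = z := by
        intro e he h
        apply hfix e he
        calc e * x = (x * x) * e * x := by rw [c.x_sq, one_mul]
          _ = x * (x * e * x) := by group
          _ = x * e := by rw [h]
      by_cases hall : ∀ e ∈ E, x * e * x = e
      · exact ⟨1, z, 1, z, fun e he => by
          rcases hfix' e he (hall e he) with h | h
          · exact Or.inl h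
          · exact Or.inr (Or.inl h)⟩
      · push Not at hall
        obtain ⟨e₀, he₀, hne₀⟩ := hall
        have hmv₀ : x * e₀ * x = e₀ * z := by
          rcases hmv e₀ he₀ with h | h
          · exact absurd h hne₀
          · exact h
        refine ⟨1, z, e₀, z * e₀, fun e he => ?_⟩
        rcases hmv e he with h | h
        · rcases hfix' e he h with h' | h'
          · exact Or.inl h'
          · exact Or.inr (Or.inl h')
        · have hprod : x * (e * e₀) * x = e * e₀ := by
            calc x * (e * e₀) * x = x * e * (1 * e₀) * x := by group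
              _ = x * e * ((x * x) * e₀) * x := by rw [c.x_sq]
              _ = (x * e * x) * (x * e₀ * x) := by group
              _ = (e * z) * (e₀ * z) := by rw [h, hmv₀]
              _ = e * (z * e₀) * z := by group
              _ = e * (e₀ * z) * z := by rw [hcomm z hzE e₀ he₀]
              _ = e * e₀ * (z * z) := by group
              _ = e * e₀ := by rw [hz2, mul_one]
          have he₀inv : e₀⁻¹ = e₀ := inv_eq_of_mul_eq_one_left (hexp e₀ he₀)
          rcases hfix' _ (E.mul_mem he he₀) hprod with h' | h'
          · right; right; left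
            have : e = e₀⁻¹ := eq_inv_of_mul_eq_one_left h'
            rw [this, he₀inv]
          · right; right; right
            have : e = z * e₀⁻¹ := by rw [← h']; group
            rw [this, he₀inv]
  have hle : Nat.card E ≤ 4 := by
    classical
    obtain ⟨p, q, r, s, hpqrs⟩ := hsub
    have h1 : (E : Set G) ⊆ ((({p, q, r, s} : Finset G)) : Set G) := by
      intro e he
      have := hpqrs e he
      simp only [Finset.coe_insert, Finset.coe_singleton, Set.mem_insert_iff,
        Set.mem_singleton_iff]
      exact this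
    have h2 := Set.ncard_le_ncard h1 (Finset.finite_toSet _)
    rw [Set.ncard_coe_finset] at h2
    have h3 : Nat.card E = (E : Set G).ncard := (Nat.card_coe_set_eq (E : Set G))
    rw [h3]
    exact h2.trans Finset.card_le_four
  have hpg : IsPGroup 2 E := by
    intro e
    refine ⟨1, ?_⟩
    apply Subtype.ext
    rw [pow_one, pow_two]
    exact hexp e e.2
  obtain ⟨k, hk⟩ := IsPGroup.iff_card.mp hpg
  have hne : Nat.card E ≠ 1 := by
    intro h1
    rw [Subgroup.card_eq_one] at h1
    rw [h1, Subgroup.mem_bot] at hzE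
    exact hz1 hzE
  refine ⟨E, hEn, hel, ?_⟩
  rw [hk] at hle hne ⊢
  have hk3 : k < 3 := by
    by_contra h
    have : 2 ^ 3 ≤ 2 ^ k := Nat.pow_le_pow_right (by norm_num) (by omega)
    omega
  interval_cases k
  · exact absurd rfl hne
  · left; rfl
  · right; rfl

end Ctx

end Cfsg.Agent.Lib.Helper73
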