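import Mathlib
import Cfsg.Agent.Lib.Helper73.V4CaseB

/-!
# Groups with an involution whose centralizer is a four-group: one class of involutions
-/

set_option autoImplicit false

namespace Cfsg.Agent.Lib.Helper73

section Ctx

variable {G : Type*} [Group G] [Finite G] {x a : G}

/-- all three involutions of the centralizer conjugate: the alternating group of degree five -/
theorem V4Ctx.caseA (c : V4Ctx x a) (h1 : IsConj x a) (h2 : IsConj x (x * a))
    (hC4 : Nat.card ↥(Subgroup.centralizer ({x} : Set G)) = 4)
    (hnc : ¬ Cfsg.HasNormalPComplement 2 G)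
    (hne : ∀ E : Subgroup G, E.Normal → Cfsg.IsElementaryAbelian 2 E →
      Nat.card ↥E ≠ 2 ∧ Nat.card ↥E ≠ 4) :
    Nonempty (G ≃* ↥(alternatingGroup (Fin 5))) := by
  haveI : Fact (Nat.Prime 2) := ⟨Nat.prime_two⟩
  obtain ⟨V, hV⟩ : ∃ V : Subgroup G, V = Subgroup.centralizer ({x} : Set G) := ⟨_, rfl⟩
  have hmemV : ∀ d, d ∈ V ↔ d * x = x * d := by
    intro d; rw [hV, Subgroup.mem_centralizer_singleton_iff]
  have hVcard : Nat.card V = 4 := by rw [hV]; exact hC4
  have hVp : IsPGroup 2 V := IsPGroup.of_card (n := 2) (by rw [hVcard]; norm_num)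
  obtain ⟨T, hVT⟩ := hVp.exists_le_sylow
  have hxT : x ∈ (T : Subgroup G) := hVT ((hmemV x).mpr rfl)
  -- a central involution of `T`
  haveI : Nontrivial ↥(T : Subgroup G) :=
    ⟨⟨⟨x, hxT⟩, 1, fun h => c.x_ne_one (congrArg Subtype.val h)⟩⟩
  have hcn : Nontrivial (Subgroup.center ↥(T : Subgroup G)) := T.isPGroup'.center_nontrivial
  have h2dvd : 2 ∣ Nat.card (Subgroup.center ↥(T : Subgroup G)) := by
    have hp : IsPGroup 2 (Subgroup.center ↥(T : Subgroup G)) := T.isPGroup'.to_subgroup _
    obtain ⟨k, hk⟩ := IsPGroup.iff_card.mp hp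
    have hne1 : Nat.card (Subgroup.center ↥(T : Subgroup G)) ≠ 1 := by
      intro h
      have := (Nat.card_eq_one_iff_unique.mp h).1
      exact not_subsingleton _ this
    rw [hk] at hne1 ⊢
    have hk0 : k ≠ 0 := by
      intro h0; rw [h0, pow_zero] at hne1; exact hne1 rfl
    exact dvd_pow_self 2 hk0
  obtain ⟨c₁, hc₁⟩ := exists_prime_orderOf_dvd_card' 2 h2dvd
  obtain ⟨c₀, hc₀⟩ : ∃ c₀ : G, c₀ = ((c₁ : ↥(T : Subgroup G)) : G) := ⟨_, rfl⟩
  have hc₀o : orderOf c₀ = 2 := by
    rw [hc₀, Subgroup.orderOf_coe, Subgroup.orderOf_coe]; exact hc₁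
  have hc₀T : ∀ t ∈ (T : Subgroup G), t * c₀ = c₀ * t := by
    intro t ht
    have := Subgroup.mem_center_iff.mp c₁.2 ⟨t, ht⟩
    rw [hc₀]
    exact congrArg Subtype.val this
  have hc₀x : IsConj x c₀ := by
    rcases c.cent c₀ (hc₀T x hxT).symm with h | h | h | h
    · exfalso
      rw [h, orderOf_one] at hc₀o
      omega
    · rw [h]
    · rw [h]; exact h1
    · rw [h]; exact h2
  obtain ⟨g, hg⟩ := isConj_iff.mp hc₀x
  have hTV : ∀ t ∈ (T : Subgroup G), g⁻¹ * t * g ∈ V := by
    intro t ht
    rw [hmemV]
    have h3 := hc₀T t ht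
    rw [← hg] at h3
    calc g⁻¹ * t * g * x = g⁻¹ * (t * (g * x * g⁻¹)) * g := by group
      _ = g⁻¹ * ((g * x * g⁻¹) * t) * g := by rw [h3]
      _ = x * (g⁻¹ * t * g) := by group
  have hTcard : Nat.card (T : Subgroup G) = 4 := by
    apply le_antisymm
    · rw [← hVcard]
      refine Nat.card_le_card_of_injective
        (fun t : (T : Subgroup G) => (⟨g⁻¹ * t * g, hTV t t.2⟩ : V)) ?_
      intro t₁ t₂ h
      have h' : g⁻¹ * (t₁ : G) * g = g⁻¹ * (t₂ : G) * g := congrArg Subtype.val h
      apply Subtype.ext
      calc (t₁ : G) = g * (g⁻¹ * t₁ * g) * g⁻¹ := by group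
        _ = g * (g⁻¹ * t₂ * g) * g⁻¹ := by rw [h']
        _ = t₂ := by group
    · rw [← hVcard]; exact Subgroup.card_le_of_le hVT
  have hTV' : (T : Subgroup G) = V := by
    symm; exact Subgroup.eq_of_le_of_card_ge hVT (by rw [hTcard, hVcard])
  -- all involutions are conjugate to `x`
  have hfus : ∀ u : G, orderOf u = 2 → IsConj u x := by
    intro u hu
    obtain ⟨k, hk⟩ := conj_mem_sylow_of_orderOf_two T u hu
    rw [hTV', hmemV] at hk
    have hne1 : k * u * k⁻¹ ≠ 1 := by
      intro h
      have hu1 : u = 1 := by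
        calc u = k⁻¹ * (k * u * k⁻¹) * k := by group
          _ = 1 := by rw [h]; group
      rw [hu1, orderOf_one] at hu
      omega
    rcases c.cent _ hk with h | h | h | h
    · exact absurd h hne1
    · exact isConj_iff.mpr ⟨k, h⟩
    · exact (isConj_iff.mpr ⟨k, h⟩ : IsConj u a).trans h1.symm
    · exact (isConj_iff.mpr ⟨k, h⟩ : IsConj u (x * a)).trans h2.symm
  have hidx : Nat.card G = 4 * (T : Subgroup G).index := by
    rw [← hTcard]; exact (Subgroup.card_mul_index _).symm
  have hodd : Odd (T : Subgroup G).index := by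
    rw [← Nat.not_even_iff_odd, even_iff_two_dvd]; exact T.not_dvd_index
  have hcardx : Nat.card {y : G // y * x * y⁻¹ = x} = 4 := by
    rw [← hVcard]
    exact Nat.card_congr (Equiv.subtypeEquivRight (fun y => by
      rw [hmemV, mul_inv_eq_iff_eq_mul]))
  have hexp : ∀ y : G, y * x = x * y → y * y = 1 :=
    fun y hy => c.cent_conj x (IsConj.refl x) y hy
  rcases v4_order x c.hx hcardx hexp hfus _ hodd hidx with h12 | ⟨h60, hperf⟩
  · exfalso
    have hTel : Cfsg.IsElementaryAbelian 2 (T : Subgroup G) := by
      refine ⟨IsPGroup.isMulCommutative_of_card_eq_prime_sq (p := 2)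
        (by rw [hTcard]; norm_num), ?_⟩
      intro t ht
      rw [hTV', hmemV] at ht
      rw [pow_two]; exact hexp t ht
    have hTi : (T : Subgroup G).index = 3 := by omega
    have hdvd : Nat.card (Sylow 2 G) ∣ 3 := by rw [← hTi]; exact Sylow.card_dvd_index T
    rcases (Nat.dvd_prime Nat.prime_three).mp hdvd with hn | hn
    · haveI : Subsingleton (Sylow 2 G) := (Nat.card_eq_one_iff_unique.mp hn).1
      exact (hne _ (Sylow.normal_of_subsingleton T) hTel).2 hTcard
    · have hnidx : (Subgroup.normalizer ((T : Subgroup G) : Set G)).index = 3 := by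
        have := Sylow.card_eq_index_normalizer T
        rw [hn] at this
        exact this.symm
      have hncard : Nat.card (Subgroup.normalizer ((T : Subgroup G) : Set G)) = 4 := by
        have h1 := (Subgroup.normalizer ((T : Subgroup G) : Set G)).card_mul_index
        rw [h12, hnidx] at h1
        omega
      have hnT : Subgroup.normalizer ((T : Subgroup G) : Set G) = (T : Subgroup G) := by
        symm
        apply Subgroup.eq_of_le_of_card_ge Subgroup.le_normalizer
        rw [hncard, hTcard]
      have hcomm : ∀ p q : (T : Subgroup G), p * q = q * p :=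
        fun p q => hTel.1.is_comm.comm p q
      have hP : Subgroup.normalizer ((T : Subgroup G) : Set G) ≤
          Subgroup.centralizer ((T : Subgroup G) : Set G) := by
        rw [hnT]
        intro p hp
        rw [Subgroup.mem_centralizer_iff]
        intro q hq
        exact congrArg Subtype.val (hcomm ⟨q, hq⟩ ⟨p, hp⟩)
      exact hnc ⟨T, (MonoidHom.transferSylow T hP).ker, inferInstance,
        MonoidHom.ker_transferSylow_isComplement' T hP⟩
  · have hsimple : IsSimpleGroup G := by
      refine simple_of_involutions hperf x a c.hx c.ha (by rw [c.hax]; exact c.xa_order)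
        ?_ hfus ?_
      · intro u d hu hd hodd'
        have hux : IsConj x u := by
          rcases hu with rfl | rfl | rfl
          · exact IsConj.refl _
          · exact h1
          · rw [c.hax]; exact h2
        have hd2 := c.cent_conj u hux d hd
        have h6 : orderOf d ∣ 2 := orderOf_dvd_of_pow_eq_one (by rw [pow_two, hd2])
        rcases (Nat.dvd_prime Nat.prime_two).mp h6 with h | h
        · exact orderOf_eq_one_iff.mp h
        · rw [h] at hodd'
          exact absurd hodd' (by decide)
      · intro N hN hall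
        have hVN : V ≤ N := by
          intro d hd
          rw [hmemV] at hd
          rcases c.cent d hd with h | h | h | h
          · rw [h]; exact N.one_mem
          · rw [h]; exact hall x c.hx
          · rw [h]; exact hall a c.ha
          · rw [h]; exact hall _ c.xa_order
        have h4 : 4 ∣ Nat.card N := by rw [← hVcard]; exact Subgroup.card_dvd_of_le hVN
        have hidx' : Nat.card N * N.index = 60 := by rw [N.card_mul_index, h60]
        have hcardq : Nat.card (G ⧸ N) = N.index := (Subgroup.index_eq_card N).symm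
        obtain ⟨j, hj⟩ := h4
        have h15 : N.index ∣ 15 := ⟨j, by rw [hj] at hidx'; lia⟩
        have hle : N.index ≤ 15 := Nat.le_of_dvd (by norm_num) h15
        have hcases : N.index = 3 ^ 0 * 5 ^ 0 ∨ N.index = 3 ^ 1 * 5 ^ 0 ∨
            N.index = 3 ^ 0 * 5 ^ 1 ∨ N.index = 3 ^ 1 * 5 ^ 1 := by
          generalize N.index = n at *
          interval_cases n <;> omega
        rcases hcases with h | h | h | h
        · exact Cfsg.Agent.S0144.result 3 5 0 0 Nat.prime_three Nat.prime_five (hcardq.trans h)
        · exact Cfsg.Agent.S0144.result 3 5 1 0 Nat.prime_three Nat.prime_five (hcardq.trans h)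
        · exact Cfsg.Agent.S0144.result 3 5 0 1 Nat.prime_three Nat.prime_five (hcardq.trans h)
        · exact Cfsg.Agent.S0144.result 3 5 1 1 Nat.prime_three Nat.prime_five (hcardq.trans h)
    exact @Cfsg.Agent.S0494.result G _ _ hsimple h60

end Ctx

/-- an involution with centralizer a four-group, no normal `2`-complement and no normal
elementary abelian subgroup of order two or four: the alternating group of degree five -/
theorem v4_main {G : Type*} [Group G] [Finite G] (x : G) (hx : orderOf x = 2)
    (hC4 : Nat.card ↥(Subgroup.centralizer ({x} : Set G)) = 4)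
    (hCe : ∀ c ∈ Subgroup.centralizer ({x} : Set G), c ^ 2 = 1)
    (hnc : ¬ Cfsg.HasNormalPComplement 2 G)
    (hne : ∀ E : Subgroup G, E.Normal → Cfsg.IsElementaryAbelian 2 E →
      Nat.card ↥E ≠ 2 ∧ Nat.card ↥E ≠ 4) :
    Nonempty (G ≃* ↥(alternatingGroup (Fin 5))) := by
  classical
  obtain ⟨V, hV⟩ : ∃ V : Subgroup G, V = Subgroup.centralizer ({x} : Set G) := ⟨_, rfl⟩
  have hmemV : ∀ d, d ∈ V ↔ d * x = x * d := by
    intro d; rw [hV, Subgroup.mem_centralizer_singleton_iff]
  have hVcard : Nat.card V = 4 := by rw [hV]; exact hC4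
  have hVncard : (V : Set G).ncard = 4 := by
    rw [← Nat.card_coe_set_eq]; exact hVcard
  have hx2 : x * x = 1 := by rw [← pow_two, ← hx, pow_orderOf_eq_one]
  have hx1 : x ≠ 1 := by intro h; rw [h, orderOf_one] at hx; omega
  have hexa : ∃ a ∈ V, a ≠ 1 ∧ a ≠ x := by
    by_contra hcon
    push Not at hcon
    have hsub : (V : Set G) ⊆ ((({1, x} : Finset G)) : Set G) := by
      intro d hd
      simp only [Finset.coe_insert, Finset.coe_singleton, Set.mem_insert_iff,
        Set.mem_singleton_iff]
      by_cases h : d = 1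
      · exact Or.inl h
      · exact Or.inr (hcon d hd h)
    have h2 := Set.ncard_le_ncard hsub (Finset.finite_toSet _)
    rw [Set.ncard_coe_finset, hVncard] at h2
    have := (Finset.card_le_two (a := (1 : G)) (b := x))
    omega
  obtain ⟨a, haV, ha1, hax'⟩ := hexa
  have hax : a * x = x * a := (hmemV a).mp haV
  have ha2 : a * a = 1 := by
    have := hCe a (hV ▸ haV)
    rwa [pow_two] at this
  have hao : orderOf a = 2 := orderOf_eq_prime (by rw [pow_two]; exact ha2) ha1
  have hxa1 : x * a ≠ 1 := by
    intro h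
    apply hax'
    have h1 : a = x⁻¹ := (eq_inv_of_mul_eq_one_right h)
    rw [h1, inv_eq_of_mul_eq_one_left hx2]
  have hcent : ∀ d : G, d * x = x * d → d = 1 ∨ d = x ∨ d = a ∨ d = x * a := by
    have hS : ((({1, x, a, x * a} : Finset G)) : Set G) ⊆ (V : Set G) := by
      intro d hd
      simp only [Finset.coe_insert, Finset.coe_singleton, Set.mem_insert_iff,
        Set.mem_singleton_iff] at hd
      rcases hd with rfl | rfl | rfl | rfl
      · exact V.one_mem
      · exact (hmemV _).mpr rfl
      · exact haV
      · exact V.mul_mem ((hmemV _).mpr rfl) haV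
    have n1 : (1 : G) ∉ ({x, a, x * a} : Finset G) := by
      simp only [Finset.mem_insert, Finset.mem_singleton, not_or]
      exact ⟨fun h => hx1 h.symm, fun h => ha1 h.symm, fun h => hxa1 h.symm⟩
    have n2 : x ∉ ({a, x * a} : Finset G) := by
      simp only [Finset.mem_insert, Finset.mem_singleton, not_or]
      exact ⟨fun h => hax' h.symm, fun h => ha1 (mul_eq_left.mp h.symm)⟩
    have n3 : a ∉ ({x * a} : Finset G) := by
      simp only [Finset.mem_singleton]
      exact fun h => hx1 (mul_eq_right.mp h.symm)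
    have hScard : ({1, x, a, x * a} : Finset G).card = 4 := by
      rw [Finset.card_insert_of_notMem n1, Finset.card_insert_of_notMem n2,
        Finset.card_insert_of_notMem n3, Finset.card_singleton]
    have heq := Set.eq_of_subset_of_ncard_le hS
      (by rw [Set.ncard_coe_finset, hScard, hVncard]) (Set.toFinite _)
    intro d hd
    have hdV : d ∈ (V : Set G) := (hmemV d).mpr hd
    rw [← heq] at hdV
    simpa using hdV
  have c : V4Ctx x a := ⟨hx, hao, hax, hax', hcent⟩
  by_cases h1 : IsConj x a
  · by_cases h2 : IsConj x (x * a)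
    · exact c.caseA h1 h2 hC4 hnc hne
    · exfalso
      obtain ⟨E, hEn, hEel, hE⟩ := c.caseB h1 h2
      rcases hE with h | h
      · exact (hne E hEn hEel).1 h
      · exact (hne E hEn hEel).2 h
  · by_cases h2 : IsConj x (x * a)
    · exfalso
      have h1' : ¬ IsConj x (x * (x * a)) := by
        rw [← mul_assoc, hx2, one_mul]; exact h1
      obtain ⟨E, hEn, hEel, hE⟩ := c.swap.caseB h2 h1'
      rcases hE with h | h
      · exact (hne E hEn hEel).1 h
      · exact (hne E hEn hEel).2 h
    · exact absurd (c.caseC h1 h2) hnc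

end Cfsg.Agent.Lib.Helper73
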